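import Cfsg.Agent.H54.Jan3.TwoCore
import Cfsg.Agent.H8.OrderFormula

/-!
The order of `E` is 2^13; conjugation by `C(z)` inside the centraliser of a noncentral element of
order three preserves `x` modulo `E`.
-/

set_option autoImplicit false

open Cfsg Subgroup
open scoped commutatorElement

namespace H54.Jan3

variable {G : Type*} [Group G]

theorem cent_zpowers (v : G) : centralizer (zpowers v : Set G) = cen v := by
  ext a
  constructor
  · intro h; exact mem_cen.2 (mem_centralizer_iff.1 h v (mem_zpowers v)).symm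
  · intro h
    refine mem_centralizer_iff.2 fun b hb => ?_
    obtain ⟨k, rfl⟩ := mem_zpowers_iff.1 hb
    exact ((show Commute v a from (mem_cen.1 h).symm).zpow_left k).eq

/-- fixed points of an element of prime order on a subgroup it normalises -/
theorem card_fix_modEq [Finite G] {p : ℕ} (hp : p.Prime) (R : Subgroup G) {r : G} (hr : r ^ p = 1)
    (hn : ∀ a ∈ R, r * a * r⁻¹ ∈ R) :
    Nat.card R ≡ Nat.card (R ⊓ cen r : Subgroup G) [MOD p] := by
  haveI := Fact.mk hp
  have hN : ∀ g ∈ zpowers r, g ∈ normalizer (R : Set G) := by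
    intro g hg
    refine zpowers_le.2 ?_ hg
    haveI : Fintype ↥(R : Set G) := Fintype.ofFinite _
    exact Subgroup.mem_normalizer_fintype hn
  letI : MulAction (zpowers r) R :=
    { smul := fun g a => ⟨(g : G) * a * (g : G)⁻¹, (mem_normalizer_iff.1 (hN g g.2) a).1 a.2⟩
      one_smul := fun a => Subtype.ext (show ((1 : zpowers r) : G) * a * ((1 : zpowers r) : G)⁻¹ = a by simp)
      mul_smul := fun g k a => Subtype.ext (show ((g * k : zpowers r) : G) * a * ((g * k : zpowers r) : G)⁻¹ =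
        (g : G) * ((k : G) * a * (k : G)⁻¹) * (g : G)⁻¹ by simp [mul_assoc]) }
  have hpg : IsPGroup p (zpowers r) := by
    rintro ⟨a, ha⟩
    obtain ⟨k, rfl⟩ := mem_zpowers_iff.1 ha
    refine ⟨1, Subtype.ext ?_⟩
    show (r ^ k) ^ p ^ 1 = 1
    rw [pow_one, ← zpow_natCast, ← zpow_mul, mul_comm, zpow_mul, zpow_natCast, hr, one_zpow]
  have hm := hpg.card_modEq_card_fixedPoints R
  refine hm.trans (show _ ≡ _ [MOD p] from congrArg (· % p) (Nat.card_congr
    { toFun := fun a => ⟨((a : R) : G), (a : R).2, mem_cen.2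
        (mul_inv_eq_iff_eq_mul.1 (show r * ((a : R) : G) * r⁻¹ = (a : R) from
          congrArg Subtype.val (a.2 ⟨r, mem_zpowers r⟩))).symm⟩
      invFun := fun a => ⟨⟨a, a.2.1⟩, fun g => Subtype.ext (by
        obtain ⟨k, hk⟩ := mem_zpowers_iff.1 g.2
        show (g : G) * (a : G) * (g : G)⁻¹ = a
        rw [← hk, ((show Commute r (a : G) from (mem_cen.1 a.2.2).symm).zpow_left k).eq,
          mul_inv_cancel_right])⟩
      left_inv := fun a => rfl
      right_inv := fun a => rfl }))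

theorem two_pow_mod_eleven {k n : ℕ} (hk : k ≤ n) (hn : n ≤ 9) (h : 2 ^ n ≡ 2 ^ k [MOD 11]) : k = n := by
  interval_cases n <;> interval_cases k <;> simp_all [Nat.ModEq]

namespace Hyp

variable {x z : G} (h : Hyp x z)
include h

variable [Finite G]

theorem exists_eleven : ∃ r ∈ cen x, orderOf r = 11 := by
  haveI : Fact (Nat.Prime 11) := ⟨by norm_num⟩
  obtain ⟨r, hr⟩ := exists_prime_orderOf_dvd_card' (G := cen x) 11
    (by rw [h.toCov.card_cen]; norm_num)
  exact ⟨r, r.2, by rw [Subgroup.orderOf_coe]; exact hr⟩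

section Noncentral

variable {y : G} (hy : y ∈ cen x) (y3 : y ^ 3 = 1) (yn : y ∉ zpowers x)
include hy y3 yn

theorem card_inf_inv {R : Subgroup G} (hn : ∀ c ∈ cen x, ∀ r ∈ R, c * r * c⁻¹ ∈ R)
    {b : G} (hb : b ∈ cen x) (b3 : b ^ 3 = 1) (bn : b ∉ zpowers x) :
    Nat.card (R ⊓ cen b : Subgroup G) = Nat.card (R ⊓ cen y : Subgroup G) := by
  obtain ⟨c, hc, hcb⟩ := h.toCov.three_conj hy y3 yn hb b3 bn
  rw [← hcb]
  exact card_inf_conj _ fun r hr => hn c hc r hr

theorem card_inf_noncentral {b : G} (hb : b ∈ cen x) (b3 : b ^ 3 = 1) (bn : b ∉ zpowers x) :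
    Nat.card (twoCoreOfCentralizer z ⊓ cen b : Subgroup G) =
      Nat.card (twoCoreOfCentralizer z ⊓ cen y : Subgroup G) :=
  h.card_inf_inv hy y3 yn (fun _ hc _ hr => h.core_conj (h.toCov.cen_le hc) hr) hb b3 bn

/-- Wielandt's formula on a subgroup of `E` normalised by the centraliser of `x`. -/
theorem order_equation_sub {R : Subgroup G} (hR : R ≤ twoCoreOfCentralizer z) (hzR : z ∈ R)
    (hn : ∀ c ∈ cen x, ∀ r ∈ R, c * r * c⁻¹ ∈ R) :
    Nat.card R * 2 ^ 4 = 4 * Nat.card (R ⊓ cen y : Subgroup G) ^ 3 := by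
  classical
  haveI : Fact (Nat.Prime 3) := ⟨Nat.prime_three⟩
  have hRx : R ⊓ cen x = zpowers z := le_antisymm
    (fun a ha => h.core_inf_x.le ⟨hR ha.1, ha.2⟩) (zpowers_le.2 ⟨hzR, h.zC⟩)
  set B := zpowers x ⊔ zpowers y with hB
  letI : Fintype {D : Subgroup G // D ≤ B ∧ Nat.card D = 3} := Fintype.ofFinite _
  have hEA : Cfsg.IsElementaryAbelian 3 B :=
    ⟨h.toCov.pair_comm hy y3 yn, fun a ha => h.toCov.pair_pow hy y3 yn ha⟩
  have hf := H8.order_formula (p := 3) (K := R) hEA (by rw [h.toCov.card_pair hy y3 yn]; norm_num)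
    (H8.not_dvd_card_of_le hR h.not_dvd_core)
    (H8.le_normalizer_of_conj_mem fun a ha r hr => hn a (h.toCov.pair_le hy y3 yn ha) r hr)
  have hone : ∀ v ∈ B, v ≠ 1 → Nat.card (zpowers v) = 3 := fun v hv hv1 => by
    rw [Nat.card_zpowers, orderOf_eq_prime (h.toCov.pair_pow hy y3 yn hv) hv1]
  have xB : x ∈ B := mem_sup_left (mem_zpowers x)
  have twB : ∀ j : ℕ, y * x ^ j ∈ B := fun j =>
    mul_mem (mem_sup_right (mem_zpowers y)) (pow_mem xB j)
  have tw1 : ∀ j : ℕ, y * x ^ j ≠ 1 := fun j e =>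
    h.toCov.notMem_mul hy y3 yn j (e ▸ one_mem _)
  let f : Fin 4 → {D : Subgroup G // D ≤ B ∧ Nat.card D = 3} := fun i =>
    if hi : i.val = 0 then ⟨zpowers x, zpowers_le.2 xB, hone x xB h.toCov.x_ne⟩
    else ⟨zpowers (y * x ^ (i.val - 1)), zpowers_le.2 (twB _), hone _ (twB _) (tw1 _)⟩
  have hfb : Function.Bijective f := by
    constructor
    · have key : ∀ a b : ℕ, a < 3 → b < 3 → zpowers (y * x ^ a) = zpowers (y * x ^ b) → a = b := by
        intro a b ha hb e
        obtain ⟨k, hk⟩ : ∃ k : ℕ, (y * x ^ b) ^ k = y * x ^ a :=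
          mem_powers_iff_mem_zpowers.2 (e ▸ mem_zpowers _)
        have hc : Commute y x := mem_cen.1 hy
        rw [(hc.pow_right b).mul_pow, ← pow_mul] at hk
        -- the exponent of `y` must be one
        have hy1 : y ^ k = y := by
          have h1 : y ^ k * y⁻¹ ∈ zpowers x := by
            have e2 : y ^ k * y⁻¹ = x ^ a * (x ^ (b * k))⁻¹ := by
              have e3 : y ^ k = y * x ^ a * (x ^ (b * k))⁻¹ := by rw [← hk, mul_inv_cancel_right]
              rw [e3, (hc.pow_right a).eq, mul_assoc (x ^ a),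
                ((hc.pow_right (b * k)).inv_right).eq, ← mul_assoc, mul_inv_cancel_right]
            rw [e2]
            exact mul_mem (pow_mem (mem_zpowers x) _) (inv_mem (pow_mem (mem_zpowers x) _))
          rw [pow_eq_pow_mod k y3] at h1 ⊢
          rcases (show k % 3 = 0 ∨ k % 3 = 1 ∨ k % 3 = 2 by omega) with e | e | e <;> rw [e] at h1 ⊢
          · exfalso; rw [pow_zero, one_mul, inv_mem_iff] at h1; exact yn h1
          · rw [pow_one]
          · exfalso; rw [pow_two, mul_inv_cancel_right] at h1; exact yn h1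
        rw [hy1] at hk
        have hk' := mul_left_cancel hk
        have hk1 : k % 3 = 1 := by
          have : y ^ (k % 3) = y ^ 1 := by rw [← pow_eq_pow_mod k y3, hy1, pow_one]
          have ho : orderOf y = 3 := orderOf_eq_prime y3 fun e => yn (e ▸ one_mem _)
          have := pow_inj_mod.1 this
          rw [ho] at this
          simpa using this
        have := pow_inj_mod.1 hk'
        rw [h.hx, Nat.mul_mod, hk1] at this
        omega
      intro i i' e
      have e' := congrArg Subtype.val e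
      simp only [f] at e'
      split_ifs at e' with h0 h1 h1
      · exact Fin.ext (h0.trans h1.symm)
      · exact absurd (SetLike.ext_iff.1 e' _ |>.2 (mem_zpowers (y * x ^ (i'.val - 1)))) (h.toCov.notMem_mul hy y3 yn _)
      · exact absurd (SetLike.ext_iff.1 e' _ |>.1 (mem_zpowers (y * x ^ (i.val - 1)))) (h.toCov.notMem_mul hy y3 yn _)
      · have := key _ _ (by omega) (by omega) e'
        exact Fin.ext (by omega)
    · rintro ⟨D, hD, hD3⟩
      haveI : Nontrivial D := by rw [← Finite.one_lt_card_iff_nontrivial, hD3]; norm_num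
      obtain ⟨⟨v, hv⟩, hv1⟩ := exists_ne (1 : D)
      have hv1' : v ≠ 1 := fun e => hv1 (Subtype.ext e)
      have hDv : zpowers v = D := eq_of_le_of_card_ge (zpowers_le.2 hv) (by rw [hD3, hone v (hD hv) hv1'])
      obtain ⟨i, hi, j, hj, e⟩ := (h.toCov.mem_pair hy y3 yn).1 (hD hv)
      have hfin : ∀ a : ℕ, a < 3 → v ∈ zpowers (y * x ^ a) → ∃ q, f q = ⟨D, hD, hD3⟩ := fun a ha hva => by
        refine ⟨⟨a + 1, by omega⟩, Subtype.ext ?_⟩
        simp only [f, dif_neg (Nat.succ_ne_zero a), Nat.add_sub_cancel]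
        rw [← hDv]
        exact (eq_of_le_of_card_ge (zpowers_le.2 hva)
          (by rw [hone _ (twB _) (tw1 _), hone v (hD hv) hv1'])).symm
      interval_cases j
      · refine ⟨0, Subtype.ext ?_⟩
        simp only [f, Fin.val_zero, dif_pos]
        rw [← hDv]
        refine (eq_of_le_of_card_ge (zpowers_le.2 ?_) (by rw [hone v (hD hv) hv1', Nat.card_zpowers, h.hx])).symm
        rw [e, pow_zero, mul_one]; exact pow_mem (mem_zpowers x) i
      · refine hfin i hi ?_
        rw [e, pow_one, show x ^ i * y = y * x ^ i from ((show Commute y x from mem_cen.1 hy).pow_right i).eq.symm]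
        exact mem_zpowers _
      · refine hfin (2 * i % 3) (Nat.mod_lt _ (by norm_num)) ?_
        have : v = (y * x ^ (2 * i % 3)) ^ 2 := by
          rw [e, ((show Commute y x from mem_cen.1 hy).pow_right _).mul_pow, ← pow_mul,
            pow_eq_pow_mod (2 * i % 3 * 2) h.x3, show 2 * i % 3 * 2 % 3 = i % 3 by omega,
            ← pow_eq_pow_mod i h.x3, ((show Commute y x from mem_cen.1 hy).pow_pow 2 i).eq]
        rw [this]; exact pow_mem (mem_zpowers _) 2
  have hcard : Fintype.card {D : Subgroup G // D ≤ B ∧ Nat.card D = 3} = 4 := by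
    rw [← Fintype.card_of_bijective hfb, Fintype.card_fin]
  have hCB : (R ⊓ centralizer (B : Set G) : Subgroup G) = zpowers z := by
    refine le_antisymm ?_ (zpowers_le.2 ⟨hzR, mem_centralizer_iff.2 fun b hb =>
      mem_cen.1 (h.toCov.cen_le (h.toCov.pair_le hy y3 yn hb))⟩)
    rw [← hRx]
    exact fun a ha => ⟨ha.1, mem_cen.2 (mem_centralizer_iff.1 ha.2 x xB).symm⟩
  rw [hcard, hCB, Nat.card_zpowers, h.hz, ← Fintype.prod_bijective f hfb
    (fun i => Nat.card (R ⊓ centralizer ((f i).1 : Set G) : Subgroup G)) _ (fun _ => rfl)] at hf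
  rw [hf, Fin.prod_univ_four]
  simp only [f, Fin.val_zero, Fin.val_one, Fin.val_two, dif_pos, one_ne_zero, dite_false,
    OfNat.ofNat_ne_zero]
  have e3 : ((3 : Fin 4).val) = 3 := rfl
  simp only [e3, cent_zpowers, OfNat.ofNat_ne_zero, dite_false]
  rw [hRx, Nat.card_zpowers, h.hz]
  rw [h.card_inf_inv hy y3 yn hn (h.toCov.twisted hy y3 yn (1 - 1)).1
      (h.toCov.twisted hy y3 yn (1 - 1)).2 (h.toCov.notMem_mul hy y3 yn _),
    h.card_inf_inv hy y3 yn hn (h.toCov.twisted hy y3 yn (2 - 1)).1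
      (h.toCov.twisted hy y3 yn (2 - 1)).2 (h.toCov.notMem_mul hy y3 yn _),
    h.card_inf_inv hy y3 yn hn (h.toCov.twisted hy y3 yn (3 - 1)).1
      (h.toCov.twisted hy y3 yn (3 - 1)).2 (h.toCov.notMem_mul hy y3 yn _)]
  ring

theorem order_equation :
    Nat.card (twoCoreOfCentralizer z) * 2 ^ 4 =
      4 * Nat.card (twoCoreOfCentralizer z ⊓ cen y : Subgroup G) ^ 3 :=
  h.order_equation_sub hy y3 yn le_rfl h.z_mem_core
    fun _ hc _ hr => h.core_conj (h.toCov.cen_le hc) hr

/-- The orders of `E` and of the fixed points of `y`. -/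
theorem card_core_inf :
    Nat.card (twoCoreOfCentralizer z ⊓ cen y : Subgroup G) = 2 ^ 5 ∧
      Nat.card (twoCoreOfCentralizer z) = 2 ^ 13 := by
  obtain ⟨⟨j, hj, hc⟩, -⟩ := h.core_inf_bound hy y3 yn
  have he := h.order_equation hy y3 yn
  rw [hc, ← pow_mul] at he
  obtain ⟨n, hn⟩ := IsPGroup.iff_card.1 h.core_p
  rw [hn, ← pow_add, show (4 : ℕ) = 2 ^ 2 from rfl, ← pow_add] at he
  have hn' := Nat.pow_right_injective le_rfl he
  interval_cases j
  · exfalso
    refine h.core_ne (eq_of_le_of_card_ge (zpowers_le.2 h.z_mem_core) ?_).symm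
    rw [hn, Nat.card_zpowers, h.hz, show n = 1 by omega]; norm_num
  · exfalso
    obtain ⟨r, hr, hro⟩ := h.exists_eleven
    have hrH := h.toCov.cen_le hr
    have hm := card_fix_modEq (p := 11) (by norm_num) (twoCoreOfCentralizer z)
      (by rw [← hro]; exact pow_orderOf_eq_one r) fun a ha => h.core_conj hrH ha
    obtain ⟨k, hk⟩ := IsPGroup.iff_card.1 (h.core_p.to_le
      (inf_le_left : twoCoreOfCentralizer z ⊓ cen r ≤ _))
    have hk7 : k ≤ n := (Nat.pow_le_pow_iff_right (a := 2) (by norm_num)).1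
      (by rw [← hk, ← hn]; exact card_le_of_le inf_le_left)
    rw [hk, hn] at hm
    have hkn := two_pow_mod_eleven hk7 (by omega) hm
    have heq : twoCoreOfCentralizer z ⊓ cen r = twoCoreOfCentralizer z :=
      eq_of_le_of_card_ge inf_le_left (by rw [hk, hn, hkn])
    have hrE := h.self ⟨hrH, mem_centralizer_iff.2 fun a ha =>
      mem_cen.1 (heq.ge ha).2⟩
    have := h.odd_core hrE (hro ▸ pow_orderOf_eq_one r) (show Odd 11 from ⟨5, rfl⟩)
    rw [this, orderOf_one] at hro
    omega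
  · exact ⟨hc, by rw [hn, show n = 13 by omega]⟩

/-- An element of order three congruent to `v` modulo `E` has fixed points of the same size. -/
theorem card_inf_congr {v v' : G} (hv : v ∈ cen x) (v3 : v ^ 3 = 1) (v'3 : v' ^ 3 = 1)
    (hm : v' * v⁻¹ ∈ twoCoreOfCentralizer z) (hne : v ≠ 1) :
    Nat.card (twoCoreOfCentralizer z ⊓ cen v' : Subgroup G) =
      Nat.card (twoCoreOfCentralizer z ⊓ cen v : Subgroup G) := by
  haveI : Fact (Nat.Prime 3) := ⟨Nat.prime_three⟩
  set E := twoCoreOfCentralizer z with hE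
  have hvH : v ∈ cen z := h.toCov.cen_le hv
  have hv'H : v' ∈ cen z := by
    have := mul_mem (h.core_le hm) hvH
    rwa [inv_mul_cancel_right] at this
  have hn : zpowers v ≤ normalizer (E : Set G) := H8.le_normalizer_of_conj_mem fun a ha e he =>
    h.core_conj ((zpowers_le.2 hvH) ha) he
  set L := zpowers v ⊔ E with hL
  have hdis : zpowers v ⊓ E = ⊥ := by
    rw [eq_bot_iff]
    rintro a ⟨ha1, ha2⟩
    obtain ⟨k, rfl⟩ := mem_zpowers_iff.1 ha1
    rw [mem_bot]
    refine h.odd_core (n := 3) ha2 ?_ ⟨1, rfl⟩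
    rw [← zpow_natCast, ← zpow_mul, mul_comm, zpow_mul, zpow_natCast, v3, one_zpow]
  have hLc : Nat.card L = 3 * Nat.card E := by
    have := card_mul_sup hn
    rwa [hdis, Subgroup.card_bot, mul_one, Nat.card_zpowers, orderOf_eq_prime v3 hne] at this
  have hv'L : v' ∈ L := by
    have : v' = (v' * v⁻¹) * v := by group
    rw [this]
    exact mul_mem (mem_sup_right hm) (mem_sup_left (mem_zpowers v))
  have hv'1 : v' ≠ 1 := fun e => hne (by
    have : v⁻¹ ∈ E := by simpa [e] using hm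
    exact inv_eq_one.1 (h.odd_core (n := 3) this (by rw [inv_pow, v3, inv_one]) ⟨1, rfl⟩))
  have hfac : (Nat.card L).factorization 3 = 1 := by
    rw [hLc, Nat.factorization_mul (by norm_num) Nat.card_pos.ne', Nat.prime_three.factorization]
    simp [Nat.factorization_eq_zero_of_not_dvd (show ¬ 3 ∣ Nat.card E from h.not_dvd_core)]
  have mkS : ∀ w : G, (hw : w ∈ L) → w ^ 3 = 1 → w ≠ 1 →
      Nat.card (zpowers (⟨w, hw⟩ : L)) = 3 ^ (Nat.card L).factorization 3 := fun w hw w3 w1 => by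
    rw [hfac, pow_one, Nat.card_zpowers, ← Subgroup.orderOf_coe, orderOf_eq_prime w3 w1]
  have hvL : v ∈ L := mem_sup_left (mem_zpowers v)
  obtain ⟨k, hk⟩ := MulAction.exists_smul_eq L (Sylow.ofCard _ (mkS v hvL v3 hne))
    (Sylow.ofCard _ (mkS v' hv'L v'3 hv'1))
  have hk' : (k : G) * v * (k : G)⁻¹ ∈ zpowers v' := by
    have : k * ⟨v, hvL⟩ * k⁻¹ ∈ ((k • Sylow.ofCard _ (mkS v hvL v3 hne) : Sylow 3 L) : Subgroup L) := by
      rw [Sylow.coe_subgroup_smul]; exact ⟨⟨v, hvL⟩, mem_zpowers _, by simp⟩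
    rw [hk] at this
    obtain ⟨m, hm'⟩ := mem_zpowers_iff.1 (show k * ⟨v, hvL⟩ * k⁻¹ ∈ zpowers (⟨v', hv'L⟩ : L) from this)
    exact mem_zpowers_iff.2 ⟨m, by simpa using congrArg Subtype.val hm'⟩
  have hkn : ∀ e ∈ E, (k : G) * e * (k : G)⁻¹ ∈ E := fun e he =>
    h.core_conj ((sup_le (zpowers_le.2 hvH) h.core_le : L ≤ cen z) k.2) he
  rw [← card_inf_conj E (g := (k : G)) (v := v) hkn]
  have hz : zpowers ((k : G) * v * (k : G)⁻¹) = zpowers v' := by
    refine eq_of_le_of_card_ge (zpowers_le.2 hk') (le_of_eq ?_)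
    rw [Nat.card_zpowers, Nat.card_zpowers, orderOf_eq_prime v'3 hv'1,
      show (k : G) * v * (k : G)⁻¹ = MulAut.conj (k : G) v from rfl, MulEquiv.orderOf_eq,
      orderOf_eq_prime v3 hne]
  rw [← cent_zpowers v', ← hz, cent_zpowers]

/-- Inside the centraliser of `y` in `C(z)`, conjugation fixes the class of `x` modulo `E`. -/
theorem x_conj_mod {c : G} (hc : c ∈ cen z ⊓ cen y) :
    ∃ w ∈ twoCoreOfCentralizer z, ∃ i : ℕ, c * x * c⁻¹ = w * x ^ i := by
  obtain ⟨g, hg⟩ := h.conj_x hy y3 yn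
  obtain ⟨hc5, -⟩ := h.card_core_inf hy y3 yn
  obtain ⟨w, hw, i, a, b, he⟩ := (h.core_inf_bound hy y3 yn).2 hc5 g hg c hc
  set E := twoCoreOfCentralizer z with hE
  set s := g * z * g⁻¹ with hs
  set v' := c * x * c⁻¹ with hv'
  have v'3 : v' ^ 3 = 1 := by rw [hv', conj_pow, h.x3, mul_one, mul_inv_cancel]
  have hxg : g⁻¹ * x * g ∈ cen x := by
    have := conj_mem_cen g⁻¹ (cen_symm hy)
    rwa [inv_inv, ← hg, show g⁻¹ * (g * x * g⁻¹) * g = x by group] at this
  have hsx : s ∈ cen x := by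
    have := conj_mem_cen g (cen_symm (h.toCov.cen_le hxg))
    rwa [show g * (g⁻¹ * x * g) * g⁻¹ = x by group] at this
  have hsy : s ∈ cen y := by rw [← hg]; exact conj_mem_cen g h.zC
  have s2 : s ^ 2 = 1 := by rw [hs, conj_pow, h.toCov.z2, mul_one, mul_inv_cancel]
  set v := x ^ i * y ^ b with hv
  have hvB : v ∈ zpowers x ⊔ zpowers y :=
    mul_mem (mem_sup_left (pow_mem (mem_zpowers x) i)) (mem_sup_right (pow_mem (mem_zpowers y) b))
  have v3 := h.toCov.pair_pow hy y3 yn hvB
  have hvC := h.toCov.pair_le hy y3 yn hvB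
  have hsv : Commute (s ^ a) v :=
    (((show Commute s x from mem_cen.1 hsx).pow_pow a i).mul_right
      ((show Commute s y from mem_cen.1 hsy).pow_pow a b))
  have hv'eq : v' = w * (v * s ^ a) := by
    rw [he, hv]
    have : x ^ i * y ^ b * s ^ a = x ^ i * s ^ a * y ^ b := by
      rw [mul_assoc, ((show Commute y s from (mem_cen.1 hsy).symm).pow_pow b a).eq, ← mul_assoc]
    rw [this]; group
  have hwH : v * s ^ a ∈ cen z :=
    mul_mem (h.toCov.cen_le hvC) (pow_mem (h.toCov.cen_le hsx) a)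
  -- the exponent of the involution vanishes: compare cubes modulo `E`
  have hsa : s ^ a = 1 := by
    have hcube : (v * s ^ a) ^ 3 ∈ E := by
      have e1 : v * s ^ a = w⁻¹ * v' := by rw [hv'eq, inv_mul_cancel_left]
      have hv'H : v' ∈ cen z := by rw [hv'eq]; exact mul_mem (h.core_le hw) hwH
      have n1 : ∀ e ∈ E, v' * e * v'⁻¹ ∈ E := fun e he => h.core_conj hv'H he
      have e2 : (w⁻¹ * v') ^ 3 =
          w⁻¹ * (v' * w⁻¹ * v'⁻¹) * (v' * (v' * w⁻¹ * v'⁻¹) * v'⁻¹) * v' ^ 3 := by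
        simp only [pow_succ, pow_zero, one_mul, mul_assoc, inv_mul_cancel_left]
      rw [e1, e2, v'3, mul_one]
      exact mul_mem (mul_mem (inv_mem hw) (n1 _ (inv_mem hw))) (n1 _ (n1 _ (inv_mem hw)))
    rw [hsv.symm.mul_pow, v3, one_mul, ← pow_mul] at hcube
    rcases Nat.mod_two_eq_zero_or_one a with ha | ha
    · rw [pow_eq_pow_mod a s2, ha, pow_zero]
    · exfalso
      rw [pow_eq_pow_mod _ s2, show a * 3 % 2 = 1 by omega, pow_one] at hcube
      have : s ∈ E ⊓ cen x := ⟨hcube, hsx⟩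
      rw [h.core_inf_x] at this
      obtain ⟨k, hk⟩ : ∃ k : ℕ, z ^ k = s := mem_powers_iff_mem_zpowers.2 this
      rcases Nat.mod_two_eq_zero_or_one k with e | e <;> rw [pow_eq_pow_mod k h.toCov.z2, e] at hk
      · exact h.toCov.z_ne (conj_eq_one_iff.1 ((pow_zero z) ▸ hk.symm : g * z * g⁻¹ = 1))
      · exact h.z_moved hy y3 yn hg (by rw [← hs, ← hk, pow_one])
  rw [hsa, mul_one] at hv'eq
  refine ⟨w, hw, i, ?_⟩
  by_cases hb : b % 3 = 0
  · rw [hv'eq, hv, pow_eq_pow_mod b y3, hb, pow_zero, mul_one]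
  · exfalso
    have hvn : v ∉ zpowers x := by
      rw [hv, pow_eq_pow_mod b y3]
      exact h.toCov.notMem_of_mem hy y3 yn (by omega)
    have hm : v' * v⁻¹ ∈ E := by rw [hv'eq, mul_inv_cancel_right]; exact hw
    have hcv := h.card_inf_congr hy y3 yn hvC v3 v'3 hm fun e => hvn (e ▸ one_mem _)
    rw [h.card_inf_noncentral hy y3 yn hvC v3 hvn, hc5, hv',
      card_inf_conj E (g := c) (v := x) (fun r hr => h.core_conj hc.1 hr), h.core_inf_x,
      Nat.card_zpowers, h.hz] at hcv
    norm_num at hcv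

end Noncentral

end Hyp

end H54.Jan3
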