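import Cfsg.Agent.H54.Jan3.Loc
import Cfsg.Agent.H42.J4.Cent

/-!
An involution count shows that `zpowers x` is normal, once the centralisers of the inner involutions
normalise it; the quotient is then the automorphism group of M22.
-/

set_option autoImplicit false

open Cfsg Subgroup
open scoped commutatorElement

namespace H54.Jan3

open H25.M22 (G22)

/-- an involution of the group `P` with no elements of order 35, 55, 77 inverts at most eleven elements -/
theorem inverted_card_le {G : Type*} [Group G] [Finite G] (hno : ∀ a : G, orderOf a ≠ 35 ∧ orderOf a ≠ 55 ∧ orderOf a ≠ 77)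
    (P : Subgroup G) (hd : Nat.card P ∣ 385) (β : MulAut G) (hβ : ∀ a ∈ P, β a ∈ P) :
    Nat.card {p : G // p ∈ P ∧ β p = p⁻¹} ≤ 11 := by
  classical
  have hle : Nat.card {p : G // p ∈ P ∧ β p = p⁻¹} ≤ Nat.card P :=
    Nat.card_le_card_of_injective (fun p => (⟨p.1, p.2.1⟩ : P))
      fun p q e => Subtype.ext (congrArg (fun u : P => (u : G)) e)
  by_contra hbig
  haveI : Fact (Nat.Prime 5) := ⟨by norm_num⟩
  haveI : Fact (Nat.Prime 7) := ⟨by norm_num⟩
  haveI : Fact (Nat.Prime 11) := ⟨by norm_num⟩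
  -- normal subgroups of prime order
  have uniq : ∀ p : ℕ, p.Prime → p ∣ Nat.card P → (∀ n, n ∣ Nat.card P → ¬ p ∣ n → n % p = 1 → n = 1) →
      ¬ p * p ∣ Nat.card P → ∃ a ∈ P, orderOf a = p ∧ ∀ b ∈ P, b * a * b⁻¹ ∈ zpowers a ∧
        (b ^ p = 1 → b ∈ zpowers a) := by
    intro p hp hpd hn hsq
    haveI := Fact.mk hp
    obtain ⟨a, ha⟩ := exists_prime_orderOf_dvd_card' (G := P) p hpd
    have hfac : (Nat.card P).factorization p = 1 := by
      refine le_antisymm ?_ ((hp.dvd_iff_one_le_factorization Nat.card_pos.ne').1 hpd)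
      by_contra h2
      exact hsq (by
        have := (hp.pow_dvd_iff_le_factorization (n := Nat.card P) Nat.card_pos.ne' (k := 2)).2 (by omega)
        rwa [pow_two] at this)
    let S : Sylow p P := Sylow.ofCard (zpowers a) (by rw [Nat.card_zpowers, ha, hfac, pow_one])
    have h1 : Nat.card (Sylow p P) = 1 := by
      refine hn _ ?_ ?_ ?_
      · exact (Sylow.card_dvd_index S).trans (index_dvd_card _)
      · intro hdd
        have := card_sylow_modEq_one p P
        rw [Nat.ModEq, Nat.mod_eq_zero_of_dvd hdd |>.trans rfl] at this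
        rw [Nat.one_mod_eq_one.2 hp.one_lt.ne'] at this
        omega
      · have := card_sylow_modEq_one p P
        rwa [Nat.ModEq, Nat.one_mod_eq_one.2 hp.one_lt.ne'] at this
    haveI := (Nat.card_eq_one_iff_unique.1 h1).1
    have hnorm : (zpowers a).Normal := Sylow.normal_of_subsingleton S
    refine ⟨a, a.2, by rw [Subgroup.orderOf_coe, ha], fun b hb => ⟨?_, fun hbp => ?_⟩⟩
    · obtain ⟨k, hk⟩ := mem_zpowers_iff.1 (hnorm.conj_mem a (mem_zpowers a) ⟨b, hb⟩)
      exact mem_zpowers_iff.2 ⟨k, by simpa using congrArg Subtype.val hk⟩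
    · by_cases hb1 : b = 1
      · rw [hb1]; exact one_mem _
      have hob : orderOf (⟨b, hb⟩ : P) = p := by
        rw [← Subgroup.orderOf_coe]; exact orderOf_eq_prime hbp hb1
      let S' : Sylow p P := Sylow.ofCard (zpowers ⟨b, hb⟩) (by rw [Nat.card_zpowers, hob, hfac, pow_one])
      have : (⟨b, hb⟩ : P) ∈ (S : Subgroup P) := by
        rw [Subsingleton.elim S S']; exact mem_zpowers _
      obtain ⟨k, hk⟩ := mem_zpowers_iff.1 this
      exact mem_zpowers_iff.2 ⟨k, by simpa using congrArg Subtype.val hk⟩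
  -- commuting elements of coprime orders
  have pair : ∀ a b : G, ∀ m n : ℕ, orderOf a = m → orderOf b = n → m.Coprime n →
      b * a * b⁻¹ ∈ zpowers a → a * b * a⁻¹ ∈ zpowers b → orderOf (a * b) = m * n := by
    intro a b m n hm hn hco h1 h2
    have hc : a * b * a⁻¹ * b⁻¹ = 1 := by
      have hA : a * b * a⁻¹ * b⁻¹ ∈ zpowers a := by
        rw [show a * b * a⁻¹ * b⁻¹ = a * (b * a * b⁻¹)⁻¹ by group]
        exact mul_mem (mem_zpowers a) (inv_mem h1)
      have hB : a * b * a⁻¹ * b⁻¹ ∈ zpowers b := mul_mem h2 (inv_mem (mem_zpowers b))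
      refine orderOf_eq_one_iff.1 (Nat.eq_one_of_dvd_coprimes hco ?_ ?_)
      · rw [← hm]; exact ((zpowers a).orderOf_dvd_natCard hA).trans (by rw [Nat.card_zpowers])
      · rw [← hn]; exact ((zpowers b).orderOf_dvd_natCard hB).trans (by rw [Nat.card_zpowers])
    have hab : Commute a b := by
      rw [mul_inv_eq_one, mul_inv_eq_iff_eq_mul] at hc
      exact hc
    rw [hab.orderOf_mul_eq_mul_orderOf_of_coprime (by rw [hm, hn]; exact hco), hm, hn]
  have hcases : Nat.card P = 35 ∨ Nat.card P = 55 ∨ Nat.card P = 77 ∨ Nat.card P = 385 := by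
    have hm : Nat.card P ∈ Nat.divisors 385 := Nat.mem_divisors.2 ⟨hd, by norm_num⟩
    rw [show Nat.divisors 385 = {1, 5, 7, 11, 35, 55, 77, 385} from by decide +kernel] at hm
    simp only [Finset.mem_insert, Finset.mem_singleton] at hm
    omega
  rcases hcases with hc | hc | hc | hc
  · obtain ⟨a, haP, ha, hA⟩ := uniq 5 (by norm_num) (by rw [hc]; norm_num) (fun n hn _ hm => by
      rw [hc] at hn
      have := Nat.le_of_dvd (by norm_num) hn
      interval_cases n <;> omega) (by rw [hc]; norm_num)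
    obtain ⟨b, hbP, hb, hB⟩ := uniq 7 (by norm_num) (by rw [hc]; norm_num) (fun n hn _ hm => by
      rw [hc] at hn
      have := Nat.le_of_dvd (by norm_num) hn
      interval_cases n <;> omega) (by rw [hc]; norm_num)
    exact (hno (a * b)).1 (by rw [pair a b 5 7 ha hb (by norm_num) (hA b hbP).1 (hB a haP).1])
  · obtain ⟨a, haP, ha, hA⟩ := uniq 11 (by norm_num) (by rw [hc]; norm_num) (fun n hn _ hm => by
      rw [hc] at hn
      have := Nat.le_of_dvd (by norm_num) hn
      interval_cases n <;> omega) (by rw [hc]; norm_num)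
    -- every inverted element lies in the normal subgroup of order eleven
    apply hbig
    refine le_trans (Nat.card_le_card_of_injective (β := zpowers a) (fun p => ⟨p.1, ?_⟩)
      fun p q e => Subtype.ext (congrArg (fun u : zpowers a => (u : G)) e)) (by rw [Nat.card_zpowers, ha])
    obtain ⟨p, hpP, hp⟩ := p
    show p ∈ zpowers a
    by_contra hpn
    have hβa : β a ∈ zpowers a := (hA _ (hβ a haP)).2 (by rw [← map_pow, ← ha, pow_orderOf_eq_one, map_one])
    obtain ⟨e, he⟩ := mem_zpowers_iff.1 hβa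
    obtain ⟨k, hk⟩ := mem_zpowers_iff.1 (hA p hpP).1
    have hall : ∀ n : ℤ, p * a ^ n * p⁻¹ = (a ^ n) ^ k := fun n => by
      rw [← conj_zpow, ← hk, ← zpow_mul, ← zpow_mul, mul_comm]
    have e1 : p⁻¹ * (a ^ e) * p = (a ^ e) ^ k := by
      have := congrArg β hk
      rw [map_mul, map_mul, map_inv, map_zpow, hp, inv_inv] at this
      rw [he]; exact this.symm
    have hconj : p⁻¹ * a * p = a ^ k := by
      have hgen : a ∈ zpowers (a ^ e) := by
        have h11 : Nat.card (zpowers (a ^ e)) = 11 := by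
          rw [Nat.card_zpowers, he, MulEquiv.orderOf_eq, ha]
        have := eq_of_le_of_card_ge (zpowers_le.2 (zpow_mem (mem_zpowers a) e) : zpowers (a ^ e) ≤ zpowers a)
          (by rw [h11, Nat.card_zpowers, ha])
        rw [this]; exact mem_zpowers a
      obtain ⟨m, hm⟩ := mem_zpowers_iff.1 hgen
      calc p⁻¹ * a * p = p⁻¹ * (a ^ e) ^ m * p⁻¹⁻¹ := by rw [hm, inv_inv]
        _ = (p⁻¹ * a ^ e * p⁻¹⁻¹) ^ m := by rw [conj_zpow]
        _ = ((a ^ e) ^ k) ^ m := by rw [inv_inv, e1]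
        _ = a ^ k := by rw [← zpow_mul, mul_comm k, zpow_mul, hm]
    have h2 : p * p * a = a * (p * p) := by
      have := hall 1
      rw [zpow_one] at this
      have e2 : p * a * p⁻¹ = p⁻¹ * a * p := this.trans hconj.symm
      calc p * p * a = p * (p * a * p⁻¹) * p := by group
        _ = a * (p * p) := by rw [e2]; group
    have hp55 : orderOf p ∣ 55 := by rw [← hc]; exact P.orderOf_dvd_natCard hpP
    have hp5 : orderOf p = 5 := by
      have hmem : orderOf p ∈ Nat.divisors 55 := Nat.mem_divisors.2 ⟨hp55, by norm_num⟩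
      rw [show Nat.divisors 55 = {1, 5, 11, 55} from by decide +kernel] at hmem
      simp only [Finset.mem_insert, Finset.mem_singleton] at hmem
      rcases hmem with h | h | h | h
      · exact absurd (orderOf_eq_one_iff.1 h ▸ one_mem _) hpn
      · exact h
      · exact absurd ((hA p hpP).2 (h ▸ pow_orderOf_eq_one p)) hpn
      · exact absurd h (hno p).2.1
    have hcm : Commute p a := by
      have h6 : (p * p) ^ 3 = p := by
        rw [← pow_two, ← pow_mul, show (2 * 3 : ℕ) = 5 + 1 from rfl, pow_succ, ← hp5, pow_orderOf_eq_one, one_mul]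
      rw [← h6]
      exact (show Commute (p * p) a from h2).pow_left 3
    exact (hno (p * a)).2.1 (by
      rw [hcm.orderOf_mul_eq_mul_orderOf_of_coprime (by rw [hp5, ha]; norm_num), hp5, ha])
  · obtain ⟨a, haP, ha, hA⟩ := uniq 7 (by norm_num) (by rw [hc]; norm_num) (fun n hn _ hm => by
      rw [hc] at hn
      have := Nat.le_of_dvd (by norm_num) hn
      interval_cases n <;> omega) (by rw [hc]; norm_num)
    obtain ⟨b, hbP, hb, hB⟩ := uniq 11 (by norm_num) (by rw [hc]; norm_num) (fun n hn _ hm => by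
      rw [hc] at hn
      have := Nat.le_of_dvd (by norm_num) hn
      interval_cases n <;> omega) (by rw [hc]; norm_num)
    exact (hno (a * b)).2.2 (by rw [pair a b 7 11 ha hb (by norm_num) (hA b hbP).1 (hB a haP).1])
  · obtain ⟨a, haP, ha, hA⟩ := uniq 7 (by norm_num) (by rw [hc]; norm_num) (fun n hn hn7 hm => by
      rw [hc] at hn
      have hmem : n ∈ Nat.divisors 385 := Nat.mem_divisors.2 ⟨hn, by norm_num⟩
      rw [show Nat.divisors 385 = {1, 5, 7, 11, 35, 55, 77, 385} from by decide +kernel] at hmem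
      simp only [Finset.mem_insert, Finset.mem_singleton] at hmem
      omega) (by rw [hc]; norm_num)
    obtain ⟨b, hbP, hb, hB⟩ := uniq 11 (by norm_num) (by rw [hc]; norm_num) (fun n hn hn11 hm => by
      rw [hc] at hn
      have hmem : n ∈ Nat.divisors 385 := Nat.mem_divisors.2 ⟨hn, by norm_num⟩
      rw [show Nat.divisors 385 = {1, 5, 7, 11, 35, 55, 77, 385} from by decide +kernel] at hmem
      simp only [Finset.mem_insert, Finset.mem_singleton] at hmem
      omega) (by rw [hc]; norm_num)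
    exact (hno (a * b)).2.2 (by rw [pair a b 7 11 ha hb (by norm_num) (hA b hbP).1 (hB a haP).1])

namespace Loc

variable {X : Type*} [Group X] [Finite X] {x : X} (d : Loc x)
include d

theorem conj_mem {n c : X} (hn : n ∈ d.nX) (hc : c ∈ cen x) : n * c * n⁻¹ ∈ cen x := by
  have h : (n * c * n⁻¹) * (n * x * n⁻¹) = (n * x * n⁻¹) * (n * c * n⁻¹) := by
    calc (n * c * n⁻¹) * (n * x * n⁻¹) = n * (c * x) * n⁻¹ := by group
      _ = _ := by rw [mem_cen.1 hc]; group
  rcases d.conj_cases hn with e | e <;> rw [e] at h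
  · exact mem_cen.2 h
  · exact d.cen_x_pm (Or.inr rfl) (mem_cen.2 h)

/-- a section of the projection -/
noncomputable def sec (a : G22) : X := (d.pr_surj a).choose

theorem sec_spec (a : G22) : d.sec a ∈ cen x ∧ d.pr (d.sec a) = a := (d.pr_surj a).choose_spec

/-- the action of the normaliser on M22 -/
noncomputable def act (n : X) (a : G22) : G22 := d.pr (n * d.sec a * n⁻¹)

theorem act_pr {n c : X} (hn : n ∈ d.nX) (hc : c ∈ cen x) : d.act n (d.pr c) = d.pr (n * c * n⁻¹) := by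
  obtain ⟨hs, hse⟩ := d.sec_spec (d.pr c)
  have hk : c⁻¹ * d.sec (d.pr c) ∈ zpowers x := (d.pr_eq_one (mul_mem (inv_mem hc) hs)).1
    (by rw [d.pr_mul (inv_mem hc) hs, d.pr_inv hc, hse, inv_mul_cancel])
  have hk' : n * (c⁻¹ * d.sec (d.pr c)) * n⁻¹ ∈ zpowers x := (mem_normalizer_iff.1 hn _).1 hk
  have hk1 : d.pr (n * (c⁻¹ * d.sec (d.pr c)) * n⁻¹) = 1 :=
    (d.pr_eq_one (zpowers_le.2 d.x_mem hk')).2 hk'
  show d.pr (n * d.sec (d.pr c) * n⁻¹) = _
  rw [show n * d.sec (d.pr c) * n⁻¹ = (n * c * n⁻¹) * (n * (c⁻¹ * d.sec (d.pr c)) * n⁻¹) by group,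
    d.pr_mul (d.conj_mem hn hc) (zpowers_le.2 d.x_mem hk'), hk1, mul_one]

/-- the automorphism induced by an element of the normaliser -/
noncomputable def phi : d.nX →* MulAut G22 where
  toFun n :=
    { toFun := d.act n
      invFun := d.act (n : X)⁻¹
      left_inv := fun a => by
        obtain ⟨c, hc, rfl⟩ := d.pr_surj a
        rw [d.act_pr n.2 hc, d.act_pr (inv_mem n.2) (d.conj_mem n.2 hc)]
        congr 1; group
      right_inv := fun a => by
        obtain ⟨c, hc, rfl⟩ := d.pr_surj a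
        rw [d.act_pr (inv_mem n.2) hc, d.act_pr n.2 (d.conj_mem (inv_mem n.2) hc)]
        congr 1; group
      map_mul' := fun a b => by
        obtain ⟨c, hc, rfl⟩ := d.pr_surj a
        obtain ⟨e, he, rfl⟩ := d.pr_surj b
        rw [← d.pr_mul hc he, d.act_pr n.2 hc, d.act_pr n.2 he, d.act_pr n.2 (mul_mem hc he),
          ← d.pr_mul (d.conj_mem n.2 hc) (d.conj_mem n.2 he)]
        congr 1; group }
  map_one' := by
    refine MulEquiv.ext fun a => ?_
    obtain ⟨c, hc, rfl⟩ := d.pr_surj a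
    show d.act ((1 : d.nX) : X) (d.pr c) = d.pr c
    rw [d.act_pr (1 : d.nX).2 hc]; simp
  map_mul' n m := by
    refine MulEquiv.ext fun a => ?_
    obtain ⟨c, hc, rfl⟩ := d.pr_surj a
    show d.act ((n * m : d.nX) : X) (d.pr c) = d.act n (d.act m (d.pr c))
    rw [d.act_pr (n * m).2 hc, d.act_pr m.2 hc, d.act_pr n.2 (d.conj_mem m.2 hc)]
    congr 1
    simp only [Subgroup.coe_mul]; group

theorem phi_pr (n : d.nX) {c : X} (hc : c ∈ cen x) : d.phi n (d.pr c) = d.pr ((n : X) * c * (n : X)⁻¹) :=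
  d.act_pr n.2 hc

theorem phi_inner (n : d.nX) (hn : (n : X) ∈ cen x) : d.phi n = MulAut.conj (d.pr (n : X)) := by
  refine MulEquiv.ext fun a => ?_
  obtain ⟨c, hc, rfl⟩ := d.pr_surj a
  rw [d.phi_pr n hc, d.pr_conj hn hc, MulAut.conj_apply]

theorem phi_ker (n : d.nX) : d.phi n = 1 ↔ (n : X) ∈ zpowers x := by
  constructor
  · intro h
    have hm : ∀ c ∈ cen x, (n : X) * c * (n : X)⁻¹ * c⁻¹ ∈ zpowers x := fun c hc => by
      refine (d.pr_eq_one (mul_mem (d.conj_mem n.2 hc) (inv_mem hc))).1 ?_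
      rw [d.pr_mul (d.conj_mem n.2 hc) (inv_mem hc), ← d.phi_pr n hc, h, d.pr_inv hc]
      exact mul_inv_cancel _
    let f : cen x →* zpowers x :=
      { toFun := fun c => ⟨_, hm c c.2⟩
        map_one' := Subtype.ext (by simp)
        map_mul' := fun a b => Subtype.ext (by
          show (n : X) * ((a : X) * b) * (n : X)⁻¹ * ((a : X) * b)⁻¹ =
            ((n : X) * a * (n : X)⁻¹ * (a : X)⁻¹) * ((n : X) * b * (n : X)⁻¹ * (b : X)⁻¹)
          have hcm : Commute ((n : X) * b * (n : X)⁻¹ * (b : X)⁻¹) (a : X)⁻¹ := by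
            obtain ⟨k, hk⟩ := mem_zpowers_iff.1 (hm b b.2)
            rw [← hk]
            exact ((show Commute x (a : X) from (mem_cen.1 a.2).symm).zpow_left k).inv_right
          calc (n : X) * ((a : X) * b) * (n : X)⁻¹ * ((a : X) * b)⁻¹
              = (n : X) * a * (n : X)⁻¹ * (((n : X) * b * (n : X)⁻¹ * (b : X)⁻¹) * (a : X)⁻¹) := by group
            _ = _ := by rw [hcm.eq]; group) }
    have hf : ∀ a ∈ cen x, ∀ b ∈ cen x, ⁅a, b⁆ ∈ (f.ker.map (cen x).subtype : Subgroup X) := by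
      intro a ha b hb
      refine ⟨⁅(⟨a, ha⟩ : cen x), ⟨b, hb⟩⁆, ?_, rfl⟩
      show f ⁅(⟨a, ha⟩ : cen x), ⟨b, hb⟩⁆ = 1
      rw [map_commutatorElement, commutatorElement_eq_one_iff_mul_comm]
      refine Subtype.ext ?_
      obtain ⟨k, hk⟩ := mem_zpowers_iff.1 (f ⟨a, ha⟩).2
      obtain ⟨l, hl⟩ := mem_zpowers_iff.1 (f ⟨b, hb⟩).2
      show (f ⟨a, ha⟩ : X) * f ⟨b, hb⟩ = f ⟨b, hb⟩ * f ⟨a, ha⟩
      rw [← hk, ← hl, ← zpow_add, ← zpow_add, add_comm]
    have hle : cen x ≤ f.ker.map (cen x).subtype := by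
      conv_lhs => rw [← d.perf]
      exact commutator_le.2 hf
    have hcomm : ∀ c ∈ cen x, (n : X) * c * (n : X)⁻¹ = c := fun c hc => by
      obtain ⟨w, hw, hwc⟩ := hle hc
      have : (n : X) * w * (n : X)⁻¹ * (w : X)⁻¹ = 1 := congrArg Subtype.val (hw : f w = 1)
      rw [← show (w : X) = c from hwc]
      exact mul_inv_eq_one.1 this
    have hnC : (n : X) ∈ cen x := d.mem_cen_of_eq (hcomm x d.x_mem)
    refine (d.pr_eq_one hnC).1 ?_
    have : d.pr (n : X) ∈ center G22 := mem_center_iff.2 fun a => by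
      obtain ⟨c, hc, rfl⟩ := d.pr_surj a
      rw [← d.pr_mul hc hnC, ← d.pr_mul hnC hc]
      congr 1
      exact (mul_inv_eq_iff_eq_mul.1 (hcomm c hc)).symm
    rwa [H42.J4.center22, mem_bot] at this
  · intro h
    rw [d.phi_inner n (zpowers_le.2 d.x_mem h), (d.pr_eq_one (zpowers_le.2 d.x_mem h)).2 h, map_one]

theorem phi_range_iff (n : d.nX) :
    d.phi n ∈ (MulAut.conj : G22 →* MulAut G22).range ↔ (n : X) ∈ cen x := by
  constructor
  · rintro ⟨a, ha⟩
    obtain ⟨c, hc, rfl⟩ := d.pr_surj a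
    let c' : d.nX := ⟨c, d.cen_le_nX hc⟩
    have : d.phi (c'⁻¹ * n) = 1 := by
      rw [map_mul, map_inv, d.phi_inner c' hc, ← ha, inv_mul_cancel]
    have h2 := mul_mem hc (zpowers_le.2 d.x_mem ((d.phi_ker _).1 this))
    rwa [show (((c'⁻¹ * n : d.nX)) : X) = c⁻¹ * n from rfl, mul_inv_cancel_left] at h2
  · exact fun h => ⟨_, (d.phi_inner n h).symm⟩

theorem phi_surj : Function.Surjective d.phi := by
  rw [← MonoidHom.range_eq_top]
  have hle : (MulAut.conj : G22 →* MulAut G22).range ≤ d.phi.range := by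
    rintro _ ⟨a, rfl⟩
    obtain ⟨c, hc, rfl⟩ := d.pr_surj a
    exact ⟨⟨c, d.cen_le_nX hc⟩, d.phi_inner ⟨c, d.cen_le_nX hc⟩ hc⟩
  obtain ⟨g, hg⟩ := d.inverting
  have hgn : g ∈ d.nX := d.conj_in_nX (by rw [hg]; exact d.cen_le_nX (inv_mem d.x_mem))
  have hgc : g ∉ cen x := fun h => by
    rw [mem_cen.1 h, mul_inv_cancel_right] at hg
    have h2 : x * x = 1 := by nth_rewrite 2 [hg]; exact mul_inv_cancel x
    exact d.x_ne (d.sq_mem (mem_zpowers x) h2)
  have hne : (MulAut.conj : G22 →* MulAut G22).range.relIndex d.phi.range ≠ 1 := fun h => by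
    rw [relIndex_eq_one] at h
    exact hgc ((d.phi_range_iff ⟨g, hgn⟩).1 (h ⟨_, rfl⟩))
  have hmul := relIndex_mul_index hle
  rw [show (MulAut.conj : G22 →* MulAut G22).range.index = 2 from H97.MOut.card_out_M22] at hmul
  rw [← index_eq_one]
  rcases (Nat.dvd_prime Nat.prime_two).1 (Dvd.intro_left _ hmul) with h | h
  · exact h
  · rw [h] at hmul; omega

/-- `zpowers x` is normal. -/
theorem normal (hinner : ∀ t ∈ cen x, t * t = 1 → t ≠ 1 → cen t ≤ d.nX)
    (hout : ∃ α : MulAut G22, α * α = 1 ∧ α ∉ (MulAut.conj : G22 →* MulAut G22).range ∧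
      ∃ a : G22, orderOf a = 3 ∧ α a = a)
    (hfix : ∀ α : MulAut G22, α * α = 1 → α ∉ (MulAut.conj : G22 →* MulAut G22).range →
      Nat.card {t : G22 // t * t = 1 ∧ t ≠ 1 ∧ α t = t} ≤ 104)
    (hcount : Nat.card {t : G22 // t * t = 1 ∧ t ≠ 1} = 1155)
    (hno : ∀ a : G22, orderOf a ≠ 35 ∧ orderOf a ≠ 55 ∧ orderOf a ≠ 77) : d.nX = ⊤ := by
  classical
  by_contra hNtop
  obtain ⟨α, hα2, hαn, a, ha, haα⟩ := hout
  obtain ⟨n, hn⟩ := d.phi_surj α
  set w : X := (n : X) ^ 3 with hw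
  have hn2 : (n : X) * n ∈ zpowers x := (d.phi_ker (n * n)).1 (by rw [map_mul, hn, hα2])
  have hwN : w ∈ d.nX := pow_mem n.2 3
  have hw2 : w * w = 1 := by
    obtain ⟨k, hk⟩ := mem_zpowers_iff.1 hn2
    rw [hw, ← pow_add, show (3 + 3 : ℕ) = 2 * 3 from rfl, pow_mul, pow_two, ← hk, ← zpow_natCast,
      ← zpow_mul, mul_comm, zpow_mul, zpow_natCast, d.x3, one_zpow]
  have hwphi : d.phi ⟨w, hwN⟩ = α := by
    rw [show (⟨w, hwN⟩ : d.nX) = n ^ 3 from rfl, map_pow, hn, pow_succ, pow_two, hα2, one_mul]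
  have hwC : w ∉ cen x := fun h => hαn (hwphi ▸ (d.phi_range_iff ⟨w, hwN⟩).2 h)
  have hwx : w * x * w⁻¹ = x⁻¹ := (d.conj_cases hwN).resolve_left fun e => hwC (d.mem_cen_of_eq e)
  have hwinv : w⁻¹ = w := inv_eq_of_mul_eq_one_right hw2
  -- an element of order three commuting with `w`
  obtain ⟨e, heC, he3, hen, hew⟩ : ∃ e, e ∈ cen x ∧ e ^ 3 = 1 ∧ e ∉ zpowers x ∧ w * e = e * w := by
    obtain ⟨c, hc, hca⟩ := d.pr_surj a
    have hm : c⁻¹ * (w * c * w⁻¹) ∈ zpowers x := by
      refine (d.pr_eq_one (mul_mem (inv_mem hc) (d.conj_mem hwN hc))).1 ?_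
      rw [d.pr_mul (inv_mem hc) (d.conj_mem hwN hc), ← d.phi_pr ⟨w, hwN⟩ hc, hwphi, hca, haα,
        d.pr_inv hc, hca, inv_mul_cancel]
    obtain ⟨i, hi⟩ := mem_zpowers_iff.1 hm
    set c' := c * (x ^ i)⁻¹ with hc'
    have hc'C : c' ∈ cen x := mul_mem hc (inv_mem (zpow_mem d.x_mem i))
    have hwc : w * c' * w⁻¹ = c' := by
      have h1 : w * c * w⁻¹ = c * x ^ i := by rw [hi, mul_inv_cancel_left]
      have h2 : w * (x ^ i)⁻¹ * w⁻¹ = x ^ i := by
        rw [← zpow_neg, ← conj_zpow, hwx, zpow_neg, inv_zpow, inv_inv]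
      calc w * c' * w⁻¹ = (w * c * w⁻¹) * (w * (x ^ i)⁻¹ * w⁻¹) := by rw [hc']; group
        _ = c * (x ^ i * x ^ i) := by rw [h1, h2, mul_assoc]
        _ = c' := by
          have : x ^ i * x ^ i = (x ^ i)⁻¹ := by
            refine eq_inv_of_mul_eq_one_left ?_
            rw [← zpow_add, ← zpow_add, show i + i + i = ((3 : ℕ) : ℤ) * i by push_cast; ring, zpow_mul,
              zpow_natCast, d.x3, one_zpow]
          rw [this]
    have hpr : d.pr c' = a := by
      rw [hc', d.pr_mul hc (inv_mem (zpow_mem d.x_mem i)), d.pr_inv (zpow_mem d.x_mem i),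
        (d.pr_eq_one (zpow_mem d.x_mem i)).2 (zpow_mem (mem_zpowers x) i), inv_one, mul_one, hca]
    have h3 : c' ^ 3 ∈ zpowers x := (d.pr_eq_one (pow_mem hc'C 3)).1
      (by rw [d.pr_pow hc'C, hpr, ← ha, pow_orderOf_eq_one])
    have h3' : c' ^ 3 = 1 := by
      refine d.sq_mem h3 ?_
      obtain ⟨k, hk⟩ := mem_zpowers_iff.1 h3
      have : c' ^ 3 = (c' ^ 3)⁻¹ := by
        conv_lhs => rw [← hwc, conj_pow, ← hk, ← conj_zpow, hwx, inv_zpow, hk]
      nth_rewrite 2 [this]
      exact mul_inv_cancel _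
    refine ⟨c', hc'C, h3', fun hm' => ?_, mul_inv_eq_iff_eq_mul.1 hwc⟩
    have := (d.pr_eq_one hc'C).2 hm'
    rw [hpr] at this
    rw [this, orderOf_one] at ha
    omega
  -- `w` is not conjugate to an inner involution
  have nofuse : ∀ g t : X, t ∈ cen x → t * t = 1 → t ≠ 1 → g * t * g⁻¹ ≠ w := by
    intro g t ht ht2 ht1 hgt
    set e' := g⁻¹ * e * g with he'
    have hcw : e' ∈ cen t := mem_cen.2 (by
      rw [he', show t = g⁻¹ * w * g by rw [← hgt]; group]
      calc g⁻¹ * e * g * (g⁻¹ * w * g) = g⁻¹ * (e * w) * g := by group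
        _ = g⁻¹ * (w * e) * g := by rw [hew]
        _ = _ := by group)
    have e'3 : e' ^ 3 = 1 := by
      rw [he', show g⁻¹ * e * g = g⁻¹ * e * g⁻¹⁻¹ by rw [inv_inv], conj_pow, he3, mul_one, mul_inv_cancel]
    have e'C : e' ∈ cen x := d.mem_cen_of_three (hinner t ht ht2 ht1 hcw) e'3
    have e'n : e' ∉ zpowers x := by
      intro hm
      apply hen
      rcases d.pow_cases hm with q | q | q
      · rw [show e = g * e' * g⁻¹ by rw [he']; group, q, mul_one, mul_inv_cancel]; exact one_mem _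
      · have : e = g * x * g⁻¹ := by rw [← q, he']; group
        rw [this]; exact d.weak g (this ▸ heC)
      · have : e = (g * x * g⁻¹)⁻¹ := by
          rw [show (g * x * g⁻¹)⁻¹ = g * x⁻¹ * g⁻¹ by group, ← q, he']; group
        rw [this]
        exact inv_mem (d.weak g (by have h := inv_mem heC; rwa [this, inv_inv] at h))
    have hcomm : g⁻¹ * x * g ∈ cen e' := mem_cen.2 (by
      rw [he']
      calc g⁻¹ * x * g * (g⁻¹ * e * g) = g⁻¹ * (x * e) * g := by group
        _ = g⁻¹ * (e * x) * g := by rw [mem_cen.1 heC]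
        _ = _ := by group)
    have hgN : g⁻¹ ∈ d.nX := d.conj_in_nX (by
      rw [inv_inv]; exact d.small e' e'C e'3 e'n hcomm)
    have : g ∈ d.nX := by simpa using inv_mem hgN
    exact hwC (hgt ▸ d.conj_mem this ht)
  -- a conjugate of `w` outside the normaliser
  obtain ⟨g0, hu⟩ : ∃ g0 : X, g0 * w * g0⁻¹ ∉ d.nX := by
    by_contra hall
    push Not at hall
    let L : Subgroup X := normalClosure {w}
    have hL : L ≤ d.nX := by
      refine (closure_le _).2 ?_
      intro u hu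
      rw [Group.mem_conjugatesOfSet_iff] at hu
      obtain ⟨v, hv, hvu⟩ := hu
      rw [Set.mem_singleton_iff] at hv
      obtain ⟨g, hg⟩ := isConj_iff.1 hvu
      rw [← hg, hv]; exact hall g
    have hLn : L.Normal := normalClosure_normal
    have hwL : w ∈ L := subset_normalClosure (Set.mem_singleton w)
    let M : Subgroup G22 := (L.subgroupOf (cen x)).map d.pi
    have hMn : M.Normal := by
      refine ⟨fun a ha b => ?_⟩
      obtain ⟨l, hl, rfl⟩ := ha
      obtain ⟨c, rfl⟩ := d.surj b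
      exact ⟨c * l * c⁻¹, hLn.conj_mem _ hl _, by simp⟩
    haveI := H42.J4.simple22
    have hmemM : ∀ c (hc : c ∈ cen x), w * c * w⁻¹ * c⁻¹ ∈ L ∧
        d.pr (w * c * w⁻¹ * c⁻¹) ∈ M := fun c hc => by
      have hl : w * c * w⁻¹ * c⁻¹ ∈ L := by
        rw [show w * c * w⁻¹ * c⁻¹ = w * (c * w⁻¹ * c⁻¹) by group]
        exact mul_mem hwL (hLn.conj_mem _ (inv_mem hwL) c)
      refine ⟨hl, ?_⟩
      rw [d.pr_def (mul_mem (d.conj_mem hwN hc) (inv_mem hc))]
      exact ⟨_, hl, rfl⟩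
    rcases hMn.eq_bot_or_eq_top with hM | hM
    · apply hαn
      rw [← hwphi]
      refine ⟨1, ?_⟩
      rw [map_one]
      refine MulEquiv.ext fun b => ?_
      obtain ⟨c, hc, rfl⟩ := d.pr_surj b
      have h1 := (hmemM c hc).2
      rw [hM, mem_bot, d.pr_mul (d.conj_mem hwN hc) (inv_mem hc), d.pr_inv hc, mul_inv_eq_one] at h1
      rw [d.phi_pr ⟨w, hwN⟩ hc, h1]
      rfl
    · have split : ∀ c ∈ cen x, ∃ l, l ∈ L ∧ l ∈ cen x ∧ ∃ k ∈ zpowers x, c = l * k := by
        intro c hc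
        obtain ⟨⟨l, hlC⟩, hl, hlc⟩ : d.pr c ∈ M := hM ▸ mem_top _
        refine ⟨l, hl, hlC, l⁻¹ * c, ?_, by rw [mul_inv_cancel_left]⟩
        refine (d.pr_eq_one (mul_mem (inv_mem hlC) hc)).1 ?_
        rw [d.pr_mul (inv_mem hlC) hc, d.pr_inv hlC, d.pr_def hlC, hlc, inv_mul_cancel]
      have key : ⁅cen x, cen x⁆ ≤ L := by
        rw [commutator_le]
        intro a ha b hb
        obtain ⟨l, hl, hlC, k, hk, rfl⟩ := split a ha
        obtain ⟨m, hm, hmC, k', hk', rfl⟩ := split b hb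
        obtain ⟨i, rfl⟩ := mem_zpowers_iff.1 hk
        obtain ⟨j, rfl⟩ := mem_zpowers_iff.1 hk'
        have hl' : Commute l x := mem_cen.1 hlC
        have hm' : Commute m x := mem_cen.1 hmC
        rw [show ⁅l * x ^ i, m * x ^ j⁆ = ⁅l, m⁆ by
          rw [commutatorElement_def, commutatorElement_def, mul_inv_rev, mul_inv_rev]
          calc l * x ^ i * (m * x ^ j) * ((x ^ i)⁻¹ * l⁻¹) * ((x ^ j)⁻¹ * m⁻¹)
              = l * (x ^ i * (m * x ^ j)) * (x ^ i)⁻¹ * l⁻¹ * (x ^ j)⁻¹ * m⁻¹ := by group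
            _ = l * ((m * x ^ j) * x ^ i) * (x ^ i)⁻¹ * l⁻¹ * (x ^ j)⁻¹ * m⁻¹ := by
                rw [((hm'.zpow_right i).mul_left ((Commute.refl x).zpow_zpow j i)).eq]
            _ = l * m * (x ^ j * (l⁻¹ * (x ^ j)⁻¹)) * m⁻¹ := by group
            _ = _ := by
                rw [← mul_assoc (x ^ j), ((hl'.zpow_right j).inv_left).symm.eq, mul_inv_cancel_right],
          commutatorElement_def]
        exact mul_mem (mul_mem (mul_mem hl hm) (inv_mem hl)) (inv_mem hm)
      have hxL : x ∈ L := key (d.perf.ge d.x_mem)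
      exact hNtop (eq_top_iff.2 fun g _ => d.conj_in_nX (hL (hLn.conj_mem x hxL g)))
  set u := g0 * w * g0⁻¹ with hudef
  have hu2 : u * u = 1 := by
    rw [hudef, show g0 * w * g0⁻¹ * (g0 * w * g0⁻¹) = g0 * (w * w) * g0⁻¹ by group, hw2, mul_one,
      mul_inv_cancel]
  -- the outer involutions of the normaliser commuting with `u`
  let D : Type _ := {s : X // s ∈ d.nX ∧ s ∉ cen x ∧ s * s = 1 ∧ s * u = u * s}
  have covD : ∀ t ∈ cen x, t * t = 1 → t ≠ 1 → ∃ s : D, (s : X) * t = t * s := by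
    intro t ht ht2 ht1
    set m := orderOf (t * u) with hm
    have tinv : t⁻¹ = t := inv_eq_of_mul_eq_one_right ht2
    have uinv : u⁻¹ = u := inv_eq_of_mul_eq_one_right hu2
    have hconjt : t * (t * u) * t⁻¹ = (t * u)⁻¹ := by
      rw [mul_inv_rev t u, tinv, uinv, ← mul_assoc, ht2, one_mul]
    have hconju : u * (t * u) * u⁻¹ = (t * u)⁻¹ := by
      rw [mul_inv_rev t u, tinv, uinv, mul_assoc, mul_assoc t, hu2, mul_one]
    rcases Nat.even_or_odd m with ⟨j, hj⟩ | ⟨j, hj⟩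
    · set s := (t * u) ^ j with hs
      have hs2 : s * s = 1 := by rw [hs, ← pow_add, ← hj, hm, pow_orderOf_eq_one]
      have hs1 : s ≠ 1 := by
        have hmpos : 0 < m := orderOf_pos _
        exact pow_ne_one_of_lt_orderOf (by omega) (by omega)
      have sinv : s⁻¹ = s := inv_eq_of_mul_eq_one_right hs2
      have hst : s * t = t * s := by
        have : t * s * t⁻¹ = s := by rw [hs, ← conj_pow, hconjt, inv_pow, ← hs, sinv]
        exact (mul_inv_eq_iff_eq_mul.1 this).symm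
      have hsu : s * u = u * s := by
        have : u * s * u⁻¹ = s := by rw [hs, ← conj_pow, hconju, inv_pow, ← hs, sinv]
        exact (mul_inv_eq_iff_eq_mul.1 this).symm
      have hsN : s ∈ d.nX := hinner t ht ht2 ht1 (mem_cen.2 hst)
      have hsC : s ∉ cen x := fun hc => hu (hinner s hc hs2 hs1 (mem_cen.2 hsu.symm))
      exact ⟨⟨s, hsN, hsC, hs2, hsu⟩, hst⟩
    · exfalso
      set q := (t * u) ^ j with hq
      have e1 : q⁻¹ * t * q = t * u * t := by
        have hqt : q⁻¹ * t = t * q := by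
          have : t * q * t⁻¹ = q⁻¹ := by rw [hq, ← conj_pow, hconjt, inv_pow]
          rw [← this]; group
        have h0 : (t * u) * (q * q) = 1 := by
          rw [hq, ← pow_add, ← pow_succ', ← two_mul, ← hj, hm, pow_orderOf_eq_one]
        have h1 : q * q = u * t := by
          rw [eq_inv_of_mul_eq_one_right h0, mul_inv_rev t u, tinv, uinv]
        rw [hqt]
        calc t * q * q = t * (q * q) := by group
          _ = t * u * t := by rw [h1]; group
      refine nofuse (g0⁻¹ * (t * q⁻¹)) t ht ht2 ht1 ?_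
      calc g0⁻¹ * (t * q⁻¹) * t * (g0⁻¹ * (t * q⁻¹))⁻¹ = g0⁻¹ * t * (q⁻¹ * t * q) * t⁻¹ * g0 := by group
        _ = g0⁻¹ * (t * t) * u * (t * t⁻¹) * g0 := by rw [e1]; group
        _ = w := by rw [ht2, hudef]; group
  -- at most eleven of them
  let P : Subgroup X := cen u ⊓ cen x
  have hPodd : ∀ p ∈ P, p ^ 2 = 1 → p = 1 := fun p hp h2 => by
    by_contra h1
    exact hu (hinner p hp.2 (by rw [← pow_two, h2]) h1 (mem_cen.2 (mem_cen.1 hp.1).symm))
  have hP3 : ∀ p ∈ P, p ^ 3 = 1 → p = 1 := fun p hp h3 => by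
    by_contra h1
    exact hu (d.centralizer_le hp.2 h3 h1 (mem_cen.2 (mem_cen.1 hp.1).symm))
  let fP : P →* G22 :=
    { toFun := fun p => d.pr (p : X)
      map_one' := d.pr_one
      map_mul' := fun p q => d.pr_mul p.2.2 q.2.2 }
  have hfP : Function.Injective fP := by
    rw [injective_iff_map_eq_one]
    intro p hp
    have hz := (d.pr_eq_one p.2.2).1 hp
    refine Subtype.ext (hP3 _ p.2 ?_)
    obtain ⟨k, hk⟩ := mem_zpowers_iff.1 hz
    rw [← hk, ← zpow_natCast, ← zpow_mul, mul_comm, zpow_mul, zpow_natCast, d.x3, one_zpow]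
  have hPd : Nat.card fP.range ∣ 385 := by
    have h1 : Nat.card fP.range ∣ 443520 := H25.M22.card22 ▸ card_subgroup_dvd_card _
    rw [← Nat.card_congr (MonoidHom.ofInjective hfP).toEquiv] at h1 ⊢
    have h2 : ∀ q : ℕ, q.Prime → (∀ p ∈ P, p ^ q = 1 → p = 1) → ¬ q ∣ Nat.card P := fun q hq hqp hd => by
      haveI := Fact.mk hq
      obtain ⟨p, hp⟩ := exists_prime_orderOf_dvd_card' (G := P) q hd
      have := hqp _ p.2 (by
        have := congrArg (fun v : P => (v : X)) (pow_orderOf_eq_one p)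
        rw [hp] at this; simpa using this)
      rw [show p = 1 from Subtype.ext this, orderOf_one] at hp
      exact hq.one_lt.ne hp
    have c2 : Nat.Coprime (Nat.card P) (2 ^ 7 * 3 ^ 2) := Nat.Coprime.mul_right
      (Nat.Coprime.pow_right _ ((Nat.prime_two.coprime_iff_not_dvd.2 (h2 2 Nat.prime_two hPodd)).symm))
      (Nat.Coprime.pow_right _ ((Nat.prime_three.coprime_iff_not_dvd.2 (h2 3 Nat.prime_three hP3)).symm))
    exact c2.dvd_of_dvd_mul_left (by rw [show (2 ^ 7 * 3 ^ 2 * 385 : ℕ) = 443520 by norm_num]; exact h1)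
  have hD : Nat.card D ≤ 11 := by
    by_cases hne : IsEmpty D
    · rw [Nat.card_of_isEmpty]; norm_num
    rw [not_isEmpty_iff] at hne
    obtain ⟨⟨s0, s0N, s0C, s02, s0u⟩⟩ := hne
    have s0inv : s0⁻¹ = s0 := inv_eq_of_mul_eq_one_right s02
    set β := d.phi ⟨s0, s0N⟩ with hβ
    have hβP : ∀ a ∈ fP.range, β a ∈ fP.range := by
      rintro _ ⟨p, rfl⟩
      refine ⟨⟨s0 * (p : X) * s0⁻¹, ?_, d.conj_mem s0N p.2.2⟩, ?_⟩
      · show s0 * (p : X) * s0⁻¹ ∈ cen u
        exact mul_mem (mul_mem (mem_cen.2 s0u) p.2.1) (inv_mem (mem_cen.2 s0u))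
      · exact (d.phi_pr ⟨s0, s0N⟩ p.2.2).symm
    refine le_trans ?_ (inverted_card_le hno fP.range hPd β hβP)
    have hmem : ∀ s : D, (s : X) * s0 ∈ P := fun s =>
      ⟨mem_cen.2 ((show Commute (s : X) u from s.2.2.2.2).mul_left (show Commute s0 u from s0u)).eq,
        d.mul_mem_cen s.2.1 s0N s.2.2.1 s0C⟩
    haveI : Finite {p : G22 // p ∈ fP.range ∧ β p = p⁻¹} := inferInstance
    refine Nat.card_le_card_of_injective (fun s => ⟨fP ⟨_, hmem s⟩, ⟨_, rfl⟩, ?_⟩) ?_
    · show d.phi ⟨s0, s0N⟩ (d.pr ((s : X) * s0)) = (d.pr ((s : X) * s0))⁻¹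
      rw [d.phi_pr _ (hmem s).2, ← d.pr_inv (hmem s).2, mul_inv_rev, s0inv,
        inv_eq_of_mul_eq_one_right s.2.2.2.1]
      congr 1
      show s0 * ((s : X) * s0) * s0 = s0 * (s : X)
      rw [mul_assoc, mul_assoc, s02, mul_one]
    · intro s s' e
      have := hfP (congrArg Subtype.val e)
      exact Subtype.ext (mul_right_cancel (congrArg Subtype.val this))
  -- each involution of M22 is fixed by one of them
  have hcov : ∀ t : {t : G22 // t * t = 1 ∧ t ≠ 1}, ∃ s : D, d.phi ⟨s, s.2.1⟩ t.1 = t.1 := by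
    rintro ⟨t, t2, t1⟩
    obtain ⟨y, hy, rfl⟩ := d.pr_surj t
    obtain ⟨t', ht', t'2, ht'e⟩ := d.three_of_pr hy t2
    obtain ⟨s, hs⟩ := covD t' ht' t'2 (fun e => t1 (by rw [← ht'e, e, d.pr_one]))
    refine ⟨s, ?_⟩
    show d.phi ⟨s, s.2.1⟩ (d.pr y) = d.pr y
    rw [← ht'e, d.phi_pr ⟨s, s.2.1⟩ ht']
    congr 1
    show (s : X) * t' * (s : X)⁻¹ = t'
    rw [hs, mul_inv_cancel_right]
  choose f hf using hcov
  haveI : Finite D := inferInstance
  letI : Fintype D := Fintype.ofFinite D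
  have hsum : Nat.card {t : G22 // t * t = 1 ∧ t ≠ 1} ≤ Nat.card D * 104 := by
    rw [Nat.card_congr (Equiv.sigmaFiberEquiv f).symm, Nat.card_sigma, Nat.card_eq_fintype_card (α := D)]
    refine le_trans (Finset.sum_le_sum (g := fun _ => 104) fun s _ => ?_) (by simp [mul_comm])
    refine le_trans (Nat.card_le_card_of_injective
      (fun t : {t // f t = s} => (⟨t.1.1, t.1.2.1, t.1.2.2, (congrArg (fun r : D => d.phi ⟨r, r.2.1⟩ t.1.1) t.2).symm.trans (hf t.1)⟩ :
        {t : G22 // t * t = 1 ∧ t ≠ 1 ∧ d.phi ⟨s, s.2.1⟩ t = t}))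
      fun a b e => Subtype.ext (Subtype.ext
        (congrArg (fun q : {t : G22 // t * t = 1 ∧ t ≠ 1 ∧ d.phi ⟨s, s.2.1⟩ t = t} => q.1) e)))
      (hfix _ ?_ fun h => s.2.2.1 ((d.phi_range_iff ⟨s, s.2.1⟩).1 h))
    rw [← map_mul, show (⟨s, s.2.1⟩ * ⟨s, s.2.1⟩ : d.nX) = 1 from Subtype.ext s.2.2.2.1, map_one]
  rw [hcount] at hsum
  omega

/-- The quotient by `zpowers x` is the automorphism group of M22. -/
theorem exists_onto (htop : d.nX = ⊤) :
    ∃ f : X →* MulAut G22, Function.Surjective f ∧ ∀ a, f a = 1 ↔ a ∈ zpowers x := by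
  refine ⟨d.phi.comp ((MonoidHom.id X).codRestrict d.nX fun a => htop ▸ mem_top a), ?_, fun a => ?_⟩
  · intro b
    obtain ⟨n, rfl⟩ := d.phi_surj b
    exact ⟨n, rfl⟩
  · exact d.phi_ker _

end Loc

end H54.Jan3
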