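import Mathlib
import Cfsg.Agent.H42.J4.M22Facts
import Cfsg.Prelude.Def_CaseTheorems

/-!
A centraliser of an element `x` of order three which is a perfect cover of M22 with cyclic centre of
order six: Sylow 3-subgroup, fusion inside the centraliser, and the central involution.
-/

set_option autoImplicit false

open Cfsg Subgroup
open scoped commutatorElement

namespace H54.Jan3

open H25.M22 (G22)

variable {G : Type*} [Group G]

/-- the centraliser of an element -/
abbrev cen (x : G) : Subgroup G := Subgroup.centralizer ({x} : Set G)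

theorem mem_cen {x g : G} : g ∈ cen x ↔ g * x = x * g := Subgroup.mem_centralizer_singleton_iff

/-- The centraliser of `x` covers M22 with centre generated by `x` and the involution `z`. -/
structure Cov (x z : G) where
  hx : orderOf x = 3
  hz : orderOf z = 2
  zC : z ∈ cen x
  perf : ⁅cen x, cen x⁆ = cen x
  pi : ↥(cen x) →* G22
  surj : Function.Surjective pi
  ker : ∀ c, pi c = 1 ↔ ∃ i j : ℕ, (c : G) = z ^ i * x ^ j
  zcomm : ∀ c ∈ cen x, c * z = z * c

namespace Cov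

variable {x z : G} (d : Cov x z)
include d

theorem x_mem : x ∈ cen x := mem_cen.2 rfl

theorem x3 : x ^ 3 = 1 := d.hx ▸ pow_orderOf_eq_one x

theorem z2 : z ^ 2 = 1 := d.hz ▸ pow_orderOf_eq_one z

theorem x_ne : x ≠ 1 := fun h => by have := d.hx; rw [h, orderOf_one] at this; omega

theorem z_ne : z ≠ 1 := fun h => by have := d.hz; rw [h, orderOf_one] at this; omega

theorem zx : z * x = x * z := mem_cen.1 d.zC

theorem x_pow_mem (j : ℕ) : x ^ j ∈ cen x := pow_mem d.x_mem j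

open Classical in
/-- the projection, extended to the whole group -/
noncomputable def pr (c : G) : G22 := if h : c ∈ cen x then d.pi ⟨c, h⟩ else 1

theorem pr_def {c : G} (h : c ∈ cen x) : d.pr c = d.pi ⟨c, h⟩ := dif_pos h

theorem pr_mul {a b : G} (ha : a ∈ cen x) (hb : b ∈ cen x) : d.pr (a * b) = d.pr a * d.pr b := by
  rw [d.pr_def ha, d.pr_def hb, d.pr_def (mul_mem ha hb), ← map_mul]
  rfl

theorem pr_one : d.pr 1 = 1 := by rw [d.pr_def (one_mem _)]; exact map_one d.pi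

theorem pr_inv {a : G} (ha : a ∈ cen x) : d.pr a⁻¹ = (d.pr a)⁻¹ := by
  rw [d.pr_def ha, d.pr_def (inv_mem ha), ← map_inv]
  rfl

theorem pr_pow {a : G} (ha : a ∈ cen x) (n : ℕ) : d.pr (a ^ n) = d.pr a ^ n := by
  induction n with
  | zero => simp [d.pr_one]
  | succ n ih => rw [pow_succ, pow_succ, d.pr_mul (pow_mem ha n) ha, ih]

theorem pr_conj {a b : G} (ha : a ∈ cen x) (hb : b ∈ cen x) :
    d.pr (a * b * a⁻¹) = d.pr a * d.pr b * (d.pr a)⁻¹ := by
  rw [d.pr_mul (mul_mem ha hb) (inv_mem ha), d.pr_mul ha hb, d.pr_inv ha]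

theorem pr_surj (a : G22) : ∃ c ∈ cen x, d.pr c = a := by
  obtain ⟨⟨c, hc⟩, h⟩ := d.surj a
  exact ⟨c, hc, by rw [d.pr_def hc, h]⟩

theorem pr_eq_one {c : G} (hc : c ∈ cen x) : d.pr c = 1 ↔ ∃ i j : ℕ, c = z ^ i * x ^ j := by
  rw [d.pr_def hc]; exact d.ker ⟨c, hc⟩

theorem pr_x : d.pr x = 1 := (d.pr_eq_one d.x_mem).2 ⟨0, 1, by simp⟩

theorem pr_z : d.pr z = 1 := (d.pr_eq_one d.zC).2 ⟨1, 0, by simp⟩

theorem ker_pow (i j n : ℕ) : (z ^ i * x ^ j) ^ n = z ^ (i * n) * x ^ (j * n) := by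
  rw [((show Commute z x from d.zx).pow_pow i j).mul_pow, ← pow_mul, ← pow_mul]

theorem ker_odd {c : G} (hc : c ∈ cen x) (h1 : d.pr c = 1) {n : ℕ} (hn : c ^ (3 ^ n) = 1) :
    c ∈ zpowers x := by
  obtain ⟨i, j, rfl⟩ := (d.pr_eq_one hc).1 h1
  have hc2 : (z ^ i * x ^ j) ^ 3 ∈ zpowers z := by
    rw [d.ker_pow, mul_comm j 3, pow_mul x, d.x3, one_pow, mul_one]
    exact pow_mem (mem_zpowers z) _
  rcases Nat.even_or_odd i with ⟨k, rfl⟩ | ⟨k, rfl⟩
  · rw [← two_mul, pow_mul, d.z2, one_pow, one_mul]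
    exact pow_mem (mem_zpowers x) _
  · exfalso
    rw [d.ker_pow] at hn
    have hz' : z ^ ((2 * k + 1) * 3 ^ n) = z := by
      obtain ⟨m, hm⟩ : Odd ((2 * k + 1) * 3 ^ n) := (odd_two_mul_add_one k).mul ((show Odd 3 from ⟨1, rfl⟩).pow)
      rw [hm, pow_succ, pow_mul, d.z2, one_pow, one_mul]
    rw [hz'] at hn
    have e : z ^ 3 = 1 := by
      have h := congrArg (· ^ 3) hn
      simp only [one_pow] at h
      rw [((show Commute z x from d.zx).pow_right _).mul_pow, ← pow_mul, mul_comm, pow_mul x, d.x3,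
        one_pow, mul_one] at h
      exact h
    exact d.z_ne (by rwa [pow_succ, d.z2, one_mul] at e)

theorem ker_two {c : G} (hc : c ∈ cen x) (h1 : d.pr c = 1) {n : ℕ} (hn : c ^ (2 ^ n) = 1) :
    c = 1 ∨ c = z := by
  obtain ⟨i, j, rfl⟩ := (d.pr_eq_one hc).1 h1
  rw [d.ker_pow] at hn
  have hxj : x ^ j = 1 := by
    have h := congrArg (· ^ 2) hn
    simp only [one_pow] at h
    rw [((show Commute z x from d.zx).pow_pow _ _).mul_pow, ← pow_mul z, mul_comm (i * 2 ^ n), pow_mul z,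
      d.z2, one_pow, one_mul, ← pow_mul, mul_assoc, ← pow_succ] at h
    have h3 : 3 ∣ j * 2 ^ (n + 1) := d.hx ▸ orderOf_dvd_of_pow_eq_one h
    have : 3 ∣ j := (Nat.Coprime.dvd_of_dvd_mul_right
      (Nat.Coprime.pow_right _ (by norm_num : Nat.Coprime 3 2)) h3)
    obtain ⟨k, rfl⟩ := this
    rw [pow_mul, d.x3, one_pow]
  rw [hxj, mul_one]
  rcases Nat.even_or_odd i with ⟨k, rfl⟩ | ⟨k, rfl⟩
  · left; rw [← two_mul, pow_mul, d.z2, one_pow]
  · right; rw [pow_succ, pow_mul, d.z2, one_pow, one_mul]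

section Finite
variable [Finite G]

theorem card_cen : Nat.card (cen x) = 6 * 443520 := by
  have hk : d.pi.ker = (zpowers (z * x)).subgroupOf (cen x) := by
    ext c
    rw [MonoidHom.mem_ker, d.ker, mem_subgroupOf]
    constructor
    · rintro ⟨i, j, h⟩
      rw [h]
      have hcm : Commute z x := d.zx
      have ez : (z * x) ^ (3 : ℕ) = z := by
        rw [hcm.mul_pow, d.x3, mul_one, pow_succ, d.z2, one_mul]
      have ex : (z * x) ^ (4 : ℕ) = x := by
        rw [hcm.mul_pow, show (4 : ℕ) = 2 * 2 from rfl, pow_mul z, d.z2, one_pow, one_mul,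
          show x ^ (2 * 2) = x ^ 3 * x from by rw [← pow_succ], d.x3, one_mul]
      refine mul_mem (pow_mem ?_ i) (pow_mem ?_ j)
      · have h' := pow_mem (mem_zpowers (z * x)) 3
        rwa [ez] at h'
      · have h' := pow_mem (mem_zpowers (z * x)) 4
        rwa [ex] at h'
    · intro h
      obtain ⟨n, hn⟩ : ∃ n : ℕ, (z * x) ^ n = (c : G) :=
        mem_powers_iff_mem_zpowers.2 h
      exact ⟨n, n, by rw [← hn, (show Commute z x from d.zx).mul_pow]⟩
  have hle : zpowers (z * x) ≤ cen x := zpowers_le.2 (mul_mem d.zC d.x_mem)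
  have h6 : Nat.card d.pi.ker = 6 := by
    rw [hk, Nat.card_congr (subgroupOfEquivOfLe hle).toEquiv, Nat.card_zpowers,
      (show Commute z x from d.zx).orderOf_mul_eq_mul_orderOf_of_coprime (by rw [d.hz, d.hx]; norm_num),
      d.hz, d.hx]
  rw [← card_mul_index d.pi.ker, h6, index_ker, MonoidHom.range_eq_top.2 d.surj, card_top,
    H25.M22.card22]

theorem card_three : (3 : ℕ) ^ (Nat.card (cen x)).factorization 3 = 27 := by
  rw [d.card_cen, show (6 * 443520 : ℕ) = 3 ^ 3 * 98560 by norm_num,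
    Nat.factorization_mul (by norm_num) (by norm_num), Nat.prime_three.factorization_pow]
  simp [Nat.factorization_eq_zero_of_not_dvd (show ¬ 3 ∣ 98560 by norm_num)]

/-- A Sylow 3-subgroup of the cover is not commutative. -/
theorem sylow_not_comm (S : Sylow 3 ↥(cen x)) :
    ¬ ∀ a ∈ (S : Subgroup ↥(cen x)), ∀ b ∈ (S : Subgroup ↥(cen x)), a * b = b * a := by
  intro hc
  haveI : Fact (Nat.Prime 3) := ⟨Nat.prime_three⟩
  let C := ↥(cen x)
  let Sg : Subgroup C := S
  letI : CommGroup ↥Sg :=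
    { (inferInstance : Group ↥Sg) with mul_comm := fun a b => Subtype.ext (hc _ a.2 _ b.2) }
  let x' : C := ⟨x, d.x_mem⟩
  have hxc : ∀ g : C, g * x' = x' * g := fun g => Subtype.ext (mem_cen.1 g.2)
  have key : ∀ (k : ℕ) (g₀ : C), g₀⁻¹ * x' ^ k * g₀ ∈ Sg → g₀⁻¹ * x' ^ k * g₀ = x' ^ k := by
    intro k g₀ _
    rw [mul_assoc, ← ((show Commute g₀ x' from hxc g₀).pow_right k).eq, inv_mul_cancel_left]
  let f := MonoidHom.transfer (MonoidHom.id ↥Sg)
  have hf : ∀ g : C, f g = 1 := by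
    have hp : commutator C = ⊤ := by
      apply Subgroup.map_injective (cen x).subtype_injective
      rw [_root_.commutator_def, Subgroup.map_commutator, ← MonoidHom.range_eq_map, range_subtype,
        d.perf]
    intro g
    have : commutator C ≤ f.ker := by
      rw [_root_.commutator_def, commutator_le]
      intro a _ b _
      rw [MonoidHom.mem_ker, map_commutatorElement, commutatorElement_eq_one_iff_mul_comm]
      exact mul_comm _ _
    exact MonoidHom.mem_ker.1 (this (hp ▸ mem_top g))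
  have e := hf x'
  simp only [f] at e
  rw [MonoidHom.transfer_eq_pow _ x' key] at e
  have e2 : x' ^ Sg.index = 1 := congrArg Subtype.val e
  have h3 : 3 ∣ Sg.index := by
    have := orderOf_dvd_of_pow_eq_one e2
    rwa [show orderOf x' = 3 by rw [← Subgroup.orderOf_coe]; exact d.hx] at this
  exact S.not_dvd_index h3

/-- A noncentral element of order three is conjugate to its product with `x`. -/
theorem exists_twist {y : G} (hy : y ∈ cen x) (h3 : y ^ 3 = 1) (hn : y ∉ zpowers x) :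
    ∃ s ∈ cen x, s * y * s⁻¹ = y * x := by
  haveI : Fact (Nat.Prime 3) := ⟨Nat.prime_three⟩
  let C := ↥(cen x)
  let y' : C := ⟨y, hy⟩
  have hp : IsPGroup 3 (zpowers y') := by
    intro a
    obtain ⟨k, hk⟩ := mem_zpowers_iff.1 a.2
    refine ⟨1, Subtype.ext ?_⟩
    rw [SubmonoidClass.coe_pow, ← hk, ← zpow_natCast, ← zpow_mul, mul_comm, zpow_mul, zpow_natCast,
      show y' ^ (3 ^ 1) = 1 from Subtype.ext h3, one_zpow, OneMemClass.coe_one]
  obtain ⟨S, hS⟩ := hp.exists_le_sylow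
  have hyS : y' ∈ (S : Subgroup C) := hS (mem_zpowers y')
  have hScard : Nat.card (S : Subgroup C) = 27 := by rw [S.card_eq_multiplicity, d.card_three]
  have hnc : y' ∉ (center ↥(S : Subgroup C)).map (S : Subgroup C).subtype := by
    intro hmem
    apply d.sylow_not_comm S
    have hxS : (⟨x, d.x_mem⟩ : C) ∈ (S : Subgroup C) := by
      let Z := zpowers (⟨x, d.x_mem⟩ : C)
      haveI : Z.Normal := ⟨fun n hn g => by
        obtain ⟨k, rfl⟩ := mem_zpowers_iff.1 hn
        have : Commute g (⟨x, d.x_mem⟩ : C) := Subtype.ext (mem_cen.1 g.2)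
        rw [(this.zpow_right k).eq, mul_inv_cancel_right]
        exact zpow_mem (mem_zpowers _) k⟩
      have hZ : IsPGroup 3 Z := IsPGroup.of_card (n := 1) (by
        rw [Nat.card_zpowers, ← Subgroup.orderOf_coe, pow_one]; exact d.hx)
      obtain ⟨Q, hQ⟩ := IsPGroup.exists_le_sylow hZ
      obtain ⟨g, hg⟩ := MulAction.exists_smul_eq C Q S
      rw [← hg, Sylow.coe_subgroup_smul]
      refine ⟨g⁻¹ * ⟨x, d.x_mem⟩ * g⁻¹⁻¹, hQ (Normal.conj_mem ‹Z.Normal› _ (mem_zpowers _) g⁻¹), ?_⟩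
      show g * (g⁻¹ * (⟨x, d.x_mem⟩ : C) * g⁻¹⁻¹) * g⁻¹ = _
      erw [inv_inv, mul_assoc g⁻¹, mul_inv_cancel_left, mul_inv_cancel_right]
    obtain ⟨yc, hyc, hye⟩ := hmem
    let xs : ↥(S : Subgroup C) := ⟨⟨x, d.x_mem⟩, hxS⟩
    have hxz : xs ∈ center ↥(S : Subgroup C) := mem_center_iff.2 fun g =>
      Subtype.ext (Subtype.ext (mem_cen.1 g.1.2))
    have h9 : 9 ≤ Nat.card (center ↥(S : Subgroup C)) := by
      have hlt : zpowers xs < center ↥(S : Subgroup C) := by
        refine lt_of_le_of_ne (zpowers_le.2 hxz) fun e => hn ?_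
        have hm : yc ∈ zpowers xs := e.symm ▸ hyc
        obtain ⟨k, hk⟩ := mem_zpowers_iff.1 hm
        refine mem_zpowers_iff.2 ⟨k, ?_⟩
        have := congrArg (fun u : C => (u : G)) hye
        rw [← hk] at this
        simp only [y', xs, Subgroup.coe_subtype, SubgroupClass.coe_zpow] at this
        exact this
      obtain ⟨k, hk⟩ := IsPGroup.iff_card.1 (S.2.to_subgroup (center ↥(S : Subgroup C)))
      have h3' : Nat.card (zpowers xs) = 3 := by
        rw [Nat.card_zpowers, ← Subgroup.orderOf_coe, ← Subgroup.orderOf_coe]; exact d.hx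
      have hl : Nat.card (zpowers xs) < Nat.card (center ↥(S : Subgroup C)) :=
        Set.Finite.card_lt_card (Set.toFinite _) hlt
      rw [h3', hk] at hl
      rw [hk]
      rcases k with _ | _ | k
      · norm_num at hl
      · norm_num at hl
      · rw [pow_succ, pow_succ, mul_assoc]; exact Nat.le_mul_of_pos_left _ (pow_pos (by norm_num) _)
    have hidx : Nat.card (↥(S : Subgroup C) ⧸ center ↥(S : Subgroup C)) = 1 ∨
        Nat.card (↥(S : Subgroup C) ⧸ center ↥(S : Subgroup C)) = 3 := by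
      have h := card_eq_card_quotient_mul_card_subgroup (center ↥(S : Subgroup C))
      rw [hScard] at h
      have hd : Nat.card (↥(S : Subgroup C) ⧸ center ↥(S : Subgroup C)) ≤ 3 := by
        by_contra hc'
        nlinarith
      have hd' : Nat.card (↥(S : Subgroup C) ⧸ center ↥(S : Subgroup C)) ∣ 27 := ⟨_, h⟩
      generalize Nat.card (↥(S : Subgroup C) ⧸ center ↥(S : Subgroup C)) = q at hd hd'
      interval_cases q <;> omega
    haveI : IsCyclic (↥(S : Subgroup C) ⧸ center ↥(S : Subgroup C)) := by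
      rcases hidx with h | h
      · haveI : Subsingleton (↥(S : Subgroup C) ⧸ center ↥(S : Subgroup C)) :=
          (Nat.card_eq_one_iff_unique.1 h).1
        exact isCyclic_of_subsingleton
      · exact isCyclic_of_prime_card h
    intro a ha b hb
    exact congrArg Subtype.val (commutative_of_cyclic_center_quotient
      (QuotientGroup.mk' (center ↥(S : Subgroup C))) (by rw [QuotientGroup.ker_mk'])
      (⟨a, ha⟩ : ↥(S : Subgroup C)) ⟨b, hb⟩)
  obtain ⟨s, hs, hne⟩ : ∃ s ∈ (S : Subgroup C), s * y' ≠ y' * s := by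
    by_contra hall
    push Not at hall
    exact hnc ⟨⟨y', hyS⟩, mem_center_iff.2 fun g => Subtype.ext (hall g.1 g.2), rfl⟩
  set c : G := (s : G) * y * (s : G)⁻¹ * y⁻¹ with hc
  have hcC : c ∈ cen x := mul_mem (mul_mem (mul_mem s.2 hy) (inv_mem s.2)) (inv_mem hy)
  have hpr : d.pr c = 1 := by
    rw [d.pr_mul (mul_mem (mul_mem s.2 hy) (inv_mem s.2)) (inv_mem hy), d.pr_conj s.2 hy, d.pr_inv hy]
    have hq : IsPGroup 3 ((S : Subgroup C).map d.pi) := S.2.map _
    obtain ⟨Q, hQ⟩ := hq.exists_le_sylow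
    rw [d.pr_def s.2, d.pr_def hy]
    have e : d.pi s * d.pi y' = d.pi y' * d.pi s :=
      H42.J4.sylow_three_comm Q _ (hQ ⟨_, hs, rfl⟩) _ (hQ ⟨_, hyS, rfl⟩)
    show d.pi s * d.pi y' * (d.pi s)⁻¹ * (d.pi y')⁻¹ = 1
    rw [e]
    group
  have hc3 : ∃ n, c ^ (3 ^ n) = 1 := by
    obtain ⟨n, hn'⟩ := S.2 ⟨s * y' * s⁻¹ * y'⁻¹,
      mul_mem (mul_mem (mul_mem hs hyS) (inv_mem hs)) (inv_mem hyS)⟩
    refine ⟨n, ?_⟩
    have := congrArg (fun u : ↥(S : Subgroup C) => ((u : C) : G)) hn'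
    simp only [SubmonoidClass.coe_pow, Subgroup.coe_mul, Subgroup.coe_inv, OneMemClass.coe_one,
      y'] at this
    rw [hc]
    exact this
  obtain ⟨n, hn'⟩ := hc3
  obtain ⟨k, hk⟩ : ∃ k : ℕ, x ^ k = c := mem_powers_iff_mem_zpowers.2 (d.ker_odd hcC hpr hn')
  have hxy : x * y = y * x := (mem_cen.1 hy).symm
  have hsy : (s : G) * y * (s : G)⁻¹ = y * x ^ (k % 3) := by
    rw [← pow_mod_orderOf x k |>.trans rfl] at hk
    rw [d.hx] at hk
    rw [((show Commute y x from hxy.symm).pow_right _).eq, hk, hc, inv_mul_cancel_right]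
  have hk0 : k % 3 ≠ 0 := fun h0 => hne (by
    rw [h0, pow_zero, mul_one, mul_inv_eq_iff_eq_mul] at hsy
    exact Subtype.ext hsy)
  rcases (show k % 3 = 1 ∨ k % 3 = 2 by omega) with h | h
  · exact ⟨s, s.2, by rw [hsy, h, pow_one]⟩
  · refine ⟨(s : G) * s, mul_mem s.2 s.2, ?_⟩
    rw [h] at hsy
    have hsx : (s : G) * x = x * s := mem_cen.1 s.2
    calc (s : G) * s * y * ((s : G) * s)⁻¹ = (s : G) * ((s : G) * y * (s : G)⁻¹) * (s : G)⁻¹ := by group
      _ = (s : G) * (y * x ^ 2) * (s : G)⁻¹ := by rw [hsy]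
      _ = ((s : G) * y * (s : G)⁻¹) * ((s : G) * x ^ 2 * (s : G)⁻¹) := by group
      _ = y * x ^ 2 * x ^ 2 := by
        rw [hsy, ((show Commute (s : G) x from hsx).pow_right 2).eq, mul_inv_cancel_right]
      _ = y * x := by rw [mul_assoc, ← pow_add, show (2 + 2 : ℕ) = 3 + 1 from rfl, pow_succ, d.x3, one_mul]

theorem exists_pow_twist {y : G} (hy : y ∈ cen x) (h3 : y ^ 3 = 1) (hn : y ∉ zpowers x) (j : ℕ) :
    ∃ s ∈ cen x, s * y * s⁻¹ = y * x ^ j := by
  obtain ⟨s, hs, he⟩ := d.exists_twist hy h3 hn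
  refine ⟨s ^ j, pow_mem hs j, ?_⟩
  induction j with
  | zero => simp
  | succ j ih =>
    calc s ^ (j + 1) * y * (s ^ (j + 1))⁻¹ = s * (s ^ j * y * (s ^ j)⁻¹) * s⁻¹ := by
          rw [pow_succ']; group
      _ = (s * y * s⁻¹) * (s * x ^ j * s⁻¹) := by rw [ih]; group
      _ = y * x ^ (j + 1) := by
          rw [he, ((show Commute s x from mem_cen.1 hs).pow_right j).eq, mul_inv_cancel_right,
            mul_assoc, ← pow_succ']

theorem orderOf_pr {y : G} (hy : y ∈ cen x) (h3 : y ^ 3 = 1) (hn : y ∉ zpowers x) :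
    orderOf (d.pr y) = 3 :=
  haveI : Fact (Nat.Prime 3) := ⟨Nat.prime_three⟩
  orderOf_eq_prime (by rw [← d.pr_pow hy, h3, d.pr_one])
    fun e => hn (d.ker_odd hy e (n := 1) (by rwa [pow_one]))

/-- The noncentral elements of order three form one class of the centraliser. -/
theorem three_conj {y w : G} (hy : y ∈ cen x) (y3 : y ^ 3 = 1) (yn : y ∉ zpowers x)
    (hw : w ∈ cen x) (w3 : w ^ 3 = 1) (wn : w ∉ zpowers x) : ∃ c ∈ cen x, c * y * c⁻¹ = w := by
  obtain ⟨a, ha⟩ := isConj_iff.1 (H42.J4.isConj_three (d.orderOf_pr hy y3 yn) (d.orderOf_pr hw w3 wn))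
  obtain ⟨c, hc, rfl⟩ := d.pr_surj a
  set y₁ := c * y * c⁻¹ with hy₁
  have hy₁C : y₁ ∈ cen x := mul_mem (mul_mem hc hy) (inv_mem hc)
  have y₁3 : y₁ ^ 3 = 1 := by rw [hy₁, conj_pow, y3, mul_one, mul_inv_cancel]
  have hpr : d.pr (y₁⁻¹ * w) = 1 := by
    rw [d.pr_mul (inv_mem hy₁C) hw, d.pr_inv hy₁C, hy₁, d.pr_conj hc hy, ha, inv_mul_cancel]
  obtain ⟨i, j, hij⟩ := (d.pr_eq_one (mul_mem (inv_mem hy₁C) hw)).1 hpr
  have hw' : w = y₁ * (z ^ i * x ^ j) := by rw [← hij, mul_inv_cancel_left]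
  have hkC : Commute y₁ (z ^ i * x ^ j) :=
    ((show Commute y₁ z from d.zcomm _ hy₁C).pow_right i).mul_right
      ((show Commute y₁ x from mem_cen.1 hy₁C).pow_right j)
  have hk3 : (z ^ i * x ^ j) ^ (3 ^ 1) = 1 := by
    have := w3
    rw [hw', hkC.mul_pow, y₁3, one_mul] at this
    simpa using this
  obtain ⟨m, hm⟩ : ∃ m : ℕ, x ^ m = z ^ i * x ^ j := mem_powers_iff_mem_zpowers.2
    (d.ker_odd (mul_mem (pow_mem d.zC i) (d.x_pow_mem j))
      ((d.pr_eq_one (mul_mem (pow_mem d.zC i) (d.x_pow_mem j))).2 ⟨i, j, rfl⟩) hk3)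
  have yn₁ : y₁ ∉ zpowers x := fun h => wn (by
    rw [hw', ← hm]; exact mul_mem h (pow_mem (mem_zpowers x) m))
  obtain ⟨s, hs, he⟩ := d.exists_pow_twist hy₁C y₁3 yn₁ m
  refine ⟨s * c, mul_mem hs hc, ?_⟩
  calc s * c * y * (s * c)⁻¹ = s * y₁ * s⁻¹ := by rw [hy₁]; group
    _ = w := by rw [he, hm, ← hw']

end Finite

end Cov

end H54.Jan3
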