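import Cfsg.Agent.H54.Jan3.Cover
import Cfsg.Prelude.Def_JankoFourType

/-!
The Sylow 3-subgroups of a group with such a centraliser have order 27, and failure of 3-normality
makes all elements of order three of the centraliser conjugate to `x`.
-/

set_option autoImplicit false

open Cfsg Subgroup
open scoped commutatorElement

namespace H54.Jan3

open H25.M22 (G22)

variable {G : Type*} [Group G] {x : G}

theorem exists_cov [Finite G] (hx : orderOf x = 3)
    (hperf : ⁅(⊤ : Subgroup ↥(cen x)), (⊤ : Subgroup ↥(cen x))⁆ = ⊤)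
    (hZ : IsCyclic ↥(center ↥(cen x))) (hZc : Nat.card ↥(center ↥(cen x)) = 6)
    (e : ↥(cen x) ⧸ center ↥(cen x) ≃* G22) : ∃ z, Nonempty (Cov x z) := by
  obtain ⟨ζ, hζ⟩ := hZ.exists_generator
  have hζ6 : orderOf ζ = 6 := by rw [orderOf_eq_card_of_forall_mem_zpowers hζ, hZc]
  set ζ' : G := ((ζ : ↥(cen x)) : G) with hζ'
  have ho : orderOf ζ' = 6 := by rw [hζ', Subgroup.orderOf_coe, Subgroup.orderOf_coe, hζ6]
  set z := ζ' ^ 3 with hz
  have hzo : orderOf z = 2 := by rw [hz, orderOf_pow' _ (by norm_num), ho]; rfl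
  have hx' : (⟨x, mem_cen.2 rfl⟩ : ↥(cen x)) ∈ center ↥(cen x) :=
    mem_center_iff.2 fun g => Subtype.ext (mem_cen.1 g.2)
  obtain ⟨m, hm⟩ : ∃ m : ℕ, ζ ^ m = ⟨_, hx'⟩ := mem_powers_iff_mem_zpowers.2 (hζ _)
  have hm' : ζ' ^ m = x := by
    have := congrArg (fun u : center ↥(cen x) => ((u : ↥(cen x)) : G)) hm
    simpa [hζ'] using this
  have hzmem : z ∈ cen x := pow_mem (ζ : ↥(cen x)).2 3
  have hcom : ∀ c ∈ cen x, c * ζ' = ζ' * c := fun c hc =>
    congrArg (fun u : ↥(cen x) => (u : G)) (mem_center_iff.1 ζ.2 ⟨c, hc⟩)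
  have hzx : Commute z x := (show Commute z x from mem_cen.1 hzmem)
  have hord : orderOf (z * x) = 6 := by
    rw [hzx.orderOf_mul_eq_mul_orderOf_of_coprime (by rw [hzo, hx]; norm_num), hzo, hx]
  have hsame : zpowers (z * x) = zpowers ζ' := by
    haveI : Finite (zpowers ζ') := inferInstance
    refine eq_of_le_of_card_ge (zpowers_le.2 (mul_mem (pow_mem (mem_zpowers _) 3)
      (hm' ▸ pow_mem (mem_zpowers _) m))) ?_
    rw [Nat.card_zpowers, Nat.card_zpowers, hord, ho]
  refine ⟨z, ⟨{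
    hx := hx, hz := hzo, zC := hzmem
    perf := ?_
    pi := e.toMonoidHom.comp (QuotientGroup.mk' _)
    surj := e.surjective.comp (QuotientGroup.mk'_surjective _)
    ker := fun c => ?_
    zcomm := fun c hc => ((show Commute c ζ' from hcom c hc).pow_right 3).eq }⟩⟩
  · have := congrArg (Subgroup.map (cen x).subtype) hperf
    rwa [Subgroup.map_commutator, ← MonoidHom.range_eq_map, range_subtype] at this
  · rw [MonoidHom.comp_apply, MulEquiv.coe_toMonoidHom, MulEquiv.map_eq_one_iff,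
      QuotientGroup.mk'_apply, QuotientGroup.eq_one_iff]
    constructor
    · intro hc
      obtain ⟨n, hn⟩ : ∃ n : ℕ, ζ ^ n = ⟨c, hc⟩ := mem_powers_iff_mem_zpowers.2 (hζ _)
      have hn' : ζ' ^ n = (c : G) := by
        have := congrArg (fun u : center ↥(cen x) => ((u : ↥(cen x)) : G)) hn
        simpa [hζ'] using this
      have hmem : (c : G) ∈ zpowers (z * x) := hsame ▸ hn' ▸ pow_mem (mem_zpowers _) n
      obtain ⟨k, hk⟩ : ∃ k : ℕ, (z * x) ^ k = (c : G) := mem_powers_iff_mem_zpowers.2 hmem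
      exact ⟨k, k, by rw [← hk, hzx.mul_pow]⟩
    · rintro ⟨i, j, hc⟩
      refine mem_center_iff.2 fun g => Subtype.ext ?_
      show (g : G) * c = c * g
      rw [hc]
      exact (((show Commute (g : G) ζ' from hcom _ g.2).pow_right 3).pow_right i |>.mul_right
        ((show Commute (g : G) x from mem_cen.1 g.2).pow_right j)).eq

namespace Cov

variable {z : G} (d : Cov x z)
include d

variable [Finite G]

theorem card_center_sylow (S : Sylow 3 ↥(cen x)) :
    Nat.card (center ↥(S : Subgroup ↥(cen x))) = 3 := by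
  haveI : Fact (Nat.Prime 3) := ⟨Nat.prime_three⟩
  have hScard : Nat.card (S : Subgroup ↥(cen x)) = 3 ^ 3 := by
    rw [S.card_eq_multiplicity, d.card_three]; rfl
  obtain ⟨k, hk0, hk⟩ := IsPGroup.card_center_eq_prime_pow hScard (by norm_num)
  have hk3 : k ≤ 3 := by
    have h := Subgroup.card_le_card_group (center ↥(S : Subgroup ↥(cen x)))
    rw [hScard, hk] at h
    exact (Nat.pow_le_pow_iff_right (by norm_num)).1 h
  rcases (show k = 1 ∨ k = 2 ∨ k = 3 by omega) with rfl | rfl | rfl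
  · rw [hk, pow_one]
  all_goals
    exfalso
    apply d.sylow_not_comm S
    have h := card_eq_card_quotient_mul_card_subgroup (center ↥(S : Subgroup ↥(cen x)))
    rw [hScard, hk] at h
    haveI : IsCyclic (↥(S : Subgroup ↥(cen x)) ⧸ center ↥(S : Subgroup ↥(cen x))) := by
      by_cases h1 : Nat.card (↥(S : Subgroup ↥(cen x)) ⧸ center ↥(S : Subgroup ↥(cen x))) = 1
      · haveI := (Nat.card_eq_one_iff_unique.1 h1).1
        exact isCyclic_of_subsingleton
      · refine isCyclic_of_prime_card (p := 3) ?_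
        revert h h1
        generalize Nat.card (↥(S : Subgroup ↥(cen x)) ⧸ center ↥(S : Subgroup ↥(cen x))) = q
        intro h h1
        norm_num at h
        omega
    intro a ha b hb
    exact congrArg Subtype.val (commutative_of_cyclic_center_quotient
      (QuotientGroup.mk' (center ↥(S : Subgroup ↥(cen x)))) (by rw [QuotientGroup.ker_mk'])
      (⟨a, ha⟩ : ↥(S : Subgroup ↥(cen x))) ⟨b, hb⟩)

theorem x_mem_sylow (S : Sylow 3 ↥(cen x)) : (⟨x, d.x_mem⟩ : ↥(cen x)) ∈ (S : Subgroup ↥(cen x)) := by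
  haveI : Fact (Nat.Prime 3) := ⟨Nat.prime_three⟩
  let Z := zpowers (⟨x, d.x_mem⟩ : ↥(cen x))
  haveI hn : Z.Normal := ⟨fun n hn g => by
    obtain ⟨k, rfl⟩ := mem_zpowers_iff.1 hn
    have : Commute g (⟨x, d.x_mem⟩ : ↥(cen x)) := Subtype.ext (mem_cen.1 g.2)
    rw [(this.zpow_right k).eq, mul_inv_cancel_right]
    exact zpow_mem (mem_zpowers _) k⟩
  have hZ : IsPGroup 3 Z := IsPGroup.of_card (n := 1) (by
    rw [Nat.card_zpowers, ← Subgroup.orderOf_coe, pow_one]; exact d.hx)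
  obtain ⟨Q, hQ⟩ := IsPGroup.exists_le_sylow hZ
  obtain ⟨g, hg⟩ := MulAction.exists_smul_eq ↥(cen x) Q S
  rw [← hg, Sylow.coe_subgroup_smul]
  refine ⟨g⁻¹ * ⟨x, d.x_mem⟩ * g⁻¹⁻¹, hQ (hn.conj_mem _ (mem_zpowers _) g⁻¹), ?_⟩
  show g * (g⁻¹ * (⟨x, d.x_mem⟩ : ↥(cen x)) * g⁻¹⁻¹) * g⁻¹ = _
  erw [inv_inv, mul_assoc g⁻¹, mul_inv_cancel_left, mul_inv_cancel_right]

/-- the Sylow subgroup as a subgroup of the whole group, and its centre -/
theorem centre_in (S : Sylow 3 ↥(cen x)) :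
    (center ↥((S : Subgroup ↥(cen x)).map (cen x).subtype)).map
      ((S : Subgroup ↥(cen x)).map (cen x).subtype).subtype = zpowers x := by
  set T := (S : Subgroup ↥(cen x)).map (cen x).subtype with hT
  have hcard : Nat.card ((center ↥T).map T.subtype) = 3 := by
    rw [Subgroup.card_map_of_injective T.subtype_injective, ← d.card_center_sylow S]
    exact (Nat.card_congr (Subgroup.centerCongr
      ((S : Subgroup ↥(cen x)).equivMapOfInjective _ (cen x).subtype_injective)).toEquiv).symm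
  haveI : Finite ↥((center ↥T).map T.subtype) := inferInstance
  refine (eq_of_le_of_card_ge ?_ (by rw [hcard, Nat.card_zpowers, d.hx])).symm
  rw [zpowers_le]
  refine ⟨⟨x, ⟨_, d.x_mem_sylow S, rfl⟩⟩, mem_center_iff.2 ?_, rfl⟩
  rintro ⟨_, u, hu, rfl⟩
  exact Subtype.ext (mem_cen.1 u.2)

theorem card_sylow_map (S : Sylow 3 ↥(cen x)) :
    Nat.card ((S : Subgroup ↥(cen x)).map (cen x).subtype) = 27 := by
  haveI : Fact (Nat.Prime 3) := ⟨Nat.prime_three⟩
  rw [Subgroup.card_map_of_injective (cen x).subtype_injective, S.card_eq_multiplicity, d.card_three]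

/-- The Sylow 3-subgroups of the group have order 27. -/
theorem card_sylow (T : Sylow 3 G) : Nat.card (T : Subgroup G) = 27 := by
  haveI : Fact (Nat.Prime 3) := ⟨Nat.prime_three⟩
  obtain ⟨S⟩ : Nonempty (Sylow 3 ↥(cen x)) := inferInstance
  set R := (S : Subgroup ↥(cen x)).map (cen x).subtype with hR
  obtain ⟨U, hU⟩ := IsPGroup.exists_le_sylow (S.2.map (cen x).subtype)
  rw [Sylow.card_eq_multiplicity, ← Sylow.card_eq_multiplicity U, ← d.card_sylow_map S]
  by_contra hne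
  have hlt : R.subgroupOf (U : Subgroup G) < ⊤ := lt_top_iff_ne_top.2 fun h =>
    hne (by rw [le_antisymm hU (subgroupOf_eq_top.1 h)])
  haveI : Group.IsNilpotent ↥(U : Subgroup G) := U.2.isNilpotent
  obtain ⟨n, hn, hn'⟩ := SetLike.exists_of_lt (Group.normalizerCondition_of_isNilpotent _ hlt)
  have hnR : ∀ r ∈ R, (n : G) * r * (n : G)⁻¹ ∈ R := fun r hr => by
    have := (mem_normalizer_iff.1 hn ⟨r, hU hr⟩).1 hr
    exact this
  have hxR : x ∈ R := ⟨_, d.x_mem_sylow S, rfl⟩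
  -- conjugation by n preserves the centre of R, which is generated by x
  have hnx : (n : G) * x * (n : G)⁻¹ ∈ zpowers x := by
    rw [← d.centre_in S]
    refine ⟨⟨_, hnR x hxR⟩, mem_center_iff.2 fun r => Subtype.ext ?_, rfl⟩
    have hr' : (n : G)⁻¹ * r * (n : G) ∈ R := by
      have hle : R ≤ R.comap (MulAut.conj (n : G)).toMonoidHom := fun a ha => hnR a ha
      have heq : R.map (MulAut.conj (n : G)).toMonoidHom = R :=
        eq_of_le_of_card_ge (map_le_iff_le_comap.2 hle)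
          (by rw [Nat.card_congr (R.equivMapOfInjective (MulAut.conj (n : G)).toMonoidHom (MulAut.conj (n : G)).injective).toEquiv])
      have hr := r.2
      obtain ⟨a, ha, hae⟩ : (r : G) ∈ R.map (MulAut.conj (n : G)).toMonoidHom := heq.ge hr
      have hae' : (n : G) * a * (n : G)⁻¹ = r := hae
      rw [← hae']
      simpa [mul_assoc] using ha
    obtain ⟨c, hc, hce⟩ := hr'
    have hce' : (c : G) = (n : G)⁻¹ * r * n := hce
    have e := mem_cen.1 c.2
    rw [hce'] at e
    show (r : G) * ((n : G) * x * (n : G)⁻¹) = (n : G) * x * (n : G)⁻¹ * r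
    calc (r : G) * ((n : G) * x * (n : G)⁻¹)
        = (n : G) * ((n : G)⁻¹ * r * n * x) * (n : G)⁻¹ := by group
      _ = _ := by rw [e]; group
  obtain ⟨k, hk⟩ : ∃ k : ℕ, x ^ k = (n : G) * x * (n : G)⁻¹ := mem_powers_iff_mem_zpowers.2 hnx
  obtain ⟨m, hm⟩ := U.2 n
  have hm' : (n : G) ^ (3 ^ m) = 1 := by simpa using congrArg (fun u : ↥(U : Subgroup G) => (u : G)) hm
  have hnC : (n : G) ∈ cen x := by
    have hsq : (n : G) ^ 2 * x * ((n : G) ^ 2)⁻¹ = x ^ (k * k) := by
      calc (n : G) ^ 2 * x * ((n : G) ^ 2)⁻¹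
          = (n : G) * ((n : G) * x * (n : G)⁻¹) * (n : G)⁻¹ := by rw [pow_two]; group
        _ = ((n : G) * x * (n : G)⁻¹) ^ k := by rw [conj_pow, hk]
        _ = _ := by rw [← hk, pow_mul]
    have hk0 : k % 3 ≠ 0 := fun h => d.x_ne (by
      have e : x ^ k = 1 := by rw [← pow_mod_orderOf, d.hx, h, pow_zero]
      have e' : (n : G) * x * (n : G)⁻¹ = 1 := hk.symm.trans e
      exact conj_eq_one_iff.1 e')
    have h2 : (n : G) ^ 2 ∈ cen x := by
      have e : x ^ (k * k) = x := by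
        rw [← pow_mod_orderOf, d.hx, Nat.mul_mod]
        rcases (show k % 3 = 1 ∨ k % 3 = 2 by omega) with h | h <;> rw [h] <;> simp
      rw [e, mul_inv_eq_iff_eq_mul] at hsq
      exact mem_cen.2 hsq
    obtain ⟨j, hj⟩ : Odd (3 ^ m) := (show Odd 3 from ⟨1, rfl⟩).pow
    have e : (n : G) = (((n : G) ^ 2) ^ j)⁻¹ := by
      rw [eq_inv_iff_mul_eq_one, ← pow_mul, ← pow_succ', ← hj, hm']
    rw [e]
    exact inv_mem (pow_mem h2 j)
  -- so n lies in the centraliser and enlarges the Sylow subgroup there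
  apply hn'
  show (n : G) ∈ R
  have hge : (S : Subgroup ↥(cen x)) ≤ (U : Subgroup G).subgroupOf (cen x) := fun a ha =>
    hU ⟨a, ha, rfl⟩
  have hp : IsPGroup 3 ((U : Subgroup G).subgroupOf (cen x)) :=
    U.2.comap_of_injective _ (cen x).subtype_injective
  have := S.3 hp hge
  exact ⟨⟨(n : G), hnC⟩, this ▸ (n.2 : (n : G) ∈ (U : Subgroup G)), rfl⟩

/-- Failure of 3-normality: a noncentral element of the centraliser is conjugate to `x`. -/
theorem exists_fused (T : Sylow 3 G) (g : G)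
    (hng : ((center ↥(T : Subgroup G)).map (T : Subgroup G).subtype).map (MulAut.conj g).toMonoidHom ≤
      (T : Subgroup G))
    (hne : ((center ↥(T : Subgroup G)).map (T : Subgroup G).subtype).map (MulAut.conj g).toMonoidHom ≠
      ((center ↥(T : Subgroup G)).map (T : Subgroup G).subtype)) :
    ∃ y ∈ cen x, y ^ 3 = 1 ∧ y ∉ zpowers x ∧ ∃ a : G, a * x * a⁻¹ = y := by
  haveI : Fact (Nat.Prime 3) := ⟨Nat.prime_three⟩
  obtain ⟨S⟩ : Nonempty (Sylow 3 ↥(cen x)) := inferInstance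
  set R := (S : Subgroup ↥(cen x)).map (cen x).subtype with hR
  obtain ⟨U, hU⟩ := IsPGroup.exists_le_sylow (S.2.map (cen x).subtype)
  have hUR : R = (U : Subgroup G) :=
    eq_of_le_of_card_ge hU (by rw [d.card_sylow U, d.card_sylow_map S])
  obtain ⟨a, ha⟩ := MulAction.exists_smul_eq G U T
  have hTR : (T : Subgroup G) = R.map (MulAut.conj a).toMonoidHom := by
    rw [← ha, Sylow.coe_subgroup_smul, hUR]; rfl
  -- centre of T
  have hZ : (center ↥(T : Subgroup G)).map (T : Subgroup G).subtype = zpowers (a * x * a⁻¹) := by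
    have hc3 : Nat.card ((center ↥(T : Subgroup G)).map (T : Subgroup G).subtype) = 3 := by
      rw [Subgroup.card_map_of_injective (T : Subgroup G).subtype_injective]
      exact (Nat.card_congr (Subgroup.centerCongr (((S : Subgroup ↥(cen x)).equivMapOfInjective _
        (cen x).subtype_injective).trans ((R.equivMapOfInjective _ (MulAut.conj a).injective).trans
        (MulEquiv.subgroupCongr hTR.symm))).symm).toEquiv).trans (d.card_center_sylow S)
    refine (eq_of_le_of_card_ge ?_ ?_).symm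
    · rw [zpowers_le]
      have hxR : x ∈ R := ⟨_, d.x_mem_sylow S, rfl⟩
      refine ⟨⟨a * x * a⁻¹, hTR ▸ ⟨x, hxR, rfl⟩⟩, mem_center_iff.2 fun r => Subtype.ext ?_, rfl⟩
      obtain ⟨q, hq, hqe⟩ : (r : G) ∈ R.map (MulAut.conj a).toMonoidHom := hTR.le r.2
      obtain ⟨c, hc, rfl⟩ := hq
      show (r : G) * (a * x * a⁻¹) = a * x * a⁻¹ * r
      rw [← hqe]
      show a * (c : G) * a⁻¹ * (a * x * a⁻¹) = a * x * a⁻¹ * (a * (c : G) * a⁻¹)
      calc a * (c : G) * a⁻¹ * (a * x * a⁻¹) = a * ((c : G) * x) * a⁻¹ := by group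
        _ = _ := by rw [mem_cen.1 c.2]; group
    · rw [hc3, Nat.card_zpowers, show a * x * a⁻¹ = MulAut.conj a x from rfl,
        MulEquiv.orderOf_eq, d.hx]
  rw [hZ, MonoidHom.map_zpowers] at hng hne
  set u := (MulAut.conj g).toMonoidHom (a * x * a⁻¹) with hu
  have huT : u ∈ (T : Subgroup G) := hng (mem_zpowers u)
  rw [hTR] at huT
  obtain ⟨y, hy, hye⟩ := huT
  have hye' : a * y * a⁻¹ = g * (a * x * a⁻¹) * g⁻¹ := hye
  have hy' : y = a⁻¹ * g * a * x * (a⁻¹ * g * a)⁻¹ := by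
    calc y = a⁻¹ * (a * y * a⁻¹) * a := by group
      _ = _ := by rw [hye']; group
  refine ⟨y, by obtain ⟨c, -, rfl⟩ := hy; exact c.2, by rw [hy', conj_pow, d.x3, mul_one, mul_inv_cancel],
    fun hmem => hne ?_, _, hy'.symm⟩
  haveI : Finite (zpowers (a * x * a⁻¹)) := inferInstance
  refine eq_of_le_of_card_ge (zpowers_le.2 ?_) ?_
  · obtain ⟨k, hk⟩ := mem_zpowers_iff.1 hmem
    refine mem_zpowers_iff.2 ⟨k, ?_⟩
    rw [conj_zpow, hk]
    exact hye
  · rw [Nat.card_zpowers, Nat.card_zpowers, hu]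
    exact le_of_eq (MulEquiv.orderOf_eq (MulAut.conj g) _).symm

/-- Conjugation fixing the subgroup generated by `x` fixes `z`. -/
theorem norm_fix_z {g : G} (hg : g * x * g⁻¹ ∈ zpowers x) : g * z * g⁻¹ = z := by
  obtain ⟨k, hk⟩ := mem_powers_iff_mem_zpowers.2 hg
  have hk0 : Nat.Coprime k 3 := (Nat.prime_three.coprime_iff_not_dvd.2 fun ⟨j, hj⟩ => d.x_ne (by
    have e : g * x * g⁻¹ = 1 := hk.symm.trans (by
      show x ^ k = 1
      rw [hj, pow_mul, d.x3, one_pow])
    exact conj_eq_one_iff.1 e)).symm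
  have hmap : ∀ c ∈ cen x, g * c * g⁻¹ ∈ cen x := fun c hc => by
    have e : g * c * g⁻¹ * x ^ k = x ^ k * (g * c * g⁻¹) := by
      rw [show x ^ k = g * x * g⁻¹ from hk]
      calc g * c * g⁻¹ * (g * x * g⁻¹) = g * (c * x) * g⁻¹ := by group
        _ = _ := by rw [mem_cen.1 hc]; group
    obtain ⟨l, hl⟩ : ∃ l, (x ^ k) ^ l = x := exists_pow_eq_self_of_coprime (by rwa [d.hx])
    refine mem_cen.2 ?_
    rw [← hl]
    exact ((show Commute (g * c * g⁻¹) (x ^ k) from e).pow_right l).eq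
  have hsur : ∀ c ∈ cen x, ∃ b ∈ cen x, g * b * g⁻¹ = c := by
    have hle : (cen x).map (MulAut.conj g).toMonoidHom = cen x :=
      eq_of_le_of_card_ge (by rintro _ ⟨c, hc, rfl⟩; exact hmap c hc)
        (by rw [Subgroup.card_map_of_injective (MulAut.conj g).injective])
    intro c hc
    obtain ⟨b, hb, hbe⟩ := hle.symm ▸ hc
    exact ⟨b, hb, hbe⟩
  have hw : g * z * g⁻¹ ∈ cen x := hmap z d.zC
  have hpr : d.pr (g * z * g⁻¹) = 1 := by
    have hc : ∀ a : G22, d.pr (g * z * g⁻¹) * a = a * d.pr (g * z * g⁻¹) := fun a => by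
      obtain ⟨c, hc, rfl⟩ := d.pr_surj a
      obtain ⟨b, hb, rfl⟩ := hsur c hc
      rw [← d.pr_mul hw hc, ← d.pr_mul hc hw]
      congr 1
      calc g * z * g⁻¹ * (g * b * g⁻¹) = g * (z * b) * g⁻¹ := by group
        _ = _ := by rw [← d.zcomm b hb]; group
    have : d.pr (g * z * g⁻¹) ∈ center G22 := mem_center_iff.2 fun a => (hc a).symm
    rwa [H42.J4.center22, mem_bot] at this
  rcases d.ker_two hw hpr (n := 1) (by rw [pow_one, conj_pow, d.z2, mul_one, mul_inv_cancel]) with h | h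
  · exact absurd (conj_eq_one_iff.1 h) d.z_ne
  · exact h

end Cov

/-- The standing hypotheses: the cover, fusion, and characteristic two type at `z`. -/
structure Hyp (x z : G) extends Cov x z where
  fused : ∃ y ∈ cen x, y ^ 3 = 1 ∧ y ∉ zpowers x ∧ ∃ a : G, a * x * a⁻¹ = y
  self : cen z ⊓ centralizer (Cfsg.twoCoreOfCentralizer z : Set G) ≤ Cfsg.twoCoreOfCentralizer z

namespace Hyp

variable {z : G} (h : Hyp x z)
include h

variable [Finite G]

/-- Every noncentral element of order three of the centraliser is conjugate to `x`. -/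
theorem conj_x {y : G} (hy : y ∈ cen x) (y3 : y ^ 3 = 1) (yn : y ∉ zpowers x) :
    ∃ a : G, a * x * a⁻¹ = y := by
  obtain ⟨w, hw, w3, wn, a, ha⟩ := h.fused
  obtain ⟨c, -, hc⟩ := h.toCov.three_conj hw w3 wn hy y3 yn
  refine ⟨c * a, ?_⟩
  rw [← hc, ← ha]; group

theorem exists_inverting : ∃ g : G, g * x * g⁻¹ = x⁻¹ := by
  obtain ⟨w, hw, w3, wn, a, ha⟩ := h.fused
  obtain ⟨b, hb⟩ := h.conj_x (inv_mem hw) (by rw [inv_pow, w3, inv_one])
    (fun hm => wn (by simpa using inv_mem hm))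
  refine ⟨a⁻¹ * b, ?_⟩
  calc a⁻¹ * b * x * (a⁻¹ * b)⁻¹ = a⁻¹ * (b * x * b⁻¹) * a := by group
    _ = x⁻¹ := by rw [hb, ← ha]; group

end Hyp

end H54.Jan3
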