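import Mathlib.Tactic.IntervalCases
import Mathlib.Data.List.Basic

/-!
A finite check in the linear group of dimension four over two elements: a fixed-point-free element
of order three either commutes with one of two given commuting such elements, or a word in the
three conjugates the first into the cyclic group of the second.
-/

set_option autoImplicit false
set_option maxRecDepth 100000
set_option Elab.async false

namespace H54.Jan3

/-- apply a matrix given by the images of the four basis vectors -/
def ap (M : List ℕ) (v : ℕ) : ℕ :=
  (bif Nat.testBit v 0 then M.getD 0 0 else 0) ^^^ (bif Nat.testBit v 1 then M.getD 1 0 else 0) ^^^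
    (bif Nat.testBit v 2 then M.getD 2 0 else 0) ^^^ (bif Nat.testBit v 3 then M.getD 3 0 else 0)

/-- product of matrices -/
def mm (A B : List ℕ) : List ℕ := B.map (ap A)

/-- identity -/
def mId : List ℕ := [1, 2, 4, 8]
/-- the matrix of the central element -/
def mX : List ℕ := [2, 3, 8, 12]
/-- the matrix of the second element -/
def mY : List ℕ := [3, 1, 8, 12]

/-- evaluate a word in mX, mY and a third matrix -/
def evalW (M : List ℕ) (w : List ℕ) : List ℕ :=
  w.foldr (fun l acc => mm (match l with | 0 => mX | 1 => mY | _ => M) acc) mId

/-- the words -/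
def wordList : List (List ℕ) :=
  [[2, 0, 1, 2, 0, 2], [2, 0, 1, 2, 1, 2], [2, 0, 1, 1, 2, 0, 2], [2, 0, 1, 2, 0, 1, 2],
    [2, 0, 0, 1, 2, 1, 2], [2, 1, 2, 0, 1, 2, 0, 2]]

/-- the test for one matrix -/
def testM (M : List ℕ) : Bool :=
  !(mm M (mm M M) == mId) || !((List.range 16).all fun v => Nat.beq v 0 || !Nat.beq (ap M v) v) ||
    (mm M mX == mm mX M) || (mm M mY == mm mY M) ||
    wordList.any fun w => (mm (evalW M w) mX == mm mY (evalW M w)) ||
      (mm (evalW M w) mX == mm (mm mY mY) (evalW M w))

/-- the test with cheap guards in front: the first two basis vectors have orbits of length three -/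
def fastM (a b c d : ℕ) : Bool :=
  !(Nat.beq (ap [a, b, c, d] (ap [a, b, c, d] a)) 1) ||
    !(Nat.beq (ap [a, b, c, d] (ap [a, b, c, d] b)) 2) || testM [a, b, c, d]

/-- one value of the first image -/
def fastA (a : ℕ) : Bool :=
  (List.range 16).all fun b => (List.range 16).all fun c => (List.range 16).all fun d => fastM a b c d

theorem fast_0 : fastA 0 = true := by decide +kernel
theorem fast_1 : fastA 1 = true := by decide +kernel
theorem fast_2 : fastA 2 = true := by decide +kernel
theorem fast_3 : fastA 3 = true := by decide +kernel
theorem fast_4 : fastA 4 = true := by decide +kernel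
theorem fast_5 : fastA 5 = true := by decide +kernel
theorem fast_6 : fastA 6 = true := by decide +kernel
theorem fast_7 : fastA 7 = true := by decide +kernel
theorem fast_8 : fastA 8 = true := by decide +kernel
theorem fast_9 : fastA 9 = true := by decide +kernel
theorem fast_10 : fastA 10 = true := by decide +kernel
theorem fast_11 : fastA 11 = true := by decide +kernel
theorem fast_12 : fastA 12 = true := by decide +kernel
theorem fast_13 : fastA 13 = true := by decide +kernel
theorem fast_14 : fastA 14 = true := by decide +kernel
theorem fast_15 : fastA 15 = true := by decide +kernel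

theorem fast_all : ∀ a < 16, fastA a = true := by
  intro a ha
  interval_cases a
  exacts [fast_0, fast_1, fast_2, fast_3, fast_4, fast_5, fast_6, fast_7, fast_8, fast_9, fast_10, fast_11, fast_12, fast_13, fast_14, fast_15]

theorem test_all : ∀ a < 16, ∀ b < 16, ∀ c < 16, ∀ d < 16, testM [a, b, c, d] = true := by
  intro a ha b hb c hc d hd
  have hb' := List.all_eq_true.1 (fast_all a ha) b (List.mem_range.2 hb)
  have h := List.all_eq_true.1 hb' c (List.mem_range.2 hc)
  have h' := List.all_eq_true.1 h d (List.mem_range.2 hd)
  by_contra hne
  rw [Bool.not_eq_true] at hne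
  have h3 : mm [a, b, c, d] (mm [a, b, c, d] [a, b, c, d]) = mId := by
    have := hne
    simp only [testM, Bool.or_eq_false_iff, Bool.not_eq_false'] at this
    simpa using this.1.1.1.1
  simp only [mm, List.map_cons, List.map_nil, mId, List.cons.injEq] at h3
  simp [fastM, hne, h3.1, h3.2.1] at h'

/-- the powers of the two matrices fix only zero, except trivially -/
theorem nine_moves : ∀ i < 3, ∀ j < 3, i + j ≠ 0 →
    evalW mId (List.replicate i 0 ++ List.replicate j 1) ≠ mId := by
  decide +kernel

end H54.Jan3
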