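import Cfsg.Agent.H54.Jan3.Loc
import Cfsg.Agent.H54.Jan3.Word
import Cfsg.Agent.H8.Coprime

/-!
The centraliser of an inner involution normalises `zpowers x`, from the action on a module of
dimension twelve over two elements.
-/

set_option autoImplicit false

open Cfsg Subgroup

namespace H54.Jan3

open H25.M22 (G22)

variable {X : Type*} [Group X] {x : X} {V : Type*} [CommGroup V]

/-- An action of the local situation on a module. -/
structure Act (d : Loc x) (V : Type*) [CommGroup V] where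
  rho : X →* MulAut V
  sq : ∀ v : V, v * v = 1
  cardV : Nat.card V = 4096
  fixx : ∀ v, rho x v = v → v = 1
  fixy : ∀ y ∈ cen x, y ^ 3 = 1 → y ∉ zpowers x → Nat.card {v // rho y v = v} = 16
  inj : Function.Injective rho
  y0 : X
  y0C : y0 ∈ cen x
  y03 : y0 ^ 3 = 1
  y0n : y0 ∉ zpowers x
  t0 : X
  t0C : t0 ∈ cen x
  t02 : t0 * t0 = 1
  t01 : t0 ≠ 1
  ty : t0 * y0 = y0 * t0
  tfix : ∀ v, rho y0 v = v → rho t0 v = v

namespace Act

variable {d : Loc x} (A : Act d V)
include A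

theorem rho_mul (g h : X) (v : V) : A.rho (g * h) v = A.rho g (A.rho h v) := by
  rw [map_mul]; rfl

theorem rho_one (v : V) : A.rho 1 v = v := by rw [map_one]; rfl

theorem mul_self (a b : V) : a * (a * b) = b := by rw [← mul_assoc, A.sq, one_mul]

theorem inv_eq (a : V) : a⁻¹ = a := inv_eq_of_mul_eq_one_right (A.sq a)

theorem eq_of_mul {a b : V} (h : a * b = 1) : a = b := by
  rw [eq_inv_of_mul_eq_one_left h, A.inv_eq]

/-- a group with one fixed-point-free element of order three: `a * xa = x²a` -/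
theorem x_sum (a : V) : A.rho (x * x) a = a * A.rho x a := by
  have h : a * A.rho x a * A.rho (x * x) a = 1 := by
    apply A.fixx
    rw [map_mul (A.rho x), map_mul (A.rho x), ← A.rho_mul, ← A.rho_mul, ← mul_assoc x,
      show x * x * x = 1 from by rw [← pow_two, ← pow_succ, d.x3], A.rho_one]
    rw [mul_comm (A.rho x a * A.rho (x * x) a) a, mul_assoc]
  exact (A.eq_of_mul h).symm

/-- the fixed points of an element -/
def fixS (g : X) : Subgroup V where
  carrier := {v | A.rho g v = v}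
  one_mem' := map_one _
  mul_mem' {a b} ha hb := by
    show A.rho g (a * b) = a * b
    rw [map_mul, show A.rho g a = a from ha, show A.rho g b = b from hb]
  inv_mem' {a} ha := by
    show A.rho g a⁻¹ = a⁻¹
    rw [map_inv, show A.rho g a = a from ha]

theorem mem_fix {g : X} {v : V} : v ∈ A.fixS g ↔ A.rho g v = v := Iff.rfl

theorem fix_invariant {g h : X} (hc : h * g = g * h) {v : V} (hv : v ∈ A.fixS g) :
    A.rho h v ∈ A.fixS g := by
  rw [A.mem_fix, ← A.rho_mul, ← hc, A.rho_mul, A.mem_fix.1 hv]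

theorem fix_conj {g s : X} {v : V} (hv : v ∈ A.fixS g) : A.rho s v ∈ A.fixS (s * g * s⁻¹) := by
  rw [A.mem_fix, ← A.rho_mul, inv_mul_cancel_right, A.rho_mul, A.mem_fix.1 hv]

theorem yx : Commute A.y0 x := mem_cen.1 A.y0C

/-- the twists of `y0` -/
abbrev piece (j : ℕ) : Subgroup V := A.fixS (A.y0 * x ^ j)

theorem twist_mem (j : ℕ) : A.y0 * x ^ j ∈ cen x ∧ (A.y0 * x ^ j) ^ 3 = 1 ∧
    A.y0 * x ^ j ∉ zpowers x := by
  refine ⟨mul_mem A.y0C (pow_mem d.x_mem j), ?_, fun h => A.y0n ?_⟩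
  · rw [(A.yx.pow_right j).mul_pow, A.y03, ← pow_mul, mul_comm, pow_mul, d.x3, one_pow, one_mul]
  · simpa using mul_mem h (inv_mem (pow_mem (mem_zpowers x) j))

theorem card_piece (j : ℕ) : Nat.card (A.piece j) = 16 :=
  A.fixy _ (A.twist_mem j).1 (A.twist_mem j).2.1 (A.twist_mem j).2.2

theorem y_on {j k : ℕ} (hjk : (j + k) % 3 = 0) {v : V} (hv : v ∈ A.piece j) :
    A.rho A.y0 v = A.rho (x ^ k) v := by
  have e : A.y0 = x ^ k * (A.y0 * x ^ j) := by
    rw [← mul_assoc, ← (A.yx.pow_right k).eq, mul_assoc, ← pow_add, add_comm, pow_eq_pow_mod _ d.x3,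
      hjk, pow_zero, mul_one]
  conv_lhs => rw [e, A.rho_mul, A.mem_fix.1 hv]

theorem piece_x {j : ℕ} {v : V} (hv : v ∈ A.piece j) : A.rho x v ∈ A.piece j :=
  A.fix_invariant (((show Commute x A.y0 from A.yx.symm).mul_right ((Commute.refl x).pow_right j)).eq) hv

theorem piece_t {j : ℕ} {v : V} (hv : v ∈ A.piece j) : A.rho A.t0 v ∈ A.piece j :=
  A.fix_invariant (((show Commute A.t0 A.y0 from A.ty).mul_right
    ((show Commute A.t0 x from mem_cen.1 A.t0C).pow_right j)).eq) hv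

theorem piece_inter {i j : ℕ} (hij : i % 3 ≠ j % 3) {v : V} (hi : v ∈ A.piece i)
    (hj : v ∈ A.piece j) : v = 1 := by
  have hb : ∀ k, v ∈ A.piece k → A.rho (x ^ (3 - k % 3)) v = A.rho A.y0 v := fun k hk =>
    (A.y_on (k := 3 - k % 3) (by omega) hk).symm
  have e : A.rho (x ^ (3 - i % 3)) v = A.rho (x ^ (3 - j % 3)) v := (hb i hi).trans (hb j hj).symm
  have e2 : A.rho (x ^ (i % 3) * x ^ (3 - i % 3)) v = A.rho (x ^ (i % 3) * x ^ (3 - j % 3)) v := by
    rw [A.rho_mul, A.rho_mul, e]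
  rw [← pow_add, ← pow_add, show i % 3 + (3 - i % 3) = 3 by omega, d.x3, A.rho_one,
    pow_eq_pow_mod _ d.x3] at e2
  rcases (show (i % 3 + (3 - j % 3)) % 3 = 1 ∨ (i % 3 + (3 - j % 3)) % 3 = 2 by omega) with h | h
  · rw [h, pow_one] at e2; exact A.fixx v e2.symm
  · rw [h] at e2
    have := congrArg (A.rho x) e2
    rw [← A.rho_mul, ← pow_succ', d.x3, A.rho_one] at this
    exact A.fixx v this

section Finite

variable [Finite X]

theorem finiteV : Finite V := Nat.finite_of_card_ne_zero (by rw [A.cardV]; norm_num)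

theorem decomp : ∀ v : V, ∃ a ∈ A.piece 0, ∃ b ∈ A.piece 1, ∃ c ∈ A.piece 2, v = a * b * c := by
  haveI := A.finiteV
  let f : A.piece 0 × A.piece 1 × A.piece 2 → V := fun p => (p.1 : V) * p.2.1 * p.2.2
  have key : ∀ a ∈ A.piece 0, ∀ b ∈ A.piece 1, ∀ c ∈ A.piece 2, a * b * c = 1 →
      a = 1 ∧ b = 1 ∧ c = 1 := by
    intro a ha b hb c hc h
    have hB : a * A.rho (x ^ 2) b * A.rho (x ^ 1) c = 1 := by
      have := congrArg (A.rho A.y0) h
      rwa [map_mul, map_mul, map_one, A.y_on (k := 0) rfl ha, A.y_on (k := 2) rfl hb,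
        A.y_on (k := 1) rfl hc, pow_zero, A.rho_one] at this
    have hxB : A.rho x a * b * A.rho (x * x) c = 1 := by
      have := congrArg (A.rho x) hB
      rwa [map_mul, map_mul, map_one, ← A.rho_mul, ← A.rho_mul, ← pow_succ', d.x3, A.rho_one,
        pow_one] at this
    have hac : A.rho (x * x) a * A.rho x c = 1 := by
      rw [A.x_sum] at hxB ⊢
      calc a * A.rho x a * A.rho x c = (a * A.rho x a * A.rho x c) * (b * b) * (c * c) := by
            rw [A.sq, A.sq, mul_one, mul_one]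
        _ = (a * b * c) * (A.rho x a * b * (c * A.rho x c)) := by ac_rfl
        _ = 1 := by rw [h, hxB, one_mul]
    have hc0 : c = A.rho x a := by
      have e := A.eq_of_mul hac
      rw [A.rho_mul] at e
      exact ((A.rho x).injective e).symm
    have c1 : c = 1 := A.piece_inter (i := 0) (j := 2) (by norm_num) (hc0 ▸ A.piece_x ha) hc
    have a1 : a = 1 := (A.rho x).injective (by rw [map_one, ← hc0, c1])
    refine ⟨a1, ?_, c1⟩
    rw [a1, c1, one_mul, mul_one] at h
    exact h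
  have hinj : Function.Injective f := by
    rintro ⟨a, b, c⟩ ⟨a', b', c'⟩ e
    have h : ((a : V) * a') * (b * b') * (c * c') = 1 := by
      calc ((a : V) * a') * (b * b') * (c * c') = ((a : V) * b * c) * (a' * b' * c') := by ac_rfl
        _ = ((a : V) * b * c) * (a * b * c) := by rw [show (a : V) * b * c = a' * b' * c' from e]
        _ = 1 := A.sq _
    obtain ⟨e1, e2, e3⟩ := key _ (mul_mem a.2 a'.2) _ (mul_mem b.2 b'.2) _ (mul_mem c.2 c'.2) h
    exact Prod.ext (Subtype.ext (A.eq_of_mul e1))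
      (Prod.ext (Subtype.ext (A.eq_of_mul e2)) (Subtype.ext (A.eq_of_mul e3)))
  have hsurj : Function.Surjective f :=
    ((Nat.bijective_iff_injective_and_card f).2 ⟨hinj, by
      rw [Nat.card_prod, Nat.card_prod, A.card_piece, A.card_piece, A.card_piece, A.cardV]⟩).2
  intro v
  obtain ⟨⟨a, b, c⟩, e⟩ := hsurj v
  exact ⟨a, a.2, b, b.2, c, c.2, e.symm⟩

theorem ext_pieces {g h : X} (hh : ∀ j < 3, ∀ v ∈ A.piece j, A.rho g v = A.rho h v) : g = h := by
  refine A.inj (MulEquiv.ext fun v => ?_)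
  obtain ⟨a, ha, b, hb, c, hc, rfl⟩ := A.decomp v
  simp only [map_mul]
  rw [hh 0 (by norm_num) a ha, hh 1 (by norm_num) b hb, hh 2 (by norm_num) c hc]

theorem piece_mod {i j : ℕ} (h : i % 3 = j % 3) : A.piece i = A.piece j := by
  unfold piece
  rw [pow_eq_pow_mod i d.x3, h, ← pow_eq_pow_mod j d.x3]

/-- `t0` moves both twisted pieces. -/
theorem moved {j : ℕ} (hj : j = 1 ∨ j = 2) : ∃ v ∈ A.piece j, A.rho A.t0 v ≠ v := by
  by_contra hno
  push Not at hno
  obtain ⟨s, hs, hsy⟩ : ∃ s ∈ cen x, s * A.y0 * s⁻¹ = A.y0 * x ^ j := by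
    obtain ⟨s, hs, e⟩ := d.twist A.y0 A.y0C A.y03 A.y0n
    rcases hj with rfl | rfl
    · exact ⟨s, hs, by rw [pow_one]; exact e⟩
    · refine ⟨s * s, mul_mem hs hs, ?_⟩
      calc s * s * A.y0 * (s * s)⁻¹ = s * (s * A.y0 * s⁻¹) * s⁻¹ := by group
        _ = s * (A.y0 * x) * s⁻¹ := by rw [e]
        _ = (s * A.y0 * s⁻¹) * (s * x * s⁻¹) := by group
        _ = _ := by rw [e, mem_cen.1 hs, mul_inv_cancel_right, pow_two, mul_assoc]
  set t := A.t0 with ht
  set t1 := s * t * s⁻¹ with ht1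
  set t2 := s * t1 * s⁻¹ with ht2
  have hpull : ∀ i, ∀ v ∈ A.piece (i + j), A.rho s⁻¹ v ∈ A.piece i := by
    intro i v hv
    have e : s⁻¹ * (A.y0 * x ^ (i + j)) * s⁻¹⁻¹ = A.y0 * x ^ i := by
      have hsx : Commute s (x ^ i) := (show Commute s x from mem_cen.1 hs).pow_right i
      calc s⁻¹ * (A.y0 * x ^ (i + j)) * s⁻¹⁻¹ = s⁻¹ * ((A.y0 * x ^ j) * x ^ i) * s := by
            rw [add_comm i j, pow_add, inv_inv, mul_assoc A.y0]
        _ = A.y0 * (s⁻¹ * x ^ i * s) := by rw [← hsy]; group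
        _ = _ := by rw [hsx.inv_left.eq, inv_mul_cancel_right]
    have := A.fix_conj (s := s⁻¹) hv
    rwa [e] at this
  have tz : ∀ v ∈ A.piece 0, A.rho t v = v := fun v hv => A.tfix v (by rw [A.mem_fix, pow_zero, mul_one] at hv; exact hv)
  have tj : ∀ v ∈ A.piece j, A.rho t v = v := hno
  have shift : ∀ (u : X) (i : ℕ), (∀ v ∈ A.piece i, A.rho u v = v) →
      ∀ v ∈ A.piece (i + j), A.rho (s * u * s⁻¹) v = v := fun u i hu v hv => by
    rw [A.rho_mul, A.rho_mul, hu _ (hpull i v hv), ← A.rho_mul, mul_inv_cancel, A.rho_one]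
  have t1j : ∀ v ∈ A.piece j, A.rho t1 v = v := fun v hv => shift t 0 tz v (by rwa [zero_add])
  have t1k : ∀ v ∈ A.piece (2 * j), A.rho t1 v = v := fun v hv => shift t j tj v (by rwa [← two_mul])
  have t2k : ∀ v ∈ A.piece (2 * j), A.rho t2 v = v := fun v hv => shift t1 j t1j v (by rwa [← two_mul])
  have t20 : ∀ v ∈ A.piece 0, A.rho t2 v = v := fun v hv =>
    shift t1 (2 * j) t1k v (by rwa [A.piece_mod (show (2 * j + j) % 3 = 0 % 3 by omega)])
  -- the three conjugates centralise the pair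
  have mem1 : ∀ u, u ∈ cen x → u * A.y0 = A.y0 * u → s * u * s⁻¹ * A.y0 = A.y0 * (s * u * s⁻¹) := by
    intro u hu huy
    have hy0 : A.y0 = (s * A.y0 * s⁻¹) * (x ^ j)⁻¹ := by rw [hsy, mul_inv_cancel_right]
    have hux : Commute (s * u * s⁻¹) ((x ^ j)⁻¹) :=
      ((show Commute (s * u * s⁻¹) x from mem_cen.1 (mul_mem (mul_mem hs hu) (inv_mem hs))).pow_right j).inv_right
    have huy' : Commute (s * u * s⁻¹) (s * A.y0 * s⁻¹) := by
      show _ = _
      calc s * u * s⁻¹ * (s * A.y0 * s⁻¹) = s * (u * A.y0) * s⁻¹ := by group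
        _ = _ := by rw [huy]; group
    rw [hy0]
    exact (huy'.mul_right hux).eq
  have c1 : t1 ∈ cen x := mul_mem (mul_mem hs A.t0C) (inv_mem hs)
  have c2 : t2 ∈ cen x := mul_mem (mul_mem hs c1) (inv_mem hs)
  have sq1 : t1 * t1 = 1 := by
    rw [ht1, show s * t * s⁻¹ * (s * t * s⁻¹) = s * (t * t) * s⁻¹ by group, A.t02, mul_one, mul_inv_cancel]
  have sq2 : t2 * t2 = 1 := by
    rw [ht2, show s * t1 * s⁻¹ * (s * t1 * s⁻¹) = s * (t1 * t1) * s⁻¹ by group, sq1, mul_one, mul_inv_cancel]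
  have cl : ∀ i, i < 3 → i % 3 = 0 % 3 ∨ i % 3 = j % 3 ∨ i % 3 = (2 * j) % 3 := fun i hi => by omega
  have hy : ∀ u ∈ ({t, t1, t2} : Set X), u ∈ cen x ∧ u * A.y0 = A.y0 * u ∧ u * u = 1 := by
    rintro u (rfl | rfl | rfl)
    · exact ⟨A.t0C, A.ty, A.t02⟩
    · exact ⟨c1, mem1 t A.t0C A.ty, sq1⟩
    · exact ⟨c2, mem1 t1 c1 (mem1 t A.t0C A.ty), sq2⟩
  have inv : ∀ u ∈ ({t, t1, t2} : Set X), ∀ i, ∀ w ∈ A.piece i, A.rho u w ∈ A.piece i :=
    fun u hu i w hw => A.fix_invariant (((show Commute u A.y0 from (hy u hu).2.1).mul_right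
      ((show Commute u x from mem_cen.1 (hy u hu).1).pow_right i)).eq) hw
  have commute_of : ∀ a ∈ ({t, t1, t2} : Set X), ∀ b ∈ ({t, t1, t2} : Set X),
      (∀ i < 3, (∀ v ∈ A.piece i, A.rho a v = v) ∨ (∀ v ∈ A.piece i, A.rho b v = v)) → a * b = b * a := by
    intro a ha b hb hab
    refine A.ext_pieces fun i hi v hv => ?_
    rw [A.rho_mul, A.rho_mul]
    rcases hab i hi with h | h
    · rw [h v hv, h _ (inv b hb i v hv)]
    · rw [h v hv, h _ (inv a ha i v hv)]
  have pc : ∀ i < 3, A.piece i = A.piece 0 ∨ A.piece i = A.piece j ∨ A.piece i = A.piece (2 * j) :=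
    fun i hi => (cl i hi).imp (fun e => A.piece_mod e) (Or.imp (fun e => A.piece_mod e) (fun e => A.piece_mod e))
  have h01 : t * t1 = t1 * t := commute_of t (by simp) t1 (by simp) fun i hi => by
    rcases pc i hi with e | e | e <;> rw [e]
    exacts [Or.inl tz, Or.inl tj, Or.inr t1k]
  have h02 : t * t2 = t2 * t := commute_of t (by simp) t2 (by simp) fun i hi => by
    rcases pc i hi with e | e | e <;> rw [e]
    exacts [Or.inl tz, Or.inl tj, Or.inr t2k]
  have h12 : t1 * t2 = t2 * t1 := commute_of t1 (by simp) t2 (by simp) fun i hi => by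
    rcases pc i hi with e | e | e <;> rw [e]
    exacts [Or.inr t20, Or.inl t1j, Or.inl t1k]
  have ne1 : t1 ≠ 1 := fun e => A.t01 (conj_eq_one_iff.1 e)
  have ne2 : t2 ≠ 1 := fun e => ne1 (conj_eq_one_iff.1 e)
  have move : ∀ (u : X) (p q r : ℕ), u ≠ 1 → (∀ i < 3, A.piece i = A.piece p ∨ A.piece i = A.piece q ∨
      A.piece i = A.piece r) → (∀ v ∈ A.piece p, A.rho u v = v) → (∀ v ∈ A.piece q, A.rho u v = v) →
      ∃ v ∈ A.piece r, A.rho u v ≠ v := by
    intro u p q r hu hpc hp hq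
    by_contra hr
    push Not at hr
    refine hu (A.ext_pieces fun i hi v hv => ?_)
    rw [A.rho_one]
    rcases hpc i hi with e | e | e <;> rw [e] at hv
    exacts [hp v hv, hq v hv, hr v hv]
  obtain ⟨vk, hvk, hvk'⟩ := move t 0 j (2 * j) A.t01 pc tz tj
  obtain ⟨v0, hv0, hv0'⟩ := move t1 j (2 * j) 0 ne1 (fun i hi => by
    rcases pc i hi with e | e | e
    exacts [Or.inr (Or.inr e), Or.inl e, Or.inr (Or.inl e)]) t1j t1k
  obtain ⟨vj, hvj, hvj'⟩ := move t2 (2 * j) 0 j ne2 (fun i hi => by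
    rcases pc i hi with e | e | e
    exacts [Or.inr (Or.inl e), Or.inr (Or.inr e), Or.inl e]) t2k t20
  -- eight involutions in the centraliser of an element of order three of M22
  set S : Set X := {t, t1, t2} with hS
  have hcomm : ∀ a ∈ Subgroup.closure S, ∀ b ∈ Subgroup.closure S, a * b = b * a := by
    have hpair : ∀ a ∈ S, ∀ b ∈ S, a * b = b * a := by
      rintro a (rfl | rfl | rfl) b (rfl | rfl | rfl)
      exacts [rfl, h01, h02, h01.symm, rfl, h12, h02.symm, h12.symm, rfl]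
    intro a ha b hb
    have h := Subgroup.closure_le (K := centralizer (Subgroup.closure S : Set X)) |>.2 ?_ ha
    · exact (mem_centralizer_iff.1 h b hb).symm
    · intro u hu
      refine mem_centralizer_iff.2 fun w hw => ?_
      have h' := Subgroup.closure_le (K := cen u) |>.2 (fun w' hw' => mem_cen.2 (hpair w' hw' u hu)) hw
      exact mem_cen.1 h'
  have hall : ∀ a ∈ Subgroup.closure S, a * a = 1 ∧ a ∈ cen x ∧ a ∈ cen A.y0 := by
    intro a ha
    refine ⟨?_, Subgroup.closure_le (K := cen x) |>.2 (fun u hu => (hy u hu).1) ha,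
      Subgroup.closure_le (K := cen A.y0) |>.2 (fun u hu => mem_cen.2 (hy u hu).2.1) ha⟩
    induction ha using Subgroup.closure_induction with
    | mem u hu => exact (hy u hu).2.2
    | one => exact one_mul 1
    | mul u w hu hw hu' hw' =>
      rw [(show Commute w u from hcomm w hw u hu).mul_mul_mul_comm, hu', hw', one_mul]
    | inv u _ hu => rw [← mul_inv_rev, hu, inv_one]
  let f : Fin 2 × Fin 2 × Fin 2 → Subgroup.closure S := fun p =>
    ⟨t ^ p.1.val * t1 ^ p.2.1.val * t2 ^ p.2.2.val, mul_mem (mul_mem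
      (pow_mem (Subgroup.subset_closure (by simp [hS])) _) (pow_mem (Subgroup.subset_closure (by simp [hS])) _))
      (pow_mem (Subgroup.subset_closure (by simp [hS])) _)⟩
  have fixp : ∀ (u : X) (i : ℕ), (∀ v ∈ A.piece i, A.rho u v = v) → ∀ n : ℕ, ∀ v ∈ A.piece i,
      A.rho (u ^ n) v = v := by
    intro u i hu n
    induction n with
    | zero => intro v _; rw [pow_zero, A.rho_one]
    | succ n ih => intro v hv; rw [pow_succ, A.rho_mul, hu v hv, ih v hv]
  have hf : Function.Injective f := by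
    rintro ⟨a, b, c⟩ ⟨a', b', c'⟩ e
    have e' : t ^ a.val * t1 ^ b.val * t2 ^ c.val = t ^ a'.val * t1 ^ b'.val * t2 ^ c'.val :=
      congrArg Subtype.val e
    have hbit : ∀ (u : X) (v : V), A.rho u v ≠ v → ∀ k k' : Fin 2,
        A.rho (u ^ k.val) v = A.rho (u ^ k'.val) v → k = k' := by
      intro u v hu k k' hk
      fin_cases k <;> fin_cases k' <;> first
        | rfl
        | exact absurd (by simpa [A.rho_one] using hk) hu
        | exact absurd (by simpa [A.rho_one] using hk.symm) hu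
    have ea : a = a' := hbit t vk hvk' a a' (by
      have := congrArg (fun u => A.rho u vk) e'
      simpa only [A.rho_mul, fixp t2 _ t2k _ vk hvk, fixp t1 _ t1k _ vk hvk] using this)
    have eb : b = b' := hbit t1 v0 hv0' b b' (by
      have := congrArg (fun u => A.rho u v0) e'
      simp only [A.rho_mul, fixp t2 _ t20 _ v0 hv0] at this
      rw [ea] at this
      exact (A.rho (t ^ a'.val)).injective this)
    have ec : c = c' := hbit t2 vj hvj' c c' (by
      have := congrArg (fun u => A.rho u vj) e'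
      simp only [A.rho_mul] at this
      rw [ea, eb] at this
      exact (A.rho (t1 ^ b'.val)).injective ((A.rho (t ^ a'.val)).injective this))
    rw [ea, eb, ec]
  have h8 : 8 ≤ Nat.card (Subgroup.closure S) := by
    have := Nat.card_le_card_of_injective f hf
    rwa [Nat.card_prod, Nat.card_prod, Nat.card_fin] at this
  let g : Subgroup.closure S →* G22 :=
    { toFun := fun a => d.pr a
      map_one' := d.pr_one
      map_mul' := fun a b => d.pr_mul (hall _ a.2).2.1 (hall _ b.2).2.1 }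
  have hg : Function.Injective g := fun a b e => Subtype.ext
    (d.eq_of_pr (hall _ a.2).2.1 (hall _ b.2).2.1 (hall _ a.2).1 (hall _ b.2).1 e)
  have hle : g.range ≤ centralizer ({d.pr A.y0} : Set G22) := by
    rintro _ ⟨a, rfl⟩
    refine mem_centralizer_singleton_iff.2 ?_
    show d.pr (a : X) * d.pr A.y0 = d.pr A.y0 * d.pr (a : X)
    rw [← d.pr_mul (hall _ a.2).2.1 A.y0C, ← d.pr_mul A.y0C (hall _ a.2).2.1]
    exact congrArg _ (mem_cen.1 (hall _ a.2).2.2)
  have hd : Nat.card (Subgroup.closure S) ∣ 36 := by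
    rw [Nat.card_congr (MonoidHom.ofInjective hg).toEquiv,
      ← H42.J4.card_cent_three (d.orderOf_pr A.y0C A.y03 A.y0n)]
    exact card_dvd_of_le hle
  have hp : IsPGroup 2 (Subgroup.closure S) := fun a =>
    ⟨1, Subtype.ext (by rw [pow_one, pow_two]; exact (hall _ a.2).1)⟩
  haveI : Fact (Nat.Prime 2) := ⟨Nat.prime_two⟩
  obtain ⟨k, hk⟩ := IsPGroup.iff_card.1 hp
  rw [hk] at hd h8
  have hk3 : 3 ≤ k := (Nat.pow_le_pow_iff_right (a := 2) (by norm_num)).1 (by norm_num; exact h8)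
  have h36 : 2 ^ 3 ∣ 36 := (pow_dvd_pow 2 hk3).trans hd
  norm_num at h36

end Finite

end Act

end H54.Jan3
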