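import Cfsg.Agent.H54.Jan3.Inner

/-!
The centraliser of the involution normalises `zpowers x`: the action on the commutator of the
involution is a subgroup of the linear group of dimension four.
-/

set_option autoImplicit false

open Cfsg Subgroup

namespace H54.Jan3

theorem ap_lt : ∀ {M : List ℕ}, (∀ i, M.getD i 0 < 16) → ∀ v, ap M v < 16 := by
  intro M hM v
  unfold ap
  have h : ∀ b i, (bif b then M.getD i 0 else 0) < 2 ^ 4 := fun b i => by
    cases b
    · exact (by norm_num : (0 : ℕ) < 2 ^ 4)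
    · exact hM i
  exact Nat.xor_lt_two_pow (Nat.xor_lt_two_pow (Nat.xor_lt_two_pow (h _ _) (h _ _)) (h _ _)) (h _ _)

namespace Act

open H25.M22 (G22)

variable {X : Type*} [Group X] {x : X} {V : Type*} [CommGroup V] {d : Loc x} (A : Act d V)
include A

/-- `v ↦ v * t0 v` -/
noncomputable def delta : V →* V where
  toFun v := v * A.rho A.t0 v
  map_one' := by rw [map_one, one_mul]
  map_mul' a b := by rw [map_mul]; ac_rfl

/-- the commutator of `t0` -/
noncomputable def comA : Subgroup V := A.delta.range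

theorem delta_fixed (v : V) : A.rho A.t0 (A.delta v) = A.delta v := by
  show A.rho A.t0 (v * A.rho A.t0 v) = v * A.rho A.t0 v
  rw [map_mul, ← A.rho_mul, A.t02, A.rho_one, mul_comm]

theorem comA_invariant {g : X} (hg : g ∈ cen A.t0) {v : V} (hv : v ∈ A.comA) :
    A.rho g v ∈ A.comA := by
  obtain ⟨u, rfl⟩ := hv
  refine ⟨A.rho g u, ?_⟩
  show A.rho g u * A.rho A.t0 (A.rho g u) = A.rho g (u * A.rho A.t0 u)
  rw [map_mul, ← A.rho_mul, ← A.rho_mul, mem_cen.1 hg]

theorem delta_piece {j : ℕ} {v : V} (hv : v ∈ A.piece j) : A.delta v ∈ A.piece j :=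
  mul_mem hv (A.piece_t hv)

theorem delta_x (v : V) : A.delta (A.rho x v) = A.rho x (A.delta v) := by
  show A.rho x v * A.rho A.t0 (A.rho x v) = A.rho x (v * A.rho A.t0 v)
  rw [map_mul, ← A.rho_mul, ← A.rho_mul, mem_cen.1 A.t0C]

variable [Finite X]

/-- the commutator inside a twisted piece is generated by one element and its image under `x` -/
theorem exists_gen {j : ℕ} (hj : j = 1 ∨ j = 2) : ∃ a ∈ A.piece j, a ≠ 1 ∧ a ∈ A.comA ∧
    ∀ v ∈ A.piece j, A.delta v = 1 ∨ A.delta v = a ∨ A.delta v = A.rho x a ∨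
      A.delta v = a * A.rho x a := by
  classical
  haveI := A.finiteV
  obtain ⟨v0, hv0, hmov⟩ := A.moved hj
  set a := A.delta v0 with ha
  have a1 : a ≠ 1 := fun e => hmov (A.eq_of_mul (show v0 * A.rho A.t0 v0 = 1 from e)).symm
  refine ⟨a, A.delta_piece hv0, a1, ⟨v0, rfl⟩, ?_⟩
  let f : A.piece j →* V := A.delta.comp (A.piece j).subtype
  have hker : Nat.card f.range ≤ Nat.card f.ker := by
    refine Nat.card_le_card_of_injective (fun u : f.range => (⟨⟨(u : V), by
      obtain ⟨w, hw⟩ := u.2; rw [← hw]; exact A.delta_piece w.2⟩, by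
      obtain ⟨w, hw⟩ := u.2
      show A.delta (u : V) = 1
      rw [← hw]
      show A.delta (w : V) * A.rho A.t0 (A.delta (w : V)) = 1
      rw [A.delta_fixed, A.sq]⟩ : f.ker)) ?_
    intro u w e
    exact Subtype.ext (congrArg (fun q : f.ker => ((q : A.piece j) : V)) e)
  have hle4 : Nat.card f.range ≤ 4 := by
    have h := card_mul_index f.ker
    rw [index_ker, A.card_piece] at h
    nlinarith
  have hxa : A.rho x a ≠ a := fun e => a1 (A.fixx a e)
  have hxa1 : A.rho x a ≠ 1 := fun e => a1 ((A.rho x).injective (e.trans (map_one _).symm))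
  have hax : a * A.rho x a ≠ 1 := fun e => hxa (A.eq_of_mul e).symm
  have haR : a ∈ f.range := ⟨⟨v0, hv0⟩, rfl⟩
  have hxR : A.rho x a ∈ f.range := ⟨⟨A.rho x v0, A.piece_x hv0⟩, A.delta_x v0⟩
  let g : Fin 4 → f.range := ![1, ⟨a, haR⟩, ⟨_, hxR⟩, ⟨_, mul_mem haR hxR⟩]
  have hg : Function.Injective g := by
    intro p q e
    have e' := congrArg Subtype.val e
    fin_cases p <;> fin_cases q <;> first
      | rfl
      | exact absurd (by simpa [g] using e') a1
      | exact absurd (by simpa [g] using e'.symm) a1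
      | exact absurd (by simpa [g] using e') hxa1
      | exact absurd (by simpa [g] using e'.symm) hxa1
      | exact absurd (by simpa [g] using e') hax
      | exact absurd (by simpa [g] using e'.symm) hax
      | exact absurd (by simpa [g] using e') hxa
      | exact absurd (by simpa [g] using e'.symm) hxa
  have hgs : Function.Surjective g := (hg.bijective_of_nat_card_le (by rw [Nat.card_fin]; exact hle4)).2
  intro v hv
  obtain ⟨p, hp⟩ := hgs ⟨A.delta v, ⟨⟨v, hv⟩, rfl⟩⟩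
  have hp' := congrArg Subtype.val hp
  fin_cases p <;> simp only [g] at hp'
  · exact Or.inl hp'.symm
  · exact Or.inr (Or.inl hp'.symm)
  · exact Or.inr (Or.inr (Or.inl hp'.symm))
  · exact Or.inr (Or.inr (Or.inr hp'.symm))

/-- chosen generators -/
noncomputable def a1 : V := (A.exists_gen (Or.inl rfl : (1 : ℕ) = 1 ∨ (1 : ℕ) = 2)).choose

/-- chosen generators -/
noncomputable def a2 : V := (A.exists_gen (Or.inr rfl : (2 : ℕ) = 1 ∨ (2 : ℕ) = 2)).choose

theorem a1_spec : A.a1 ∈ A.piece 1 ∧ A.a1 ≠ 1 ∧ A.a1 ∈ A.comA ∧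
    ∀ v ∈ A.piece 1, A.delta v = 1 ∨ A.delta v = A.a1 ∨ A.delta v = A.rho x A.a1 ∨
      A.delta v = A.a1 * A.rho x A.a1 :=
  (A.exists_gen (Or.inl rfl : (1 : ℕ) = 1 ∨ (1 : ℕ) = 2)).choose_spec

theorem a2_spec : A.a2 ∈ A.piece 2 ∧ A.a2 ≠ 1 ∧ A.a2 ∈ A.comA ∧
    ∀ v ∈ A.piece 2, A.delta v = 1 ∨ A.delta v = A.a2 ∨ A.delta v = A.rho x A.a2 ∨
      A.delta v = A.a2 * A.rho x A.a2 :=
  (A.exists_gen (Or.inr rfl : (2 : ℕ) = 1 ∨ (2 : ℕ) = 2)).choose_spec

/-- one factor -/
noncomputable def bitv (_A : Act d V) (b : Bool) (v : V) : V := bif b then v else 1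

/-- coordinates on the commutator -/
noncomputable def psi (n : ℕ) : V :=
  A.bitv (Nat.testBit n 0) A.a1 * A.bitv (Nat.testBit n 1) (A.rho x A.a1) *
    A.bitv (Nat.testBit n 2) A.a2 * A.bitv (Nat.testBit n 3) (A.rho x A.a2)

theorem bitv_xor (b c : Bool) (v : V) : A.bitv (b ^^ c) v = A.bitv b v * A.bitv c v := by
  cases b <;> cases c <;> simp [bitv, A.sq]

theorem psi_xor (m n : ℕ) : A.psi (m ^^^ n) = A.psi m * A.psi n := by
  unfold psi
  simp only [Nat.testBit_xor, A.bitv_xor]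
  ac_rfl

theorem psi_zero : A.psi 0 = 1 := by simp [psi, bitv]
theorem psi_one : A.psi 1 = A.a1 := by simp [psi, bitv, Nat.testBit, Nat.shiftRight_eq_div_pow]
theorem psi_two : A.psi 2 = A.rho x A.a1 := by simp [psi, bitv, Nat.testBit, Nat.shiftRight_eq_div_pow]
theorem psi_four : A.psi 4 = A.a2 := by simp [psi, bitv, Nat.testBit, Nat.shiftRight_eq_div_pow]
theorem psi_eight : A.psi 8 = A.rho x A.a2 := by simp [psi, bitv, Nat.testBit, Nat.shiftRight_eq_div_pow]

theorem psi_three : A.psi 3 = A.a1 * A.rho x A.a1 := by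
  rw [show (3 : ℕ) = 1 ^^^ 2 from rfl, A.psi_xor, A.psi_one, A.psi_two]

theorem psi_twelve : A.psi 12 = A.a2 * A.rho x A.a2 := by
  rw [show (12 : ℕ) = 4 ^^^ 8 from rfl, A.psi_xor, A.psi_four, A.psi_eight]

theorem psi_mem (n : ℕ) : A.psi n ∈ A.comA := by
  have hx : x ∈ cen A.t0 := (mem_cen.2 (mem_cen.1 A.t0C).symm)
  have hb : ∀ b v, v ∈ A.comA → A.bitv b v ∈ A.comA := fun b v hv => by
    cases b
    · exact one_mem _
    · exact hv
  exact mul_mem (mul_mem (mul_mem (hb _ _ A.a1_spec.2.2.1) (hb _ _ (A.comA_invariant hx A.a1_spec.2.2.1)))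
    (hb _ _ A.a2_spec.2.2.1)) (hb _ _ (A.comA_invariant hx A.a2_spec.2.2.1))

theorem psi_surj {v : V} (hv : v ∈ A.comA) : ∃ n < 16, A.psi n = v := by
  obtain ⟨u, rfl⟩ := hv
  obtain ⟨a, ha, b, hb, c, hc, rfl⟩ := A.decomp u
  have h0 : A.delta a = 1 := by
    show a * A.rho A.t0 a = 1
    rw [A.tfix a (by rw [A.mem_fix, pow_zero, mul_one] at ha; exact ha), A.sq]
  rw [map_mul, map_mul, h0, one_mul]
  obtain ⟨m, hm, hm'⟩ : ∃ m < 4, A.psi m = A.delta b := by
    rcases A.a1_spec.2.2.2 b hb with e | e | e | e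
    exacts [⟨0, by norm_num, by rw [e, A.psi_zero]⟩, ⟨1, by norm_num, by rw [e, A.psi_one]⟩,
      ⟨2, by norm_num, by rw [e, A.psi_two]⟩, ⟨3, by norm_num, by rw [e, A.psi_three]⟩]
  obtain ⟨n, hn, hn'⟩ : ∃ n < 16, A.psi n = A.delta c := by
    rcases A.a2_spec.2.2.2 c hc with e | e | e | e
    exacts [⟨0, by norm_num, by rw [e, A.psi_zero]⟩, ⟨4, by norm_num, by rw [e, A.psi_four]⟩,
      ⟨8, by norm_num, by rw [e, A.psi_eight]⟩, ⟨12, by norm_num, by rw [e, A.psi_twelve]⟩]
  exact ⟨m ^^^ n, Nat.xor_lt_two_pow (n := 4) (by omega) hn, by rw [A.psi_xor, hm', hn']⟩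

theorem psi_inj {m n : ℕ} (hm : m < 16) (hn : n < 16) (h : A.psi m = A.psi n) : m = n := by
  have key : ∀ k < 16, A.psi k = 1 → k = 0 := by
    intro k hk hk1
    unfold psi at hk1
    rw [mul_assoc] at hk1
    have e := A.eq_of_mul hk1
    have hb : ∀ b v j, v ∈ A.piece j → A.bitv b v ∈ A.piece j := fun b v j hv => by
      cases b
      · exact one_mem _
      · exact hv
    have p1 := mul_mem (hb (Nat.testBit k 0) _ _ A.a1_spec.1) (hb (Nat.testBit k 1) _ _ (A.piece_x A.a1_spec.1))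
    have p2 := mul_mem (hb (Nat.testBit k 2) _ _ A.a2_spec.1) (hb (Nat.testBit k 3) _ _ (A.piece_x A.a2_spec.1))
    rw [← e] at p2
    have z1 := A.piece_inter (by norm_num) p1 p2
    have z2 := e.symm.trans z1
    have pair : ∀ a : V, a ≠ 1 → ∀ b c : Bool, A.bitv b a * A.bitv c (A.rho x a) = 1 →
        b = false ∧ c = false := by
      intro a ha b c hbc
      cases b <;> cases c <;> simp [bitv] at hbc
      · exact ⟨rfl, rfl⟩
      all_goals
        exfalso
      · exact ha ((A.rho x).injective (by rw [hbc, map_one]))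
      · exact ha hbc
      · exact ha (A.fixx a (A.eq_of_mul hbc).symm)
    obtain ⟨q0, q1⟩ := pair _ A.a1_spec.2.1 _ _ z1
    obtain ⟨q2, q3⟩ := pair _ A.a2_spec.2.1 _ _ z2
    revert q0 q1 q2 q3
    clear hk1 e p1 p2 z1 z2 pair
    revert k
    decide +kernel
  have := key (m ^^^ n) (Nat.xor_lt_two_pow (n := 4) hm hn) (by rw [A.psi_xor, h, A.sq])
  exact Nat.xor_eq_zero_iff.1 this

open Classical in
/-- code of a vector of the commutator -/
noncomputable def code (v : V) : ℕ := if h : v ∈ A.comA then (A.psi_surj h).choose else 0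

theorem code_lt (v : V) : A.code v < 16 := by
  unfold code
  split_ifs with h
  · exact (A.psi_surj h).choose_spec.1
  · norm_num

theorem psi_code {v : V} (h : v ∈ A.comA) : A.psi (A.code v) = v := by
  unfold code
  rw [dif_pos h]
  exact (A.psi_surj h).choose_spec.2

/-- the matrix of an element of the centraliser of `t0` -/
noncomputable def mat (g : X) : List ℕ := [1, 2, 4, 8].map fun n => A.code (A.rho g (A.psi n))

theorem mat_getD (g : X) (i : ℕ) : (A.mat g).getD i 0 < 16 := by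
  rcases i with _ | _ | _ | _ | i <;> simp [mat, A.code_lt]

theorem psi_ap {g : X} (hg : g ∈ cen A.t0) (n : ℕ) (hn : n < 16) :
    A.psi (ap (A.mat g) n) = A.rho g (A.psi n) := by
  have hc : ∀ m, A.psi (A.code (A.rho g (A.psi m))) = A.rho g (A.psi m) := fun m =>
    A.psi_code (A.comA_invariant hg (A.psi_mem m))
  have hb : ∀ (b : Bool) (m : ℕ), A.psi (bif b then A.code (A.rho g (A.psi m)) else 0) =
      A.bitv b (A.rho g (A.psi m)) := fun b m => by
    cases b
    · exact A.psi_zero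
    · exact hc m
  have hbit : ∀ b v, A.bitv b (A.rho g v) = A.rho g (A.bitv b v) := fun b v => by
    cases b <;> simp [bitv]
  unfold ap
  simp only [mat, List.map_cons, List.map_nil, List.getD_cons_zero, List.getD_cons_succ]
  rw [A.psi_xor, A.psi_xor, A.psi_xor, hb, hb, hb, hb, hbit, hbit, hbit, hbit, ← map_mul, ← map_mul,
    ← map_mul, A.psi_one, A.psi_two, A.psi_four, A.psi_eight]
  rfl

theorem mat_eq {g h : X} (hg : g ∈ cen A.t0) (hh : h ∈ cen A.t0) (e : A.mat g = A.mat h) {v : V}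
    (hv : v ∈ A.comA) : A.rho g v = A.rho h v := by
  obtain ⟨n, hn, rfl⟩ := A.psi_surj hv
  rw [← A.psi_ap hg n hn, ← A.psi_ap hh n hn, e]

theorem mat_mul {g h : X} (hg : g ∈ cen A.t0) (hh : h ∈ cen A.t0) :
    A.mat (g * h) = mm (A.mat g) (A.mat h) := by
  show _ = (A.mat h).map (ap (A.mat g))
  simp only [mat, List.map_map]
  refine List.map_congr_left fun n hn => ?_
  refine A.psi_inj (A.code_lt _) (ap_lt (A.mat_getD g) _) ?_
  have e1 := A.psi_code (A.comA_invariant (mul_mem hg hh) (A.psi_mem n))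
  rw [e1, A.rho_mul]
  show _ = A.psi (ap (A.mat g) (A.code (A.rho h (A.psi n))))
  rw [A.psi_ap hg _ (A.code_lt _), A.psi_code (A.comA_invariant hh (A.psi_mem n))]

theorem mat_of {g : X} (hg : g ∈ cen A.t0) {p q r s : ℕ} (hp : p < 16) (hq : q < 16) (hr : r < 16)
    (hs : s < 16) (h1 : A.rho g A.a1 = A.psi p) (h2 : A.rho g (A.rho x A.a1) = A.psi q)
    (h4 : A.rho g A.a2 = A.psi r) (h8 : A.rho g (A.rho x A.a2) = A.psi s) :
    A.mat g = [p, q, r, s] := by
  have key : ∀ m k, k < 16 → A.rho g (A.psi m) = A.psi k → A.code (A.rho g (A.psi m)) = k :=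
    fun m k hk e => A.psi_inj (A.code_lt _) hk
      ((A.psi_code (A.comA_invariant hg (A.psi_mem m))).trans e)
  simp only [mat, List.map_cons, List.map_nil]
  rw [key 1 p hp (by rw [A.psi_one]; exact h1), key 2 q hq (by rw [A.psi_two]; exact h2),
    key 4 r hr (by rw [A.psi_four]; exact h4), key 8 s hs (by rw [A.psi_eight]; exact h8)]

theorem mat_one : A.mat 1 = mId :=
  A.mat_of (one_mem _) (by norm_num) (by norm_num) (by norm_num) (by norm_num)
    (by rw [A.rho_one, A.psi_one]) (by rw [A.rho_one, A.psi_two])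
    (by rw [A.rho_one, A.psi_four]) (by rw [A.rho_one, A.psi_eight])

theorem x_mem_t : x ∈ cen A.t0 := (mem_cen.2 (mem_cen.1 A.t0C).symm)

theorem y_mem_t : A.y0 ∈ cen A.t0 := mem_cen.2 A.ty.symm

theorem mat_x : A.mat x = mX :=
  A.mat_of A.x_mem_t (by norm_num) (by norm_num) (by norm_num) (by norm_num)
    (by rw [A.psi_two]) (by rw [← A.rho_mul, A.x_sum, A.psi_three])
    (by rw [A.psi_eight]) (by rw [← A.rho_mul, A.x_sum, A.psi_twelve])

theorem mat_y : A.mat A.y0 = mY := by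
  have h1 : ∀ v ∈ A.piece 1, A.rho A.y0 v = A.rho (x * x) v := fun v hv => by
    rw [A.y_on (k := 2) rfl hv, pow_two]
  have h2 : ∀ v ∈ A.piece 2, A.rho A.y0 v = A.rho x v := fun v hv => by
    rw [A.y_on (k := 1) rfl hv, pow_one]
  refine A.mat_of A.y_mem_t (by norm_num) (by norm_num) (by norm_num) (by norm_num) ?_ ?_ ?_ ?_
  · rw [h1 _ A.a1_spec.1, A.x_sum, A.psi_three]
  · rw [h1 _ (A.piece_x A.a1_spec.1), ← A.rho_mul, mul_assoc,
      show x * (x * x) = 1 by rw [← mul_assoc, ← pow_two, ← pow_succ, d.x3], A.rho_one, A.psi_one]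
  · rw [h2 _ A.a2_spec.1, A.psi_eight]
  · rw [h2 _ (A.piece_x A.a2_spec.1), ← A.rho_mul, A.x_sum, A.psi_twelve]

/-- elements of the centraliser of `t0` acting trivially on its commutator -/
def kerA : Subgroup X where
  carrier := {g | g ∈ cen A.t0 ∧ A.mat g = mId}
  one_mem' := ⟨one_mem _, A.mat_one⟩
  mul_mem' := by
    rintro g h ⟨hg, hg'⟩ ⟨hh, hh'⟩
    refine ⟨mul_mem hg hh, ?_⟩
    rw [A.mat_mul hg hh, hg', hh']
    rfl
  inv_mem' := by
    rintro g ⟨hg, hg'⟩
    refine ⟨inv_mem hg, ?_⟩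
    have h := A.mat_mul (inv_mem hg) hg
    rw [inv_mul_cancel, A.mat_one, hg'] at h
    rw [h]
    show A.mat g⁻¹ = mm (A.mat g⁻¹) mId
    rw [← A.mat_one, ← A.mat_mul (inv_mem hg) (one_mem _), mul_one]

theorem kerA_normal {g k : X} (hg : g ∈ cen A.t0) (hk : k ∈ A.kerA) : g * k * g⁻¹ ∈ A.kerA := by
  refine ⟨mul_mem (mul_mem hg hk.1) (inv_mem hg), ?_⟩
  rw [A.mat_mul (mul_mem hg hk.1) (inv_mem hg), A.mat_mul hg hk.1, hk.2, ← A.mat_one,
    ← A.mat_mul hg (one_mem _), mul_one, ← A.mat_mul hg (inv_mem hg), mul_inv_cancel]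

theorem mem_kerA_of {g h : X} (hg : g ∈ cen A.t0) (hh : h ∈ cen A.t0) (e : A.mat g = A.mat h) :
    g⁻¹ * h ∈ A.kerA := by
  refine ⟨mul_mem (inv_mem hg) hh, ?_⟩
  rw [A.mat_mul (inv_mem hg) hh, ← e, ← A.mat_mul (inv_mem hg) hg, inv_mul_cancel, A.mat_one]

theorem pair_le_t : zpowers x ⊔ zpowers A.y0 ≤ cen A.t0 :=
  sup_le (zpowers_le.2 A.x_mem_t) (zpowers_le.2 A.y_mem_t)

theorem mat_pow {g : X} (hg : g ∈ cen A.t0) (l : ℕ) (M : List ℕ) :
    ∀ n, (l = 0 → A.mat g = mX) → (l = 1 → A.mat g = mY) → l < 2 →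
      A.mat (g ^ n) = evalW M (List.replicate n l) := by
  intro n h0 h1 hl
  induction n with
  | zero => rw [pow_zero, A.mat_one]; rfl
  | succ n ih =>
    rw [pow_succ', A.mat_mul hg (pow_mem hg n), ih, List.replicate_succ]
    rcases (show l = 0 ∨ l = 1 by omega) with rfl | rfl
    · rw [h0 rfl]; rfl
    · rw [h1 rfl]; rfl

theorem pair_inf_kerA {w : X} (hw : w ∈ zpowers x ⊔ zpowers A.y0) (hk : w ∈ A.kerA) : w = 1 := by
  obtain ⟨i, hi, j, hj, e⟩ := (d.mem_pair A.y0C A.y03 A.y0n).1 hw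
  by_cases h0 : i + j = 0
  · rw [e, show i = 0 by omega, show j = 0 by omega, pow_zero, pow_zero, one_mul]
  · exfalso
    refine nine_moves i hi j hj h0 ?_
    have := hk.2
    rw [e, A.mat_mul (pow_mem A.x_mem_t i) (pow_mem A.y_mem_t j),
      A.mat_pow A.x_mem_t 0 mId i (fun _ => A.mat_x) (by simp) (by norm_num),
      A.mat_pow A.y_mem_t 1 mId j (by simp) (fun _ => A.mat_y) (by norm_num)] at this
    rw [← this]
    clear this e hk hw
    interval_cases i <;> interval_cases j <;> decide +kernel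

theorem not_three_kerA : ¬ 3 ∣ Nat.card A.kerA := by
  intro h3
  haveI : Fact (Nat.Prime 3) := ⟨Nat.prime_three⟩
  obtain ⟨k, hk⟩ := exists_prime_orderOf_dvd_card' (G := A.kerA) 3 h3
  set B := zpowers x ⊔ zpowers A.y0 with hB
  have hBp : IsPGroup 3 B := fun a => ⟨1, Subtype.ext (by
    rw [pow_one]; exact d.pair_pow A.y0C A.y03 A.y0n a.2)⟩
  let T := cen A.t0
  have hBT : IsPGroup 3 (B.subgroupOf T) := hBp.comap_of_injective _ T.subtype_injective
  obtain ⟨S, hS⟩ := IsPGroup.exists_le_sylow hBT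
  have hSB : (S : Subgroup T) = B.subgroupOf T := by
    refine (eq_of_le_of_card_ge hS ?_).symm
    rw [Nat.card_congr (subgroupOfEquivOfLe A.pair_le_t).toEquiv, d.card_pair A.y0C A.y03 A.y0n]
    by_contra hlt
    obtain ⟨n, hn⟩ := IsPGroup.iff_card.1 S.2
    set R := (S : Subgroup T).map T.subtype with hR
    have hRc : Nat.card R = 3 ^ n := by rw [hR, Subgroup.card_map_of_injective T.subtype_injective, hn]
    have hxR : x ∈ R := ⟨⟨x, A.x_mem_t⟩, hS (mem_sup_left (mem_zpowers x)), rfl⟩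
    have hn3 : 3 ≤ n := by
      by_contra hc
      have : 3 ^ n ≤ 3 ^ 2 := Nat.pow_le_pow_right (by norm_num) (by omega)
      omega
    have h27 : 27 ≤ Nat.card R := by
      rw [hRc]; exact le_trans (le_of_eq (by norm_num)) (Nat.pow_le_pow_right (by norm_num : 3 > 0) hn3)
    have hRx := d.big R (S.2.map _) hxR h27
    -- the image in M22 would be a Sylow subgroup centralising an involution
    let M : Subgroup G22 := (R.subgroupOf (cen x)).map d.pi
    have hMp : IsPGroup 3 M := ((S.2.map _).comap_of_injective _ (cen x).subtype_injective).map _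
    obtain ⟨Q, hQ⟩ := hMp.exists_le_sylow
    have hQ9 := H42.J4.card_sylow_three Q
    have hMc : 9 ≤ Nat.card M := by
      let f : R.subgroupOf (cen x) →* G22 := d.pi.comp (R.subgroupOf (cen x)).subtype
      have hf : f.range = M := by rw [MonoidHom.range_comp, range_subtype]
      have h := card_mul_index f.ker
      rw [index_ker, Nat.card_congr (subgroupOfEquivOfLe hRx).toEquiv, hf] at h
      have hk3 : Nat.card f.ker ≤ 3 := by
        refine le_trans (Nat.card_le_card_of_injective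
          (fun a : f.ker => (⟨(((a : R.subgroupOf (cen x)) : cen x) : X), (d.ker _).1 a.2⟩ : zpowers x))
          fun a b e => Subtype.ext (Subtype.ext (Subtype.ext (congrArg (fun q : zpowers x => (q : X)) e)))) ?_
        rw [Nat.card_zpowers, d.hx]
      nlinarith
    have hMQ : M = (Q : Subgroup G22) := eq_of_le_of_card_ge hQ (by omega)
    have hcent : d.pr A.t0 ∈ centralizer ((Q : Subgroup G22) : Set G22) := by
      rw [← hMQ, mem_centralizer_iff]
      rintro _ ⟨⟨a, ha⟩, haR, rfl⟩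
      obtain ⟨b, -, hba⟩ := (haR : a ∈ R)
      rw [← d.pr_def ha, ← d.pr_mul ha A.t0C, ← d.pr_mul A.t0C ha]
      refine congrArg _ ?_
      rw [← show (b : X) = a from hba]
      exact mem_cen.1 b.2
    rw [H42.J4.centralizer_sylow_three] at hcent
    obtain ⟨h2, h1⟩ := d.pr_invol A.t0C A.t02 A.t01
    have := H42.J4.pow_three_sylow Q hcent
    rw [pow_succ, pow_two, h2, one_mul] at this
    exact h1 this
  have hkT : ((k : X)) ∈ T := k.2.1
  have hkp : IsPGroup 3 (zpowers (⟨k, hkT⟩ : T)) := IsPGroup.of_card (n := 1) (by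
    rw [Nat.card_zpowers, ← Subgroup.orderOf_coe, pow_one]
    show orderOf ((k : A.kerA) : X) = 3
    rw [Subgroup.orderOf_coe, hk])
  obtain ⟨S', hS'⟩ := hkp.exists_le_sylow
  obtain ⟨c, hc⟩ := MulAction.exists_smul_eq T S' S
  have hmem : c * ⟨k, hkT⟩ * c⁻¹ ∈ B.subgroupOf T := by
    rw [← hSB, ← hc, Sylow.coe_subgroup_smul]
    exact ⟨⟨k, hkT⟩, hS' (mem_zpowers _), by simp⟩
  have h1 := A.pair_inf_kerA (show (c : X) * k * (c : X)⁻¹ ∈ B from hmem) (A.kerA_normal c.2 k.2)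
  have : k = 1 := Subtype.ext (conj_eq_one_iff.1 h1)
  rw [this, orderOf_one] at hk
  omega

theorem kerA_le : A.kerA ≤ d.nX :=
  d.signalizer_le A.y0C A.y03 A.y0n A.not_three_kerA
    (H8.le_normalizer_of_conj_mem fun _ ha _ hk => A.kerA_normal (A.pair_le_t ha) hk)

theorem of_commute {v g : X} (hv : v ∈ zpowers x ⊔ zpowers A.y0) (hv1 : v ≠ 1) (hg : g ∈ cen A.t0)
    (h : mm (A.mat g) (A.mat v) = mm (A.mat v) (A.mat g)) : g ∈ d.nX := by
  haveI : Fact (Nat.Prime 3) := ⟨Nat.prime_three⟩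
  have hvT := A.pair_le_t hv
  have v3 := d.pair_pow A.y0C A.y03 A.y0n hv
  have hp : IsPGroup 3 (zpowers v) := IsPGroup.of_card (n := 1)
    (by rw [Nat.card_zpowers, orderOf_eq_prime v3 hv1, pow_one])
  have hn : zpowers v ≤ normalizer (A.kerA : Set X) :=
    H8.le_normalizer_of_conj_mem fun _ ha _ hk => A.kerA_normal ((zpowers_le.2 hvT) ha) hk
  have hx' : ∀ a ∈ zpowers v, g⁻¹ * (a * g * a⁻¹) ∈ A.kerA := by
    intro a ha
    obtain ⟨n, rfl⟩ : ∃ n : ℕ, v ^ n = a := mem_powers_iff_mem_zpowers.2 ha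
    induction n with
    | zero => simpa using one_mem A.kerA
    | succ n ih =>
      have hk : g⁻¹ * (v * g * v⁻¹) ∈ A.kerA := by
        have := A.mem_kerA_of (mul_mem hg hvT) (mul_mem hvT hg)
          (by rw [A.mat_mul hg hvT, A.mat_mul hvT hg]; exact h)
        rw [show g⁻¹ * (v * g * v⁻¹) = v * ((g * v)⁻¹ * (v * g)) * v⁻¹ by group]
        exact A.kerA_normal hvT this
      have ih' := ih (pow_mem (mem_zpowers v) n)
      rw [show g⁻¹ * (v ^ (n + 1) * g * (v ^ (n + 1))⁻¹) =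
        (g⁻¹ * (v * g * v⁻¹)) * (v * (g⁻¹ * (v ^ n * g * (v ^ n)⁻¹)) * v⁻¹) by rw [pow_succ']; group]
      exact mul_mem hk (A.kerA_normal hvT ih')
  obtain ⟨k, hk, hc⟩ := H8.exists_fixed_coset hp hn A.not_three_kerA hx'
  have h1 : g * k ∈ d.nX := d.centralizer_le (d.pair_le A.y0C A.y03 A.y0n hv) v3 hv1
    (mem_cen.2 (mem_centralizer_iff.1 hc v (mem_zpowers v)).symm)
  have := mul_mem h1 (inv_mem (A.kerA_le hk))
  rwa [mul_inv_cancel_right] at this

theorem mat_word {g : X} (hg : g ∈ cen A.t0) : ∀ w : List ℕ, ∃ u ∈ cen A.t0,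
    A.mat u = evalW (A.mat g) w := by
  intro w
  induction w with
  | nil => exact ⟨1, one_mem _, A.mat_one⟩
  | cons l w ih =>
    obtain ⟨u, hu, hum⟩ := ih
    rcases l with _ | _ | l
    · exact ⟨x * u, mul_mem A.x_mem_t hu, by rw [A.mat_mul A.x_mem_t hu, A.mat_x, hum]; rfl⟩
    · exact ⟨A.y0 * u, mul_mem A.y_mem_t hu, by rw [A.mat_mul A.y_mem_t hu, A.mat_y, hum]; rfl⟩
    · exact ⟨g * u, mul_mem hg hu, by rw [A.mat_mul hg hu, hum]; rfl⟩

/-- The centraliser of `t0` normalises `zpowers x`. -/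
theorem cen_t0_le : cen A.t0 ≤ d.nX := by
  intro g hg
  apply d.conj_in_nX
  set x' := g * x * g⁻¹ with hx'
  have hxT : x' ∈ cen A.t0 := mul_mem (mul_mem hg A.x_mem_t) (inv_mem hg)
  have xB : x ∈ zpowers x ⊔ zpowers A.y0 := mem_sup_left (mem_zpowers x)
  have yB : A.y0 ∈ zpowers x ⊔ zpowers A.y0 := mem_sup_right (mem_zpowers A.y0)
  have hy1 : A.y0 ≠ 1 := fun e => A.y0n (e ▸ one_mem _)
  have ht : testM (A.mat x') = true := by
    have hl : A.mat x' = [A.code (A.rho x' (A.psi 1)), A.code (A.rho x' (A.psi 2)),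
        A.code (A.rho x' (A.psi 4)), A.code (A.rho x' (A.psi 8))] := rfl
    rw [hl]
    exact test_all _ (A.code_lt _) _ (A.code_lt _) _ (A.code_lt _) _ (A.code_lt _)
  unfold testM at ht
  simp only [Bool.or_eq_true, Bool.not_eq_true', beq_eq_false_iff_ne, ne_eq, beq_iff_eq,
    List.any_eq_true] at ht
  rcases ht with (((h | h) | h) | h) | ⟨w, -, h⟩
  · exfalso
    apply h
    rw [← A.mat_mul hxT hxT, ← A.mat_mul hxT (mul_mem hxT hxT),
      show x' * (x' * x') = x' ^ 3 by simp only [pow_succ, pow_zero, one_mul, mul_assoc],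
      show x' ^ 3 = 1 by rw [hx', conj_pow, d.x3, mul_one, mul_inv_cancel], A.mat_one]
  · exfalso
    rw [← Bool.not_eq_true] at h
    apply h
    rw [List.all_eq_true]
    intro n hn
    rw [List.mem_range] at hn
    simp only [Bool.or_eq_true, Bool.not_eq_true', ← Bool.not_eq_true, Nat.beq_eq]
    by_contra hc
    push Not at hc
    obtain ⟨hn0, hfix⟩ := hc
    have e := A.psi_ap hxT n hn
    rw [hfix, hx', A.rho_mul, A.rho_mul] at e
    have e1 : A.rho x (A.rho g⁻¹ (A.psi n)) = A.rho g⁻¹ (A.psi n) := by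
      apply (A.rho g).injective
      rw [← e, ← A.rho_mul g g⁻¹, mul_inv_cancel, A.rho_one]
    have e2 := A.fixx _ e1
    have e3 : A.psi n = 1 := (A.rho g⁻¹).injective (by rw [e2, map_one])
    exact hn0 (A.psi_inj hn (by norm_num) (e3.trans A.psi_zero.symm))
  · exact A.of_commute xB d.x_ne hxT (by rw [A.mat_x]; exact h)
  · exact A.of_commute yB hy1 hxT (by rw [A.mat_y]; exact h)
  · obtain ⟨u, hu, hum⟩ := A.mat_word hxT w
    rw [← hum] at h
    obtain ⟨v, hvB, hv, hvm⟩ : ∃ v ∈ zpowers x ⊔ zpowers A.y0, v ∉ zpowers x ∧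
        mm (A.mat u) mX = mm (A.mat v) (A.mat u) := by
      rcases h with h | h
      · exact ⟨A.y0, yB, A.y0n, by rw [A.mat_y]; exact h⟩
      · refine ⟨A.y0 * A.y0, mul_mem yB yB, fun hm => A.y0n ?_, by
          rw [A.mat_mul A.y_mem_t A.y_mem_t, A.mat_y]; exact h⟩
        have h4 : A.y0 = (A.y0 * A.y0) * (A.y0 * A.y0) := by
          rw [show A.y0 * A.y0 * (A.y0 * A.y0) = A.y0 ^ 3 * A.y0 by
            simp only [pow_succ, pow_zero, one_mul, mul_assoc], A.y03, one_mul]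
        rw [h4]; exact mul_mem hm hm
    exfalso
    have hvT := A.pair_le_t hvB
    have hk : (v * u)⁻¹ * (u * x) ∈ A.kerA := A.mem_kerA_of (mul_mem hvT hu) (mul_mem hu A.x_mem_t)
      (by rw [A.mat_mul hvT hu, A.mat_mul hu A.x_mem_t, A.mat_x, hvm])
    set k := u * ((v * u)⁻¹ * (u * x)) * u⁻¹ with hkdef
    have hkK : k ∈ A.kerA := A.kerA_normal hu hk
    have e : v * k = u * x * u⁻¹ := by rw [hkdef]; group
    have hN : u * x * u⁻¹ ∈ d.nX := by
      rw [← e]
      exact mul_mem (d.cen_le_nX (d.pair_le A.y0C A.y03 A.y0n hvB)) (A.kerA_le hkK)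
    have huN := d.conj_in_nX hN
    have hmem : u * x * u⁻¹ ∈ zpowers x :=
      (mem_normalizer_iff.1 huN x).1 (mem_zpowers x)
    have hkB : k ∈ zpowers x ⊔ zpowers A.y0 := by
      have : k = v⁻¹ * (u * x * u⁻¹) := by rw [← e, inv_mul_cancel_left]
      rw [this]
      exact mul_mem (inv_mem hvB) (mem_sup_left hmem)
    have k1 := A.pair_inf_kerA hkB hkK
    rw [k1, mul_one] at e
    exact hv (e ▸ hmem)

end Act

end H54.Jan3
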