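import Cfsg.Agent.H54.Jan3.Cover
import Cfsg.Agent.H79.CoprimeGen

/-!
A group in which the centraliser of an element `x` of order three is a triple cover of M22, `x` is
weakly closed in it, and the centralisers of the other elements of order three there normalise
`zpowers x`: basic facts.
-/

set_option autoImplicit false

open Cfsg Subgroup
open scoped commutatorElement

namespace H54.Jan3

open H25.M22 (G22)

variable {X : Type*} [Group X]

/-- The local situation modulo the two-core. -/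
structure Loc (x : X) where
  hx : orderOf x = 3
  pi : ↥(cen x) →* G22
  surj : Function.Surjective pi
  ker : ∀ c, pi c = 1 ↔ (c : X) ∈ zpowers x
  perf : ⁅cen x, cen x⁆ = cen x
  weak : ∀ a : X, a * x * a⁻¹ ∈ cen x → a * x * a⁻¹ ∈ zpowers x
  small : ∀ v ∈ cen x, v ^ 3 = 1 → v ∉ zpowers x → cen v ≤ normalizer (zpowers x : Set X)
  twist : ∀ y ∈ cen x, y ^ 3 = 1 → y ∉ zpowers x → ∃ s ∈ cen x, s * y * s⁻¹ = y * x
  big : ∀ R : Subgroup X, IsPGroup 3 R → x ∈ R → 27 ≤ Nat.card R → R ≤ cen x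
  inverting : ∃ a : X, a * x * a⁻¹ = x⁻¹

namespace Loc

variable {x : X} (d : Loc x)
include d

theorem x_mem : x ∈ cen x := mem_cen.2 rfl

theorem x3 : x ^ 3 = 1 := d.hx ▸ pow_orderOf_eq_one x

theorem x_ne : x ≠ 1 := fun h => by have := d.hx; rw [h, orderOf_one] at this; omega

/-- the normaliser of the subgroup generated by `x` -/
abbrev nX (_d : Loc x) : Subgroup X := normalizer (zpowers x : Set X)

open Classical in
/-- the projection, extended to the whole group -/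
noncomputable def pr (c : X) : G22 := if h : c ∈ cen x then d.pi ⟨c, h⟩ else 1

theorem pr_def {c : X} (h : c ∈ cen x) : d.pr c = d.pi ⟨c, h⟩ := dif_pos h

theorem pr_mul {a b : X} (ha : a ∈ cen x) (hb : b ∈ cen x) : d.pr (a * b) = d.pr a * d.pr b := by
  rw [d.pr_def ha, d.pr_def hb, d.pr_def (mul_mem ha hb), ← map_mul]
  rfl

theorem pr_one : d.pr 1 = 1 := by rw [d.pr_def (one_mem _)]; exact map_one d.pi

theorem pr_inv {a : X} (ha : a ∈ cen x) : d.pr a⁻¹ = (d.pr a)⁻¹ := by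
  rw [d.pr_def ha, d.pr_def (inv_mem ha), ← map_inv]
  rfl

theorem pr_pow {a : X} (ha : a ∈ cen x) (n : ℕ) : d.pr (a ^ n) = d.pr a ^ n := by
  induction n with
  | zero => simp [d.pr_one]
  | succ n ih => rw [pow_succ, pow_succ, d.pr_mul (pow_mem ha n) ha, ih]

theorem pr_conj {a b : X} (ha : a ∈ cen x) (hb : b ∈ cen x) :
    d.pr (a * b * a⁻¹) = d.pr a * d.pr b * (d.pr a)⁻¹ := by
  rw [d.pr_mul (mul_mem ha hb) (inv_mem ha), d.pr_mul ha hb, d.pr_inv ha]

theorem pr_surj (a : G22) : ∃ c ∈ cen x, d.pr c = a := by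
  obtain ⟨⟨c, hc⟩, h⟩ := d.surj a
  exact ⟨c, hc, by rw [d.pr_def hc, h]⟩

theorem pr_eq_one {c : X} (hc : c ∈ cen x) : d.pr c = 1 ↔ c ∈ zpowers x := by
  rw [d.pr_def hc]; exact d.ker ⟨c, hc⟩

theorem pow_cases {c : X} (hc : c ∈ zpowers x) : c = 1 ∨ c = x ∨ c = x⁻¹ := by
  obtain ⟨k, rfl⟩ := mem_zpowers_iff.1 hc
  rw [← zpow_mod_orderOf x k, d.hx]
  rcases (show k % (3 : ℕ) = 0 ∨ k % (3 : ℕ) = 1 ∨ k % (3 : ℕ) = 2 by omega) with e | e | e <;> rw [e]
  · left; exact zpow_zero x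
  · right; left; exact zpow_one x
  · right; right
    rw [show (2 : ℤ) = ((2 : ℕ) : ℤ) from rfl, zpow_natCast]
    refine eq_inv_of_mul_eq_one_left ?_
    rw [← pow_succ, d.x3]

theorem sq_mem {c : X} (hc : c ∈ zpowers x) (h2 : c * c = 1) : c = 1 := by
  have h3 : c ^ 3 = 1 := by
    obtain ⟨k, rfl⟩ := mem_zpowers_iff.1 hc
    rw [← zpow_natCast, ← zpow_mul, mul_comm, zpow_mul, zpow_natCast, d.x3, one_zpow]
  rwa [pow_succ, pow_two, h2, one_mul] at h3

theorem cen_le_nX : cen x ≤ d.nX := fun c hc => mem_normalizer_iff.2 fun a => by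
  constructor
  · intro ha
    obtain ⟨k, rfl⟩ := mem_zpowers_iff.1 ha
    rw [((show Commute c x from mem_cen.1 hc).zpow_right k).eq, mul_inv_cancel_right]
    exact zpow_mem (mem_zpowers x) k
  · intro ha
    obtain ⟨k, hk⟩ := mem_zpowers_iff.1 ha
    have : a = x ^ k := by
      calc a = c⁻¹ * (c * a * c⁻¹) * c := by group
        _ = c⁻¹ * (x ^ k * c) := by rw [← hk, mul_assoc]
        _ = _ := by rw [← ((show Commute c x from mem_cen.1 hc).zpow_right k).eq, inv_mul_cancel_left]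
    rw [this]; exact zpow_mem (mem_zpowers x) k

theorem conj_cases {n : X} (hn : n ∈ d.nX) : n * x * n⁻¹ = x ∨ n * x * n⁻¹ = x⁻¹ := by
  rcases d.pow_cases ((mem_normalizer_iff.1 hn x).1 (mem_zpowers x)) with e | e | e
  · exact absurd (conj_eq_one_iff.1 e) d.x_ne
  · exact Or.inl e
  · exact Or.inr e

theorem mem_cen_of_eq {c : X} (h : c * x * c⁻¹ = x) : c ∈ cen x :=
  mem_cen.2 (mul_inv_eq_iff_eq_mul.1 h)

theorem mul_mem_cen {n m : X} (hn : n ∈ d.nX) (hm : m ∈ d.nX) (hn' : n ∉ cen x) (hm' : m ∉ cen x) :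
    n * m ∈ cen x := by
  have h1 := (d.conj_cases hn).resolve_left fun e => hn' (d.mem_cen_of_eq e)
  have h2 := (d.conj_cases hm).resolve_left fun e => hm' (d.mem_cen_of_eq e)
  refine d.mem_cen_of_eq ?_
  calc n * m * x * (n * m)⁻¹ = n * (m * x * m⁻¹) * n⁻¹ := by group
    _ = (n * x * n⁻¹)⁻¹ := by rw [h2]; group
    _ = x := by rw [h1, inv_inv]

theorem sq_cen {n : X} (hn : n ∈ d.nX) : n * n ∈ cen x := by
  by_cases h : n ∈ cen x
  · exact mul_mem h h
  · exact d.mul_mem_cen hn hn h h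

theorem mem_cen_of_odd {n : X} (hn : n ∈ d.nX) {k : ℕ} (hk : Odd k) (h1 : n ^ k ∈ cen x) :
    n ∈ cen x := by
  obtain ⟨j, rfl⟩ := hk
  have h2 : n ^ (2 * j) ∈ cen x := by
    rw [pow_mul, pow_two]; exact pow_mem (d.sq_cen hn) j
  have := mul_mem (inv_mem h2) h1
  rwa [pow_succ, inv_mul_cancel_left] at this

theorem mem_cen_of_three {n : X} (hn : n ∈ d.nX) (h3 : n ^ 3 = 1) : n ∈ cen x :=
  d.mem_cen_of_odd hn ⟨1, rfl⟩ (h3 ▸ one_mem _)

theorem cen_x_pm {v : X} (hv : v = x ∨ v = x⁻¹) : cen v ≤ cen x := by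
  intro c hc
  rcases hv with rfl | rfl
  · exact hc
  · exact mem_cen.2 (by simpa using ((show Commute c x⁻¹ from mem_cen.1 hc).inv_right).eq)

/-- A conjugate of `x` inside the normaliser forces the conjugator into it. -/
theorem conj_in_nX [Finite X] {g : X} (h : g * x * g⁻¹ ∈ d.nX) : g ∈ d.nX := by
  have h3 : (g * x * g⁻¹) ^ 3 = 1 := by rw [conj_pow, d.x3, mul_one, mul_inv_cancel]
  have hz := d.weak g (d.mem_cen_of_three h h3)
  refine mem_normalizer_iff.2 fun a => ?_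
  have hmap : (zpowers x).map (MulAut.conj g).toMonoidHom = zpowers x := by
    refine eq_of_le_of_card_ge ?_ (by rw [Nat.card_congr ((zpowers x).equivMapOfInjective
      (MulAut.conj g).toMonoidHom (MulAut.conj g).injective).toEquiv])
    rw [MonoidHom.map_zpowers, zpowers_le]
    exact hz
  constructor
  · intro ha; exact hmap.le ⟨a, ha, rfl⟩
  · intro ha
    obtain ⟨b, hb, hbe⟩ := hmap.ge ha
    rwa [← (MulAut.conj g).injective (show MulAut.conj g b = MulAut.conj g a from hbe)]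

theorem centralizer_le {v : X} (hv : v ∈ cen x) (v3 : v ^ 3 = 1) (v1 : v ≠ 1) : cen v ≤ d.nX := by
  by_cases hvx : v ∈ zpowers x
  · exact ((d.cen_x_pm ((d.pow_cases hvx).resolve_left v1)).trans d.cen_le_nX)
  · exact d.small v hv v3 hvx

theorem orderOf_pr {y : X} (hy : y ∈ cen x) (h3 : y ^ 3 = 1) (hn : y ∉ zpowers x) :
    orderOf (d.pr y) = 3 :=
  haveI : Fact (Nat.Prime 3) := ⟨Nat.prime_three⟩
  orderOf_eq_prime (by rw [← d.pr_pow hy, h3, d.pr_one]) fun e => hn ((d.pr_eq_one hy).1 e)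

theorem pr_invol {t : X} (ht : t ∈ cen x) (h2 : t * t = 1) (h1 : t ≠ 1) :
    d.pr t * d.pr t = 1 ∧ d.pr t ≠ 1 :=
  ⟨by rw [← d.pr_mul ht ht, h2, d.pr_one], fun e => h1 (d.sq_mem ((d.pr_eq_one ht).1 e) h2)⟩

theorem eq_of_pr {a b : X} (ha : a ∈ cen x) (hb : b ∈ cen x) (ha2 : a * a = 1) (hb2 : b * b = 1)
    (h : d.pr a = d.pr b) : a = b := by
  have hab : a⁻¹ * b ∈ zpowers x := (d.pr_eq_one (mul_mem (inv_mem ha) hb)).1
    (by rw [d.pr_mul (inv_mem ha) hb, d.pr_inv ha, h, inv_mul_cancel])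
  obtain ⟨k, hk⟩ : ∃ k : ℤ, x ^ k = a⁻¹ * b := mem_zpowers_iff.1 hab
  have hb' : b = a * x ^ k := by rw [hk, mul_inv_cancel_left]
  have hcm : Commute a (x ^ k) := (show Commute a x from mem_cen.1 ha).zpow_right k
  have e : x ^ k * x ^ k = 1 := by
    calc x ^ k * x ^ k = (a * a) * (x ^ k * x ^ k) := by rw [ha2, one_mul]
      _ = (a * x ^ k) * (a * x ^ k) := by rw [← hcm.mul_mul_mul_comm]
      _ = 1 := by rw [← hb', hb2]
  rw [hb', d.sq_mem (zpow_mem (mem_zpowers x) k) e, mul_one]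

theorem three_of_pr {y : X} (hy : y ∈ cen x) (h : d.pr y * d.pr y = 1) :
    ∃ t ∈ cen x, t * t = 1 ∧ d.pr t = d.pr y := by
  have h2 : (y * y) ∈ zpowers x := (d.pr_eq_one (mul_mem hy hy)).1 (by rw [d.pr_mul hy hy, h])
  refine ⟨y ^ 3, pow_mem hy 3, ?_, ?_⟩
  · obtain ⟨k, hk⟩ := mem_zpowers_iff.1 h2
    calc y ^ 3 * y ^ 3 = (y * y) ^ 3 := by rw [← pow_two, ← pow_two, ← pow_mul, ← pow_mul]
      _ = 1 := by rw [← hk, ← zpow_natCast, ← zpow_mul, mul_comm, zpow_mul, zpow_natCast, d.x3, one_zpow]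
  · rw [d.pr_pow hy, pow_succ, pow_two, h, one_mul]

theorem invol_conj {a b : X} (ha : a ∈ cen x) (hb : b ∈ cen x) (ha2 : a * a = 1) (hb2 : b * b = 1)
    (ha1 : a ≠ 1) (hb1 : b ≠ 1) : ∃ c ∈ cen x, c * a * c⁻¹ = b := by
  obtain ⟨za, zb⟩ := d.pr_invol ha ha2 ha1, d.pr_invol hb hb2 hb1
  have h := H25.M22.reps_mem
  simp only [Bool.and_eq_true] at h
  obtain ⟨w, hw⟩ := H87.exists_of_mem22 h.1.1.1
  obtain ⟨q, hq⟩ := isConj_iff.1 ((H25.M22.isConj_inv hw za.1 za.2).symm.trans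
    (H25.M22.isConj_inv hw zb.1 zb.2))
  obtain ⟨c, hc, rfl⟩ := d.pr_surj q
  refine ⟨c, hc, d.eq_of_pr (mul_mem (mul_mem hc ha) (inv_mem hc)) hb ?_ hb2 ?_⟩
  · rw [show c * a * c⁻¹ * (c * a * c⁻¹) = c * (a * a) * c⁻¹ by group, ha2, mul_one, mul_inv_cancel]
  · rw [d.pr_conj hc ha, hq]

section Pair

variable {y : X} (hy : y ∈ cen x) (y3 : y ^ 3 = 1) (yn : y ∉ zpowers x)
include hy y3 yn

theorem comm_xy : x * y = y * x := (mem_cen.1 hy).symm

theorem mem_pair [Finite X] {w : X} :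
    w ∈ zpowers x ⊔ zpowers y ↔ ∃ i < 3, ∃ j < 3, w = x ^ i * y ^ j := by
  have hc : Commute x y := d.comm_xy hy y3 yn
  constructor
  · intro h
    have hn : zpowers y ≤ normalizer (zpowers x : Set X) :=
      le_trans (zpowers_le.2 hy) d.cen_le_nX
    rw [← SetLike.mem_coe, Subgroup.coe_mul_of_right_le_normalizer_left _ _ hn] at h
    obtain ⟨a, ha, b, hb, rfl⟩ := h
    obtain ⟨i, rfl⟩ : ∃ i : ℕ, x ^ i = a := mem_powers_iff_mem_zpowers.2 ha
    obtain ⟨j, rfl⟩ : ∃ j : ℕ, y ^ j = b := mem_powers_iff_mem_zpowers.2 hb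
    exact ⟨i % 3, Nat.mod_lt _ (by norm_num), j % 3, Nat.mod_lt _ (by norm_num), by
      rw [← pow_eq_pow_mod i d.x3, ← pow_eq_pow_mod j y3]⟩
  · rintro ⟨i, -, j, -, rfl⟩
    exact mul_mem (mem_sup_left (pow_mem (mem_zpowers x) i)) (mem_sup_right (pow_mem (mem_zpowers y) j))

theorem pair_le : zpowers x ⊔ zpowers y ≤ cen x :=
  sup_le (zpowers_le.2 d.x_mem) (zpowers_le.2 hy)

theorem pair_pow [Finite X] {w : X} (hw : w ∈ zpowers x ⊔ zpowers y) : w ^ 3 = 1 := by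
  obtain ⟨i, -, j, -, rfl⟩ := (d.mem_pair hy y3 yn).1 hw
  rw [((show Commute x y from d.comm_xy hy y3 yn).pow_pow i j).mul_pow, ← pow_mul, ← pow_mul,
    mul_comm i, mul_comm j, pow_mul, pow_mul, d.x3, y3, one_pow, one_pow, one_mul]

theorem pair_comm [Finite X] : IsMulCommutative ↥(zpowers x ⊔ zpowers y) := by
  refine ⟨⟨fun a b => Subtype.ext ?_⟩⟩
  obtain ⟨i, -, j, -, ha⟩ := (d.mem_pair hy y3 yn).1 a.2
  obtain ⟨k, -, l, -, hb⟩ := (d.mem_pair hy y3 yn).1 b.2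
  have hc : Commute x y := d.comm_xy hy y3 yn
  show (a : X) * b = b * a
  rw [ha, hb]
  exact ((((Commute.refl x).pow_pow i k).mul_left (hc.symm.pow_pow j k)).mul_right
    (((hc.pow_pow i l)).mul_left ((Commute.refl y).pow_pow j l))).eq

theorem card_pair [Finite X] : Nat.card ↥(zpowers x ⊔ zpowers y) = 9 := by
  haveI : Fact (Nat.Prime 3) := ⟨Nat.prime_three⟩
  let f : Fin 3 × Fin 3 → ↥(zpowers x ⊔ zpowers y) := fun p => ⟨x ^ p.1.val * y ^ p.2.val,
    (d.mem_pair hy y3 yn).2 ⟨_, p.1.2, _, p.2.2, rfl⟩⟩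
  have hy1 : y ≠ 1 := fun e => yn (e ▸ one_mem _)
  have ho : orderOf y = 3 := orderOf_eq_prime y3 hy1
  have hf : Function.Bijective f := by
    refine ⟨?_, fun w => ?_⟩
    · rintro ⟨i, j⟩ ⟨k, l⟩ e
      have e' : x ^ i.val * y ^ j.val = x ^ k.val * y ^ l.val := congrArg Subtype.val e
      have hjl : j.val = l.val := by
        by_contra hne
        have hm : y ^ (j.val + (3 - l.val)) ∈ zpowers x := by
          have : y ^ (j.val + (3 - l.val)) = (x ^ i.val)⁻¹ * x ^ k.val := by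
            rw [pow_add, eq_inv_mul_iff_mul_eq, ← mul_assoc, e', mul_assoc, ← pow_add,
              show l.val + (3 - l.val) = 3 by omega, y3, mul_one]
          rw [this]
          exact mul_mem (inv_mem (pow_mem (mem_zpowers x) _)) (pow_mem (mem_zpowers x) _)
        rw [pow_eq_pow_mod _ y3] at hm
        rcases (show (j.val + (3 - l.val)) % 3 = 1 ∨ (j.val + (3 - l.val)) % 3 = 2 by omega)
          with e2 | e2 <;> rw [e2] at hm
        · exact yn (by rwa [pow_one] at hm)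
        · have h4 : y = (y ^ 2) ^ 2 := by
            rw [← pow_mul, show (2 * 2 : ℕ) = 3 + 1 from rfl, pow_succ, y3, one_mul]
          exact yn (h4 ▸ pow_mem hm 2)
      rw [hjl] at e'
      have := pow_inj_mod.1 (mul_right_cancel e')
      rw [d.hx] at this
      have h1 : i.val = k.val := by omega
      exact Prod.ext (Fin.ext h1) (Fin.ext hjl)
    · obtain ⟨i, hi, j, hj, e⟩ := (d.mem_pair hy y3 yn).1 w.2
      exact ⟨(⟨i, hi⟩, ⟨j, hj⟩), Subtype.ext e.symm⟩
  rw [← Nat.card_congr (Equiv.ofBijective f hf), Nat.card_prod, Nat.card_fin]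

theorem not_cyclic_pair [Finite X] : ¬ IsCyclic ↥(zpowers x ⊔ zpowers y) := by
  intro h
  obtain ⟨g, hg⟩ := h.exists_generator
  have h9 := orderOf_eq_card_of_forall_mem_zpowers hg
  rw [d.card_pair hy y3 yn] at h9
  have h3 : g ^ 3 = 1 := Subtype.ext (by simpa using d.pair_pow hy y3 yn g.2)
  have := orderOf_dvd_of_pow_eq_one h3
  rw [h9] at this
  norm_num at this

/-- A signalizer: a subgroup of order prime to three normalised by a noncyclic 3-subgroup of the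
centraliser normalises `zpowers x`. -/
theorem signalizer_le [Finite X] {K : Subgroup X} (hK : ¬ 3 ∣ Nat.card K)
    (hn : zpowers x ⊔ zpowers y ≤ normalizer (K : Set X)) : K ≤ d.nX := by
  haveI : Fact (Nat.Prime 3) := ⟨Nat.prime_three⟩
  haveI := d.pair_comm hy y3 yn
  exact H79.le_of_centralizers_le (fun a ha => d.pair_pow hy y3 yn ha) (d.not_cyclic_pair hy y3 yn) hn
    ((Nat.prime_three.coprime_iff_not_dvd.2 hK).symm) fun a ha a1 =>
      inf_le_right.trans (d.centralizer_le (d.pair_le hy y3 yn ha) (d.pair_pow hy y3 yn ha) a1)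

end Pair

end Loc

end H54.Jan3
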