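import Cfsg.Agent.H42.J4.M22Facts
import Cfsg.Agent.H8.OrderFormula

/-!
Two-subgroups of an involution centraliser of M22 normalised by a subgroup of index at most two.
-/

set_option autoImplicit false

open Cfsg Subgroup
open scoped Pointwise

namespace H54.Jan3

open H25.M22 (G22)

theorem card_mul_le {G : Type*} [Group G] [Finite G] {A K L : Subgroup G} (hA : A ≤ L) (hK : K ≤ L) :
    Nat.card A * Nat.card K ≤ Nat.card L * Nat.card (A ⊓ K : Subgroup G) := by
  rw [← H8.card_setMul_mul_card_inf]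
  refine Nat.mul_le_mul_right _ (Nat.card_mono (Set.toFinite _) ?_)
  rintro _ ⟨a, ha, k, hk, rfl⟩
  exact mul_mem (hA ha) (hK hk)

theorem card_mul_sup {G : Type*} [Group G] [Finite G] {A K : Subgroup G}
    (h : A ≤ Subgroup.normalizer (K : Set G)) :
    Nat.card ↥(A ⊔ K) * Nat.card (A ⊓ K : Subgroup G) = Nat.card A * Nat.card K := by
  rw [← H8.card_setMul_mul_card_inf A K, ← Subgroup.coe_mul_of_left_le_normalizer_right A K h]
  rfl

theorem pow_three_mem {G : Type*} [Group G] [Finite G] {M L : Subgroup G} (hML : M ≤ L)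
    (h : Nat.card L ≤ 2 * Nat.card M) {k : G} (hk : k ∈ L) (k3 : k ^ 3 = 1) : k ∈ M := by
  have hd := Subgroup.index_mul_card (M.subgroupOf L)
  rw [Nat.card_congr (subgroupOfEquivOfLe hML).toEquiv] at hd
  have hpos : 0 < Nat.card M := Nat.card_pos
  have hi : (M.subgroupOf L).index ≤ 2 := by nlinarith
  have hi0 : (M.subgroupOf L).index ≠ 0 := fun e => by
    rw [e, zero_mul] at hd; exact (Nat.card_pos (α := L)).ne hd
  rcases (show (M.subgroupOf L).index = 1 ∨ (M.subgroupOf L).index = 2 by omega) with e | e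
  · exact (subgroupOf_eq_top.1 (index_eq_one.1 e)) hk
  · have := mem_subgroupOf.1 (mul_self_mem_of_index_two e (⟨k, hk⟩ : L))
    have h4 : k = k * k * (k * k) := by
      rw [show k * k * (k * k) = k ^ 3 * k from by simp only [pow_succ, pow_zero, one_mul, mul_assoc], k3, one_mul]
    rw [h4]
    exact mul_mem this this

theorem invol_local {t u : G22} {W K : Subgroup G22} (ht : orderOf t = 2) (hu : orderOf u = 3)
    (htu : t * u = u * t) (hKt : K ≤ centralizer ({t} : Set G22))
    (hK : Nat.card (centralizer ({t} : Set G22)) ≤ 2 * Nat.card K) (huK : u ∈ K)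
    (hW : IsPGroup 2 W) (hWK : W ≤ K) (hKW : K ≤ normalizer (W : Set G22))
    (hWu : W ⊓ centralizer ({u} : Set G22) ≤ zpowers t) (htW : t ∈ W) :
    Nat.card W ≤ 2 ^ 7 ∧ Nat.card W ≠ 2 ^ 7 ∧
      (Nat.card W = 2 ^ 5 → ∀ k ∈ K, k * u * k⁻¹ ∈ zpowers u ⊔ W) := by
  haveI : Fact (Nat.Prime 2) := ⟨Nat.prime_two⟩
  set T := centralizer ({t} : Set G22) with hT
  set U := centralizer ({u} : Set G22) with hU
  obtain ⟨hle, h128⟩ := H42.J4.card_cent_invol ht
  have hu36 := H42.J4.card_cent_three hu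
  have huT : u ∈ T := hKt huK
  have htU : t ∈ U := mem_centralizer_singleton_iff.2 htu
  -- T has order 384
  have h3T : 3 ∣ Nat.card T := hu ▸ (T.orderOf_dvd_natCard huT)
  have hT384 : Nat.card T = 384 := le_antisymm hle (Nat.le_of_dvd Nat.card_pos
    (Nat.Coprime.mul_dvd_of_dvd_of_dvd (by norm_num : Nat.Coprime 128 3) h128 h3T))
  -- a four group of U through t centralises t
  obtain ⟨F, hFU, hFt, hF4⟩ : ∃ F : Subgroup G22, F ≤ U ∧ F ≤ T ∧ Nat.card F = 4 := by
    have hp : IsPGroup 2 (zpowers (⟨t, htU⟩ : U)) :=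
      IsPGroup.of_card (n := 1) (by rw [Nat.card_zpowers, ← Subgroup.orderOf_coe, pow_one]; exact ht)
    obtain ⟨S, hS⟩ := hp.exists_le_sylow
    have hS4 : Nat.card (S : Subgroup U) = 4 := by
      rw [S.card_eq_multiplicity, hu36, show (36 : ℕ) = 2 ^ 2 * 9 by norm_num,
        Nat.factorization_mul (by norm_num) (by norm_num), Nat.prime_two.factorization_pow]
      simp [Nat.factorization_eq_zero_of_not_dvd (show ¬ 2 ∣ 9 by norm_num)]
    refine ⟨(S : Subgroup U).map U.subtype, map_subtype_le _, ?_, by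
      rw [Subgroup.card_map_of_injective U.subtype_injective, hS4]⟩
    rintro _ ⟨a, ha, rfl⟩
    refine mem_centralizer_singleton_iff.2 ?_
    have := IsPGroup.commutative_of_card_eq_prime_sq (p := 2) (by rw [hS4]; norm_num)
      (⟨a, ha⟩ : (S : Subgroup U)) ⟨_, hS (mem_zpowers _)⟩
    exact congrArg (fun v : ↥(S : Subgroup U) => ((v : U) : G22)) this
  have hKcard : Nat.card K = 192 ∨ Nat.card K = 384 := by
    have hd : Nat.card K ∣ 384 := hT384 ▸ card_dvd_of_le hKt
    have h192 : 192 ≤ Nat.card K := by omega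
    have h384 : Nat.card K ≤ 384 := Nat.le_of_dvd (by norm_num) hd
    generalize Nat.card K = k at hd h192 h384
    obtain ⟨m, hm⟩ := hd
    have : m ≤ 2 := by nlinarith
    interval_cases m <;> omega
  obtain ⟨j, hj⟩ := IsPGroup.iff_card.1 hW
  have hWd : Nat.card W ∣ Nat.card K := card_dvd_of_le hWK
  have hW7 : Nat.card W ≤ 2 ^ 7 := by
    have hd : 2 ^ j ∣ 384 := hj ▸ hWd.trans (hT384 ▸ card_dvd_of_le hKt)
    rw [hj]
    by_contra hc
    have h8 : 8 ≤ j := by
      by_contra h8
      exact hc (Nat.pow_le_pow_right (by norm_num) (by omega))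
    have : 2 ^ 8 ∣ 384 := (pow_dvd_pow 2 h8).trans hd
    norm_num at this
  refine ⟨hW7, fun h7 => ?_, fun h5 k hk => ?_⟩
  · -- a normal Sylow subgroup would contain the four group
    have hK384 : Nat.card K = 384 := by
      rcases hKcard with e | e
      · rw [h7, e] at hWd; norm_num at hWd
      · exact e
    have hKT : K = T := eq_of_le_of_card_ge hKt (by rw [hK384, hT384])
    have hFW : F ≤ W := by
      have hFn : F ≤ normalizer (W : Set G22) := hFt.trans (hKT ▸ hKW)
      have hsup := card_mul_sup hFn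
      have hdd : Nat.card ↥(F ⊔ W) ∣ 384 := hT384 ▸ card_dvd_of_le (sup_le hFt (hKT ▸ hWK))
      obtain ⟨i, hi⟩ := IsPGroup.iff_card.1 (IsPGroup.to_sup_of_normal_right'
        (IsPGroup.of_card (n := 2) (by rw [hF4]; rfl)) hW hFn)
      have hge : Nat.card W ≤ Nat.card ↥(F ⊔ W) := Subgroup.card_le_of_le le_sup_right
      have h7' : Nat.card ↥(F ⊔ W) ≤ 2 ^ 7 := by
        rw [hi] at hdd ⊢
        by_contra hc
        have h8 : 8 ≤ i := by
          by_contra h8
          exact hc (Nat.pow_le_pow_right (by norm_num) (by omega))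
        have : 2 ^ 8 ∣ 384 := (pow_dvd_pow 2 h8).trans hdd
        norm_num at this
      have e : W = F ⊔ W := eq_of_le_of_card_ge le_sup_right (by omega)
      rw [e]; exact le_sup_left
    have : F ≤ zpowers t := fun f hf => hWu ⟨hFW hf, hFU hf⟩
    have := card_le_of_le this
    rw [hF4, Nat.card_zpowers, ht] at this
    omega
  · set D := U ⊓ K with hD
    have hA12 : 12 ∣ Nat.card (U ⊓ T : Subgroup G22) :=
      Nat.Coprime.mul_dvd_of_dvd_of_dvd (by norm_num : Nat.Coprime 4 3)
        (hF4 ▸ card_dvd_of_le (le_inf hFU hFt))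
        (hu ▸ (U ⊓ T).orderOf_dvd_natCard ⟨mem_centralizer_singleton_iff.2 rfl, huT⟩)
    have hAK : 12 * Nat.card K ≤ 384 * Nat.card D := by
      have h := card_mul_le (A := U ⊓ T) (K := K) inf_le_right hKt
      rw [hT384, inf_assoc, inf_eq_right.2 hKt] at h
      exact le_trans (Nat.mul_le_mul_right _ (Nat.le_of_dvd Nat.card_pos hA12)) h
    have hDW : D ⊓ W = zpowers t := le_antisymm (fun a ha => hWu ⟨ha.2, ha.1.1⟩)
      (zpowers_le.2 ⟨⟨htU, hWK htW⟩, htW⟩)
    have hDn : D ≤ normalizer (W : Set G22) := inf_le_right.trans hKW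
    have hL := card_mul_sup hDn
    rw [hDW, Nat.card_zpowers, ht, h5] at hL
    set M := zpowers u ⊔ W with hM
    have hun : zpowers u ≤ normalizer (W : Set G22) := (zpowers_le.2 huK).trans hKW
    have huW : zpowers u ⊓ W = ⊥ := by
      haveI := Fact.mk Nat.prime_three
      exact disjoint_iff.1 (IsPGroup.disjoint_of_ne (p₁ := 3) (p₂ := 2) (by norm_num)
        (zpowers u) W (IsPGroup.of_card (n := 1) (by rw [Nat.card_zpowers, hu, pow_one])) hW)
    have hMc : Nat.card M = 96 := by
      have h := card_mul_sup hun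
      rw [huW, Subgroup.card_bot, mul_one, Nat.card_zpowers, hu, h5] at h
      exact h
    have hML : M ≤ D ⊔ W := sup_le
      ((zpowers_le.2 (show u ∈ D from ⟨mem_centralizer_singleton_iff.2 rfl, huK⟩)).trans le_sup_left)
      le_sup_right
    have hLK : D ⊔ W ≤ K := sup_le inf_le_right hWK
    have hD36 : Nat.card D ∣ 36 := hu36 ▸ card_dvd_of_le inf_le_left
    have hDK : Nat.card D ∣ Nat.card K := card_dvd_of_le inf_le_right
    have hD12 : Nat.card D ∣ 12 := by
      have h384 : Nat.card D ∣ 384 := hDK.trans (hT384 ▸ card_dvd_of_le hKt)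
      exact (Nat.dvd_gcd hD36 h384).trans (by norm_num)
    have hD12' : Nat.card D ≤ 12 := Nat.le_of_dvd (by norm_num) hD12
    have k3 : (k * u * k⁻¹) ^ 3 = 1 := by
      rw [conj_pow, ← hu, pow_orderOf_eq_one, mul_one, mul_inv_cancel]
    refine pow_three_mem hML ?_ (pow_three_mem hLK ?_ (mul_mem (mul_mem hk huK) (inv_mem hk)) k3) k3
    · rw [hMc]; omega
    · rcases hKcard with e | e <;> rw [e] at hAK ⊢ <;> omega

end H54.Jan3
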