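import Cfsg.Agent.H54.Jan3.Module
import Cfsg.Agent.H54.Jan3.Count
import Cfsg.Prelude.Def_JankoFourType

/-!
The hypotheses give a group of Janko-four type, given the needed facts on M22 and its automorphism
group.
-/

set_option autoImplicit false

open Cfsg Subgroup
open scoped commutatorElement

namespace H54.Jan3

open H25.M22 (G22)

variable {G : Type*} [Group G]

namespace Hyp

variable {x z : G} (h : Hyp x z)
include h

variable [Finite G]

theorem isOfJankoFourType (hM : ∀ A : Subgroup G22, (∀ a ∈ A, a * a = 1) → Nat.card A ≠ 32)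
    (hout : ∃ α : MulAut G22, α * α = 1 ∧ α ∉ (MulAut.conj : G22 →* MulAut G22).range ∧
      ∃ a : G22, orderOf a = 3 ∧ α a = a)
    (hfix : ∀ α : MulAut G22, α * α = 1 → α ∉ (MulAut.conj : G22 →* MulAut G22).range →
      Nat.card {t : G22 // t * t = 1 ∧ t ≠ 1 ∧ α t = t} ≤ 104)
    (hcount : Nat.card {t : G22 // t * t = 1 ∧ t ≠ 1} = 1155)
    (hno : ∀ a : G22, orderOf a ≠ 35 ∧ orderOf a ≠ 55 ∧ orderOf a ≠ 77) :
    IsOfJankoFourType G := by
  have htop := h.loc.normal h.inner_le hout hfix hcount hno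
  obtain ⟨f, hf, hfker⟩ := h.loc.exists_onto htop
  let f' : ↥(cen z) →* MulAut G22 := f.comp (QuotientGroup.mk' (pCore 2 ↥(cen z)))
  have hf' : Function.Surjective f' := hf.comp (QuotientGroup.mk'_surjective _)
  set E := twoCoreOfCentralizer z with hE
  set N := zpowers x ⊔ E with hN
  have hNle : N ≤ cen z := sup_le (zpowers_le.2 h.xH) h.core_le
  have hxn : zpowers x ≤ normalizer (E : Set G) := H8.le_normalizer_of_conj_mem fun a ha e he =>
    h.core_conj ((zpowers_le.2 h.xH) ha) he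
  have hcard : Nat.card N = 3 * Nat.card E := by
    have hd : zpowers x ⊓ E = ⊥ := by
      rw [eq_bot_iff]
      rintro a ⟨ha1, ha2⟩
      obtain ⟨k, rfl⟩ := mem_zpowers_iff.1 ha1
      rw [mem_bot]
      refine h.odd_core (n := 3) ha2 ?_ ⟨1, rfl⟩
      rw [← zpow_natCast, ← zpow_mul, mul_comm, zpow_mul, zpow_natCast, h.toCov.x3, one_zpow]
    have := card_mul_sup hxn
    rwa [hd, Subgroup.card_bot, mul_one, Nat.card_zpowers, h.hx] at this
  have hker : f'.ker = N.subgroupOf (cen z) := by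
    refine le_antisymm ?_ ?_
    · rintro ⟨g, hg⟩ hm
      have hm' : bar z g ∈ zpowers (bar z x) := by
        rw [bar_def hg]; exact (hfker _).1 hm
      obtain ⟨k, hk⟩ : ∃ k : ℕ, bar z x ^ k = bar z g := mem_powers_iff_mem_zpowers.2 hm'
      rw [← bar_pow h.xH] at hk
      have he := (bar_eq_iff (pow_mem h.xH k) hg).1 hk
      show g ∈ N
      rw [show g = x ^ k * ((x ^ k)⁻¹ * g) by rw [mul_inv_cancel_left]]
      exact mul_mem (mem_sup_left (pow_mem (mem_zpowers x) k)) (mem_sup_right he)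
    · have hle : N ≤ f'.ker.map (cen z).subtype := by
        refine sup_le (zpowers_le.2 ⟨⟨x, h.xH⟩, ?_, rfl⟩) fun e he => ⟨⟨e, h.core_le he⟩, ?_, rfl⟩
        · refine (hfker _).2 ?_
          rw [← bar_def h.xH]; exact mem_zpowers _
        · refine (hfker _).2 ?_
          rw [← bar_def (h.core_le he), (bar_eq_one (h.core_le he)).2 he]
          exact one_mem _
      intro g hg
      obtain ⟨a, ha, hag⟩ := hle (show (g : G) ∈ N from hg)
      rwa [← (cen z).subtype_injective hag]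
  haveI hNn : (N.subgroupOf (cen z)).Normal := hker ▸ f'.normal_ker
  have hnorm : cen z ≤ normalizer (N : Set G) := H8.le_normalizer_of_conj_mem fun g hg a ha =>
    hNn.conj_mem ⟨a, hNle ha⟩ ha ⟨g, hg⟩
  obtain ⟨g, hg⟩ := h.exists_inverting
  have hgH : g ∈ cen z := mem_cen.2 (mul_inv_eq_iff_eq_mul.1
    (h.toCov.norm_fix_z (by rw [hg]; exact inv_mem (mem_zpowers x))))
  refine ⟨z, zpowers x, h.hz, h.extraspecial hM, h.card_core, h.self, ?_,
    by rw [Nat.card_zpowers, h.hx], ?_, ?_, ?_⟩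
  · refine ⟨N, le_sup_right, hNle, hnorm, hcard, ⟨hNn, ⟨?_⟩⟩, le_sup_left⟩
    exact (QuotientGroup.quotientMulEquivOfEq hker.symm).trans
      (QuotientGroup.quotientKerEquivOfSurjective f' hf')
  · rw [cent_zpowers]; exact h.core_inf_x
  · intro e
    have hgn : g ∈ normalizer (zpowers x : Set G) :=
      mem_normalizer_zpowers (hg ▸ inv_mem (mem_zpowers x))
    have hgc : g ∈ cen z ⊓ centralizer (zpowers x : Set G) := e.le ⟨hgH, hgn⟩
    rw [cent_zpowers] at hgc
    have h1 : g * x * g⁻¹ = x := mul_inv_eq_iff_eq_mul.2 (mem_cen.1 hgc.2)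
    rw [hg] at h1
    have h2 : x ^ 2 = 1 := by
      rw [pow_two]
      nth_rewrite 1 [← h1]
      exact inv_mul_cancel x
    have := orderOf_dvd_of_pow_eq_one h2
    rw [h.hx] at this
    norm_num at this
  · rw [cent_zpowers, inf_eq_right.2 h.toCov.cen_le, h.toCov.perf]
    exact zpowers_le.2 h.toCov.x_mem

end Hyp

/-- The self-centralising two-core of the centraliser of an involution in characteristic two type. -/
theorem core_self [Finite G] (h2 : IsCharacteristicTwoType G) {z : G} (hz : orderOf z = 2) :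
    cen z ⊓ centralizer (twoCoreOfCentralizer z : Set G) ≤ twoCoreOfCentralizer z := by
  have hT : IsPGroup 2 (zpowers z) :=
    IsPGroup.of_card (n := 1) (by rw [Nat.card_zpowers, hz, pow_one])
  have hT1 : zpowers z ≠ ⊥ := fun e => by
    rw [zpowers_eq_bot] at e; rw [e, orderOf_one] at hz; omega
  have hc := h2.2 _ hT hT1
  have hN : normalizer (zpowers z : Set G) = cen z := by
    have hmem : ∀ u ∈ zpowers z, u = 1 ∨ u = z := fun u hu => by
      obtain ⟨k, rfl⟩ := mem_zpowers_iff.1 hu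
      have z2 : z ^ 2 = 1 := hz ▸ pow_orderOf_eq_one z
      rcases Int.even_or_odd' k with ⟨q, rfl | rfl⟩
      · left; rw [zpow_mul, zpow_two, ← pow_two, z2, one_zpow]
      · right; rw [zpow_add, zpow_mul, zpow_two, ← pow_two, z2, one_zpow, one_mul, zpow_one]
    refine le_antisymm (fun g hg => ?_) (cent_zpowers z ▸ centralizer_le_normalizer _)
    rcases hmem _ ((mem_normalizer_iff.1 hg z).1 (mem_zpowers z)) with e | e
    · exact absurd (conj_eq_one_iff.1 e) fun e1 => by rw [e1, orderOf_one] at hz; omega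
    · exact mem_cen.2 (mul_inv_eq_iff_eq_mul.1 e)
  rw [hN] at hc
  rintro g ⟨hg, hgc⟩
  refine ⟨⟨g, hg⟩, hc (mem_centralizer_iff.2 fun a ha => Subtype.ext ?_), rfl⟩
  exact mem_centralizer_iff.1 hgc a ⟨a, ha, rfl⟩

/-- The main result, given the facts on M22. -/
theorem main [Finite G] (h2 : IsCharacteristicTwoType G) {x : G} (hx : orderOf x = 3)
    (hperf : ⁅(⊤ : Subgroup ↥(cen x)), (⊤ : Subgroup ↥(cen x))⁆ = ⊤)
    (hZ : IsCyclic ↥(center ↥(cen x))) (hZc : Nat.card ↥(center ↥(cen x)) = 6)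
    (e : ↥(cen x) ⧸ center ↥(cen x) ≃* G22) (S : Sylow 3 G) (g : G)
    (hng : ((center ↥(S : Subgroup G)).map (S : Subgroup G).subtype).map (MulAut.conj g).toMonoidHom ≤
      (S : Subgroup G))
    (hne : ((center ↥(S : Subgroup G)).map (S : Subgroup G).subtype).map (MulAut.conj g).toMonoidHom ≠
      ((center ↥(S : Subgroup G)).map (S : Subgroup G).subtype))
    (hM : ∀ A : Subgroup G22, (∀ a ∈ A, a * a = 1) → Nat.card A ≠ 32)
    (hout : ∃ α : MulAut G22, α * α = 1 ∧ α ∉ (MulAut.conj : G22 →* MulAut G22).range ∧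
      ∃ a : G22, orderOf a = 3 ∧ α a = a)
    (hfix : ∀ α : MulAut G22, α * α = 1 → α ∉ (MulAut.conj : G22 →* MulAut G22).range →
      Nat.card {t : G22 // t * t = 1 ∧ t ≠ 1 ∧ α t = t} ≤ 104)
    (hcount : Nat.card {t : G22 // t * t = 1 ∧ t ≠ 1} = 1155)
    (hno : ∀ a : G22, orderOf a ≠ 35 ∧ orderOf a ≠ 55 ∧ orderOf a ≠ 77) :
    IsOfJankoFourType G := by
  obtain ⟨z, ⟨d⟩⟩ := exists_cov hx hperf hZ hZc e
  exact Hyp.isOfJankoFourType (x := x) (z := z)
    { d with fused := d.exists_fused S g hng hne, self := core_self h2 d.hz }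
    hM hout hfix hcount hno

end H54.Jan3
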