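import Cfsg.Agent.H54.Jan3.Quot
import Cfsg.Agent.H54.Jan3.InnerMain

/-!
The two-core modulo `zpowers z` is a faithful module for the quotient; hence the centralisers of the
inner involutions of the quotient normalise the image of `zpowers x`.
-/

set_option autoImplicit false

open Cfsg Subgroup
open scoped commutatorElement

namespace H54.Jan3

variable {G : Type*} [Group G]

namespace Hyp

variable {x z : G} (h : Hyp x z)
include h

variable [Finite G]

/-- An element of odd order centralising `e` modulo `zpowers z` centralises it. -/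
theorem fix_of_odd {g e : G} {n : ℕ} (hg : g ∈ cen z) (hn : g ^ n = 1) (hodd : Odd n)
    (hc : (g * e * g⁻¹) * e⁻¹ ∈ zpowers z) : g * e = e * g := by
  set u := (g * e * g⁻¹) * e⁻¹ with hu
  have hgu : Commute g u := by
    obtain ⟨k, hk⟩ := mem_zpowers_iff.1 hc
    rw [← hk]
    exact (show Commute g z from mem_cen.1 hg).zpow_right k
  have hstep : ∀ k : ℕ, g ^ k * e * (g ^ k)⁻¹ = u ^ k * e := by
    intro k
    induction k with
    | zero => simp
    | succ k ih =>
      calc g ^ (k + 1) * e * (g ^ (k + 1))⁻¹ = g * (g ^ k * e * (g ^ k)⁻¹) * g⁻¹ := by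
            rw [pow_succ']; group
        _ = g * u ^ k * e * g⁻¹ := by rw [ih]; group
        _ = u ^ k * (g * e * g⁻¹) := by rw [(hgu.pow_right k).eq]; group
        _ = u ^ (k + 1) * e := by rw [pow_succ, hu]; group
  have h1 := hstep n
  rw [hn, one_mul, inv_one, mul_one] at h1
  have hun : u ^ n = 1 := by
    have h1' : 1 * e = u ^ n * e := by rw [one_mul]; exact h1
    exact (mul_right_cancel h1').symm
  have hu1 : u = 1 := by
    rcases h.z_or hc with e1 | e1
    · exact e1
    · exfalso
      obtain ⟨j, rfl⟩ := hodd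
      rw [e1, pow_succ, pow_mul, h.toCov.z2, one_pow, one_mul] at hun
      exact h.toCov.z_ne hun
  rw [hu, mul_inv_eq_one, mul_inv_eq_iff_eq_mul] at hu1
  exact hu1

/-- Elements of the centraliser of `z` acting trivially on the two-core modulo `zpowers z`. -/
theorem trivial_le_core {K : Subgroup ↥(cen z)} [K.Normal]
    (hK : ∀ g ∈ K, ∀ e ∈ twoCoreOfCentralizer z, ((g : G) * e * (g : G)⁻¹) * e⁻¹ ∈ zpowers z) :
    K ≤ pCore 2 ↥(cen z) := by
  haveI : Fact (Nat.Prime 2) := ⟨Nat.prime_two⟩
  refine H1.le_pCore ?_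
  rintro ⟨g, hg⟩
  obtain ⟨a, m, hm, heq⟩ := Nat.exists_eq_pow_mul_and_not_dvd (orderOf_pos g).ne' 2 (by norm_num)
  refine ⟨a, ?_⟩
  have hodd : Odd m := Nat.odd_iff.2 (by omega)
  have hK' : g ^ 2 ^ a ∈ K := pow_mem hg _
  have hgm : (g ^ 2 ^ a) ^ m = 1 := by rw [← pow_mul, ← heq, pow_orderOf_eq_one]
  have hgm' : ((g ^ 2 ^ a : ↥(cen z)) : G) ^ m = 1 := by
    simpa using congrArg (fun u : ↥(cen z) => (u : G)) hgm
  have hcen : ((g ^ 2 ^ a : ↥(cen z)) : G) ∈ twoCoreOfCentralizer z := by
    refine h.self ⟨(g ^ 2 ^ a).2, mem_centralizer_iff.2 fun e he => ?_⟩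
    exact (h.fix_of_odd (g ^ 2 ^ a).2 hgm' hodd (hK _ hK' e he)).symm
  exact Subtype.ext (Subtype.ext (by simpa using h.odd_core hcen hgm' hodd))

/-- The centraliser of an inner involution of the quotient normalises the image of `zpowers x`. -/
theorem inner_le : ∀ t ∈ cen (bar z x), t * t = 1 → t ≠ 1 → cen t ≤ h.loc.nX := by
  classical
  set E := twoCoreOfCentralizer z with hE
  let Zs : Subgroup E := (zpowers z).subgroupOf E
  have hcz : ∀ g ∈ cen z, ∀ u ∈ zpowers z, g * u * g⁻¹ = u := fun g hg u hu => by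
    obtain ⟨k, rfl⟩ := mem_zpowers_iff.1 hu
    rw [((show Commute g z from mem_cen.1 hg).zpow_right k).eq, mul_inv_cancel_right]
  haveI hZn : Zs.Normal := ⟨fun n hn e => by
    show (e : G) * n * (e : G)⁻¹ ∈ zpowers z
    rw [hcz _ (h.core_le e.2) (n : G) hn]
    exact hn⟩
  obtain ⟨hcomm, hsq⟩ := h.core_mod_z
  letI : CommGroup (↥E ⧸ Zs) :=
    { (inferInstance : Group (↥E ⧸ Zs)) with
      mul_comm := fun a b => by
        induction a using QuotientGroup.induction_on with
        | H a =>
          induction b using QuotientGroup.induction_on with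
          | H b =>
            refine QuotientGroup.eq.2 ?_
            show ((a : G) * b)⁻¹ * (b * a) ∈ zpowers z
            rw [show ((a : G) * b)⁻¹ * (b * a) =
              (b : G)⁻¹ * (a : G)⁻¹ * ((b : G)⁻¹)⁻¹ * ((a : G)⁻¹)⁻¹ by group]
            exact hcomm _ (inv_mem b.2) _ (inv_mem a.2) }
  have vsq : ∀ v : ↥E ⧸ Zs, v * v = 1 := fun v => by
    induction v using QuotientGroup.induction_on with
    | H a =>
      rw [← QuotientGroup.mk_mul, QuotientGroup.eq_one_iff]
      exact hsq _ a.2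
  have cardV : Nat.card (↥E ⧸ Zs) = 4096 := by
    have h1 := card_eq_card_quotient_mul_card_subgroup Zs
    rw [h.card_core, Nat.card_congr (subgroupOfEquivOfLe (zpowers_le.2 h.z_mem_core)).toEquiv,
      Nat.card_zpowers, h.hz] at h1
    omega
  -- the action
  let cj : ↥(cen z) → ↥E →* ↥E := fun g =>
    { toFun := fun e => ⟨(g : G) * e * (g : G)⁻¹, h.core_conj g.2 e.2⟩
      map_one' := Subtype.ext (by simp)
      map_mul' := fun a b => Subtype.ext (by simp [mul_assoc]) }
  have hcj : ∀ g, Zs ≤ Zs.comap (cj g) := fun g e he => by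
    show (g : G) * e * (g : G)⁻¹ ∈ zpowers z
    rw [hcz _ g.2 (e : G) he]; exact he
  let al : ↥(cen z) → (↥E ⧸ Zs) → (↥E ⧸ Zs) := fun g => QuotientGroup.map Zs Zs (cj g) (hcj g)
  have al_mul : ∀ g k v, al (g * k) v = al g (al k v) := fun g k v => by
    induction v using QuotientGroup.induction_on with
    | H e =>
      show ((cj (g * k) e : ↥E) : ↥E ⧸ Zs) = (cj g (cj k e) : ↥E)
      congr 1
      exact Subtype.ext (by simp [cj, mul_assoc])
  have al_one : ∀ v, al 1 v = v := fun v => by
    induction v using QuotientGroup.induction_on with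
    | H e =>
      show ((cj 1 e : ↥E) : ↥E ⧸ Zs) = e
      congr 1
      exact Subtype.ext (by simp [cj])
  let rho0 : ↥(cen z) →* MulAut (↥E ⧸ Zs) :=
    { toFun := fun g =>
        { toFun := al g
          invFun := al g⁻¹
          left_inv := fun v => by rw [← al_mul, inv_mul_cancel, al_one]
          right_inv := fun v => by rw [← al_mul, mul_inv_cancel, al_one]
          map_mul' := fun a b => map_mul (QuotientGroup.map Zs Zs (cj g) (hcj g)) a b }
      map_one' := MulEquiv.ext fun v => al_one v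
      map_mul' := fun g k => MulEquiv.ext fun v => al_mul g k v }
  have rho0_fix : ∀ (g : ↥(cen z)) (e : ↥E), rho0 g (e : ↥E ⧸ Zs) = (e : ↥E ⧸ Zs) ↔
      ((g : G) * e * (g : G)⁻¹) * (e : G)⁻¹ ∈ zpowers z := fun g e => by
    show ((cj g e : ↥E) : ↥E ⧸ Zs) = e ↔ _
    rw [QuotientGroup.eq_iff_div_mem, div_eq_mul_inv]
    exact Iff.rfl
  have hker : pCore 2 ↥(cen z) ≤ rho0.ker := fun g hg => by
    rw [MonoidHom.mem_ker]
    refine MulEquiv.ext fun v => ?_
    induction v using QuotientGroup.induction_on with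
    | H e =>
      rw [MulAut.one_apply, rho0_fix]
      exact hcomm _ (⟨g, hg, rfl⟩ : (g : G) ∈ E) _ e.2
  let rho : Qt z →* MulAut (↥E ⧸ Zs) := QuotientGroup.lift (pCore 2 ↥(cen z)) rho0 hker
  have rho_bar : ∀ g (hg : g ∈ cen z), rho (bar z g) = rho0 ⟨g, hg⟩ := fun g hg => by
    rw [bar_def hg]; rfl
  have rho_fix : ∀ g (hg : g ∈ cen z) (n : ℕ), g ^ n = 1 → Odd n → ∀ e : ↥E,
      rho (bar z g) (e : ↥E ⧸ Zs) = e ↔ g * e = e * g := fun g hg n hn hodd e => by
    rw [rho_bar g hg, rho0_fix]
    refine ⟨h.fix_of_odd hg hn hodd, fun e' => ?_⟩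
    rw [e', mul_inv_cancel_right, mul_inv_cancel]
    exact one_mem _
  have hinj : Function.Injective rho := by
    rw [injective_iff_map_eq_one]
    intro q hq
    obtain ⟨g, hg, rfl⟩ := bar_surj q
    have hle : rho0.ker ≤ pCore 2 ↥(cen z) := h.trivial_le_core fun k hk e he => by
      rw [MonoidHom.mem_ker] at hk
      exact (rho0_fix k ⟨e, he⟩).1 (by rw [hk]; rfl)
    rw [rho_bar g hg] at hq
    exact (bar_eq_one hg).2 ⟨⟨g, hg⟩, hle hq, rfl⟩
  -- the fused element and the involution
  obtain ⟨y, hy, y3, yn, a, ha⟩ := h.fused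
  have hxa : a⁻¹ * x * a ∈ cen x := by
    have := conj_mem_cen a⁻¹ (cen_symm hy)
    rwa [inv_inv, ← ha, show a⁻¹ * (a * x * a⁻¹) * a = x by group] at this
  set s := a * z * a⁻¹ with hs
  have hsx : s ∈ cen x := by
    have := conj_mem_cen a (cen_symm (h.toCov.cen_le hxa))
    rwa [show a * (a⁻¹ * x * a) * a⁻¹ = x by group] at this
  have hsy : s ∈ cen y := by rw [← ha]; exact conj_mem_cen a h.zC
  have hyH := h.toCov.cen_le hy
  have hsH := h.toCov.cen_le hsx
  have ss : s * s = 1 := by
    rw [hs, show a * z * a⁻¹ * (a * z * a⁻¹) = a * (z ^ 2) * a⁻¹ by rw [pow_two]; group, h.toCov.z2,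
      mul_one, mul_inv_cancel]
  let A : Act h.loc (↥E ⧸ Zs) :=
    { rho := rho
      sq := vsq
      cardV := cardV
      fixx := fun v hv => by
        induction v using QuotientGroup.induction_on with
        | H e =>
          rw [QuotientGroup.eq_one_iff]
          exact h.core_inf_x.le ⟨e.2, mem_cen.2
            ((rho_fix x h.xH 3 h.toCov.x3 ⟨1, rfl⟩ e).1 hv).symm⟩
      fixy := fun v hv v3 vn => by
        obtain ⟨c, hc, c3, rfl⟩ := h.lift_three hv v3
        have cn : c ∉ zpowers x := fun hm => vn (h.bar_zpowers hm)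
        let φ : ↥(E ⊓ cen c : Subgroup G) →* (↥E ⧸ Zs) :=
          (QuotientGroup.mk' Zs).comp (Subgroup.inclusion inf_le_left)
        have hk : φ.ker = (zpowers z).subgroupOf (E ⊓ cen c) := by
          ext e
          rw [MonoidHom.mem_ker, MonoidHom.comp_apply, QuotientGroup.mk'_apply,
            QuotientGroup.eq_one_iff]
          rfl
        have h1 := card_mul_index φ.ker
        have h2 : Nat.card φ.ker = 2 := by
          rw [hk, Nat.card_congr (subgroupOfEquivOfLe (zpowers_le.2 (mem_inf.2 ⟨h.z_mem_core,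
            cen_symm (h.toCov.cen_le hc)⟩))).toEquiv, Nat.card_zpowers, h.hz]
        rw [h2, index_ker, (h.card_core_inf hc c3 cn).1] at h1
        refine Eq.trans ?_ (show Nat.card φ.range = 16 by omega)
        refine Nat.card_congr (Equiv.subtypeEquivRight fun v => ?_)
        constructor
        · intro hv
          induction v using QuotientGroup.induction_on with
          | H e =>
            exact ⟨⟨e, e.2, mem_cen.2
              ((rho_fix c (h.toCov.cen_le hc) 3 c3 ⟨1, rfl⟩ e).1 hv).symm⟩, rfl⟩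
        · rintro ⟨e, rfl⟩
          exact (rho_fix c (h.toCov.cen_le hc) 3 c3 ⟨1, rfl⟩ ⟨e, e.2.1⟩).2 (mem_cen.1 e.2.2).symm
      inj := hinj
      y0 := bar z y
      y0C := h.bar_mem hy
      y03 := by rw [← bar_pow hyH, y3, bar_one]
      y0n := fun hm => yn (h.mem_zpowers_of_bar hy y3 hm)
      t0 := bar z s
      t0C := h.bar_mem hsx
      t02 := by rw [← bar_mul hsH hsH, ss, bar_one]
      t01 := fun e1 => by
        rcases h.z_or (h.core_inf_x.le ⟨(bar_eq_one hsH).1 e1, hsx⟩) with e2 | e2
        · exact h.toCov.z_ne (conj_eq_one_iff.1 (hs.symm.trans e2))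
        · exact h.z_moved hy y3 yn ha e2
      ty := by rw [← bar_mul hsH hyH, ← bar_mul hyH hsH, mem_cen.1 hsy]
      tfix := fun v hv => by
        induction v using QuotientGroup.induction_on with
        | H e =>
          have hey : (e : G) ∈ cen y :=
            mem_cen.2 ((rho_fix y hyH 3 y3 ⟨1, rfl⟩ e).1 hv).symm
          have hea : a⁻¹ * (e : G) * a ∈ cen x := by
            have := conj_mem_cen a⁻¹ hey
            rwa [inv_inv, ← ha, show a⁻¹ * (a * x * a⁻¹) * a = x by group] at this
          have hse : s * (e : G) = (e : G) * s := by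
            have := h.zcomm _ hea
            calc s * (e : G) = a * (z * (a⁻¹ * e * a)) * a⁻¹ := by rw [hs]; group
              _ = a * (a⁻¹ * (e : G) * a * z) * a⁻¹ := by rw [this]
              _ = _ := by rw [hs]; group
          rw [rho_bar s hsH, rho0_fix]
          show (s * (e : G) * s⁻¹) * (e : G)⁻¹ ∈ zpowers z
          rw [hse, mul_inv_cancel_right, mul_inv_cancel]
          exact one_mem _ }
  intro t ht t2 t1
  obtain ⟨c, hc, hct⟩ := h.loc.invol_conj A.t0C ht A.t02 t2 A.t01 t1
  intro g hg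
  have hg' : c⁻¹ * g * c ∈ cen A.t0 := by
    have := conj_mem_cen c⁻¹ hg
    rwa [inv_inv, ← hct, show c⁻¹ * (c * A.t0 * c⁻¹) * c = A.t0 by group] at this
  have hcN := h.loc.cen_le_nX hc
  have := mul_mem (mul_mem hcN (A.cen_t0_le hg')) (inv_mem hcN)
  rwa [show c * (c⁻¹ * g * c) * c⁻¹ = g by group] at this

end Hyp

end H54.Jan3
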