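import Cfsg.Agent.H54.Jan3.Structure
import Cfsg.Agent.H54.Jan3.Loc
import Cfsg.Prelude.Def_CaseTheorems

/-!
The centraliser of `z` modulo its two-core satisfies the local hypotheses at the image of `x`.
-/

set_option autoImplicit false

open Cfsg Subgroup
open scoped commutatorElement

namespace H54.Jan3

open H25.M22 (G22)

variable {G : Type*} [Group G]

/-- the centraliser of `z` modulo its two-core -/
abbrev Qt (z : G) := ↥(cen z) ⧸ pCore 2 ↥(cen z)

open Classical in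
/-- the canonical map, extended to the whole group -/
noncomputable def bar (z g : G) : Qt z :=
  if hg : g ∈ cen z then QuotientGroup.mk' (pCore 2 ↥(cen z)) ⟨g, hg⟩ else 1

section Bar

variable {z : G}

theorem bar_def {g : G} (hg : g ∈ cen z) :
    bar z g = QuotientGroup.mk' (pCore 2 ↥(cen z)) ⟨g, hg⟩ := dif_pos hg

theorem bar_mul {a b : G} (ha : a ∈ cen z) (hb : b ∈ cen z) : bar z (a * b) = bar z a * bar z b := by
  rw [bar_def ha, bar_def hb, bar_def (mul_mem ha hb), ← map_mul]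
  rfl

theorem bar_one : bar z (1 : G) = 1 := by
  rw [bar_def (one_mem _)]; exact map_one _

theorem bar_inv {a : G} (ha : a ∈ cen z) : bar z a⁻¹ = (bar z a)⁻¹ := by
  rw [bar_def ha, bar_def (inv_mem ha), ← map_inv]
  rfl

theorem bar_pow {a : G} (ha : a ∈ cen z) (n : ℕ) : bar z (a ^ n) = bar z a ^ n := by
  induction n with
  | zero => rw [pow_zero, pow_zero, bar_one]
  | succ n ih => rw [pow_succ, pow_succ, bar_mul (pow_mem ha n) ha, ih]

theorem bar_conj {a b : G} (ha : a ∈ cen z) (hb : b ∈ cen z) :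
    bar z (a * b * a⁻¹) = bar z a * bar z b * (bar z a)⁻¹ := by
  rw [bar_mul (mul_mem ha hb) (inv_mem ha), bar_mul ha hb, bar_inv ha]

theorem bar_surj (q : Qt z) : ∃ g ∈ cen z, bar z g = q := by
  obtain ⟨⟨g, hg⟩, e⟩ := QuotientGroup.mk'_surjective (pCore 2 ↥(cen z)) q
  exact ⟨g, hg, by rw [bar_def hg, e]⟩

theorem bar_eq_one {g : G} (hg : g ∈ cen z) : bar z g = 1 ↔ g ∈ twoCoreOfCentralizer z := by
  rw [bar_def hg, QuotientGroup.mk'_apply, QuotientGroup.eq_one_iff]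
  constructor
  · intro hm; exact ⟨⟨g, hg⟩, hm, rfl⟩
  · rintro ⟨⟨a, ha⟩, hm, hae⟩
    obtain rfl : a = g := hae
    exact hm

theorem bar_eq_iff {a b : G} (ha : a ∈ cen z) (hb : b ∈ cen z) :
    bar z a = bar z b ↔ a⁻¹ * b ∈ twoCoreOfCentralizer z := by
  rw [← bar_eq_one (mul_mem (inv_mem ha) hb), bar_mul (inv_mem ha) hb, bar_inv ha, inv_mul_eq_one]

end Bar

theorem mem_normalizer_zpowers [Finite G] {a q : G} (h : q * a * q⁻¹ ∈ zpowers a) :
    q ∈ normalizer (zpowers a : Set G) := by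
  haveI : Fintype ↥(zpowers a : Set G) := Fintype.ofFinite _
  refine Subgroup.mem_normalizer_fintype fun n hn => ?_
  obtain ⟨k, rfl⟩ := mem_zpowers_iff.1 hn
  show q * a ^ k * q⁻¹ ∈ zpowers a
  rw [← conj_zpow]
  exact zpow_mem h k

namespace Hyp

variable {x z : G} (h : Hyp x z)
include h

variable [Finite G]

/-- Coprime lifting: an element commuting with `v` modulo the two-core can be corrected. -/
theorem exists_lift {g v : G} (hg : g ∈ cen z) (hv : v ∈ cen z) (v3 : v ^ 3 = 1)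
    (hc : bar z g * bar z v = bar z v * bar z g) : ∃ e ∈ twoCoreOfCentralizer z, g * e ∈ cen v := by
  haveI : Fact (Nat.Prime 3) := ⟨Nat.prime_three⟩
  have hA : IsPGroup 3 (zpowers v) := by
    intro a
    obtain ⟨k, hk⟩ := mem_zpowers_iff.1 a.2
    refine ⟨1, Subtype.ext ?_⟩
    rw [SubmonoidClass.coe_pow, ← hk, ← zpow_natCast, ← zpow_mul, mul_comm, zpow_mul, zpow_natCast,
      pow_one, v3, one_zpow, OneMemClass.coe_one]
  have hn : zpowers v ≤ normalizer (twoCoreOfCentralizer z : Set G) :=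
    H8.le_normalizer_of_conj_mem fun a ha e he => h.core_conj ((zpowers_le.2 hv) ha) he
  obtain ⟨e, he, hce⟩ := H8.exists_fixed_coset hA hn h.not_dvd_core (x := g) fun a ha => by
    obtain ⟨k, rfl⟩ : ∃ k : ℕ, v ^ k = a := mem_powers_iff_mem_zpowers.2 ha
    have hvk := pow_mem hv k
    rw [← bar_eq_one (mul_mem (inv_mem hg) (mul_mem (mul_mem hvk hg) (inv_mem hvk))),
      bar_mul (inv_mem hg) (mul_mem (mul_mem hvk hg) (inv_mem hvk)), bar_inv hg,
      bar_conj hvk hg, bar_pow hv, ((show Commute (bar z g) (bar z v) from hc).pow_right k).symm.eq,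
      mul_inv_cancel_right, inv_mul_cancel]
  exact ⟨e, he, by rwa [cent_zpowers] at hce⟩

theorem xH : x ∈ cen z := h.toCov.cen_le h.toCov.x_mem

theorem cen_bar {q : Qt z} (hq : q ∈ cen (bar z x)) : ∃ c ∈ cen x, bar z c = q := by
  obtain ⟨g, hg, rfl⟩ := bar_surj q
  obtain ⟨e, he, hge⟩ := h.exists_lift hg h.xH h.toCov.x3 (mem_cen.1 hq)
  exact ⟨g * e, hge, by
    rw [bar_mul hg (h.core_le he), (bar_eq_one (h.core_le he)).2 he, mul_one]⟩

theorem bar_mem {c : G} (hc : c ∈ cen x) : bar z c ∈ cen (bar z x) := by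
  refine mem_cen.2 ?_
  rw [← bar_mul (h.toCov.cen_le hc) h.xH, ← bar_mul h.xH (h.toCov.cen_le hc), mem_cen.1 hc]

theorem pr_core {c : G} (hc : c ∈ cen x) (he : c ∈ twoCoreOfCentralizer z) : h.pr c = 1 := by
  rcases h.z_or (h.core_inf_x.le ⟨he, hc⟩) with e | e <;> rw [e]
  · exact h.toCov.pr_one
  · exact h.toCov.pr_z

theorem pr_congr {a b : G} (ha : a ∈ cen x) (hb : b ∈ cen x) (e : bar z a = bar z b) :
    h.pr a = h.pr b := by
  have h1 := h.pr_core (mul_mem (inv_mem ha) hb)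
    ((bar_eq_iff (h.toCov.cen_le ha) (h.toCov.cen_le hb)).1 e)
  rwa [h.pr_mul (inv_mem ha) hb, h.pr_inv ha, inv_mul_eq_one] at h1

/-- An element of order dividing three in the image of the cover lifts to one. -/
theorem lift_three {q : Qt z} (hq : q ∈ cen (bar z x)) (q3 : q ^ 3 = 1) :
    ∃ c ∈ cen x, c ^ 3 = 1 ∧ bar z c = q := by
  obtain ⟨c, hc, rfl⟩ := h.cen_bar hq
  have hc3 : c ^ 3 ∈ twoCoreOfCentralizer z ⊓ cen x :=
    ⟨(bar_eq_one (h.toCov.cen_le (pow_mem hc 3))).1 (by rw [bar_pow (h.toCov.cen_le hc), q3]),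
      pow_mem hc 3⟩
  have h6 : (c ^ 3) ^ 2 = 1 := by
    rcases h.z_or (h.core_inf_x.le hc3) with e | e <;> rw [e]
    · exact one_pow 2
    · exact h.toCov.z2
  refine ⟨c ^ 4, pow_mem hc 4, ?_, ?_⟩
  · rw [← pow_mul, show 4 * 3 = 3 * 2 * 2 from rfl, pow_mul, pow_mul, h6, one_pow]
  · rw [bar_pow (h.toCov.cen_le hc), show (4 : ℕ) = 3 + 1 from rfl, pow_succ, q3, one_mul]

theorem orderOf_bar_x : orderOf (bar z x) = 3 := by
  haveI : Fact (Nat.Prime 3) := ⟨Nat.prime_three⟩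
  refine orderOf_eq_prime (by rw [← bar_pow h.xH, h.toCov.x3, bar_one]) fun e => h.toCov.x_ne ?_
  exact h.odd_core ((bar_eq_one h.xH).1 e) h.toCov.x3 ⟨1, rfl⟩

theorem mem_zpowers_of_bar {c : G} (hc : c ∈ cen x) (c3 : c ^ 3 = 1)
    (hm : bar z c ∈ zpowers (bar z x)) : c ∈ zpowers x := by
  obtain ⟨k, hk⟩ : ∃ k : ℕ, bar z x ^ k = bar z c := mem_powers_iff_mem_zpowers.2 hm
  have hpr : h.pr c = 1 := by
    rw [h.pr_congr hc (h.toCov.x_pow_mem k) (by rw [bar_pow h.xH, hk]), h.pr_pow h.toCov.x_mem,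
      h.toCov.pr_x, one_pow]
  exact h.toCov.ker_odd hc hpr (n := 1) (by rwa [pow_one])

theorem bar_zpowers {c : G} (hc : c ∈ zpowers x) : bar z c ∈ zpowers (bar z x) := by
  obtain ⟨k, rfl⟩ : ∃ k : ℕ, x ^ k = c := mem_powers_iff_mem_zpowers.2 hc
  rw [bar_pow h.xH]; exact pow_mem (mem_zpowers _) k

theorem cen_bar_perfect : ⁅cen (bar z x), cen (bar z x)⁆ = cen (bar z x) := by
  let f : ↥(cen x) →* Qt z :=
    { toFun := fun c => bar z (c : G)
      map_one' := bar_one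
      map_mul' := fun a b => bar_mul (h.toCov.cen_le a.2) (h.toCov.cen_le b.2) }
  have hr : (⊤ : Subgroup ↥(cen x)).map f = cen (bar z x) := by
    ext q
    constructor
    · rintro ⟨c, -, rfl⟩; exact h.bar_mem c.2
    · intro hq
      obtain ⟨c, hc, rfl⟩ := h.cen_bar hq
      exact ⟨⟨c, hc⟩, mem_top _, rfl⟩
  have htop : ⁅(⊤ : Subgroup ↥(cen x)), (⊤ : Subgroup ↥(cen x))⁆ = ⊤ := by
    apply Subgroup.map_injective (cen x).subtype_injective
    rw [Subgroup.map_commutator, ← MonoidHom.range_eq_map, range_subtype, h.toCov.perf]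
  rw [← hr, ← Subgroup.map_commutator, htop]

theorem card_sylow_fac : (Nat.card G).factorization 3 = 3 := by
  haveI : Fact (Nat.Prime 3) := ⟨Nat.prime_three⟩
  obtain ⟨T⟩ : Nonempty (Sylow 3 G) := inferInstance
  have h27 := h.toCov.card_sylow T
  rw [T.card_eq_multiplicity] at h27
  exact Nat.pow_right_injective (by norm_num : 2 ≤ 3) (h27.trans (by norm_num : 27 = 3 ^ 3))

theorem card_three_le {R : Subgroup (Qt z)} (hR : IsPGroup 3 R) : Nat.card R ≤ 27 := by
  haveI : Fact (Nat.Prime 3) := ⟨Nat.prime_three⟩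
  obtain ⟨k, hk⟩ := IsPGroup.iff_card.1 hR
  have hd : 3 ^ k ∣ Nat.card G :=
    hk ▸ ((card_subgroup_dvd_card R).trans (card_quotient_dvd_card _)).trans (card_subgroup_dvd_card _)
  have hk3 := (Nat.prime_three.pow_dvd_iff_le_factorization Nat.card_pos.ne').1 hd
  rw [h.card_sylow_fac] at hk3
  rw [hk, show (27 : ℕ) = 3 ^ 3 by norm_num]
  exact Nat.pow_le_pow_right (by norm_num) hk3

theorem big_bar (R : Subgroup (Qt z)) (hR : IsPGroup 3 R) (hxR : bar z x ∈ R)
    (h27 : 27 ≤ Nat.card R)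
    (weak : ∀ a : Qt z, a * bar z x * a⁻¹ ∈ cen (bar z x) → a * bar z x * a⁻¹ ∈ zpowers (bar z x)) :
    R ≤ cen (bar z x) := by
  haveI : Fact (Nat.Prime 3) := ⟨Nat.prime_three⟩
  obtain ⟨S⟩ : Nonempty (Sylow 3 ↥(cen x)) := inferInstance
  let f : ↥(S : Subgroup ↥(cen x)) →* Qt z :=
    { toFun := fun c => bar z ((c : ↥(cen x)) : G)
      map_one' := bar_one
      map_mul' := fun a b => bar_mul (h.toCov.cen_le a.1.2) (h.toCov.cen_le b.1.2) }
  have hf : Function.Injective f := by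
    rw [injective_iff_map_eq_one]
    intro c hc
    obtain ⟨n, hn⟩ := S.2 c
    refine Subtype.ext (Subtype.ext (h.odd_core ((bar_eq_one (h.toCov.cen_le c.1.2)).1 hc) (n := 3 ^ n)
      ?_ (show Odd 3 from ⟨1, rfl⟩).pow))
    simpa using congrArg (fun u : ↥(S : Subgroup ↥(cen x)) => ((u : ↥(cen x)) : G)) hn
  have hR'c : Nat.card f.range = 27 := by
    rw [← Nat.card_congr (MonoidHom.ofInjective hf).toEquiv, S.card_eq_multiplicity, h.toCov.card_three]
  have hR' : IsPGroup 3 f.range := IsPGroup.of_card (n := 3) (by rw [hR'c]; norm_num)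
  have hR'x : f.range ≤ cen (bar z x) := by
    rintro _ ⟨c, rfl⟩; exact h.bar_mem c.1.2
  obtain ⟨U, hU⟩ := hR.exists_le_sylow
  obtain ⟨U', hU'⟩ := hR'.exists_le_sylow
  have eR : R = U := eq_of_le_of_card_ge hU ((h.card_three_le U.2).trans h27)
  have eR' : f.range = U' := eq_of_le_of_card_ge hU' ((h.card_three_le U'.2).trans hR'c.ge)
  obtain ⟨g, hg⟩ := MulAction.exists_smul_eq (Qt z) U' U
  have hconj : ∀ r ∈ R, ∃ r' ∈ f.range, g * r' * g⁻¹ = r := by
    intro r hr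
    rw [eR, ← hg, Sylow.coe_subgroup_smul] at hr
    obtain ⟨r', hr', e⟩ := hr
    exact ⟨r', eR'.ge hr', e⟩
  obtain ⟨r', hr', e⟩ := hconj _ hxR
  have hgx : g⁻¹ * bar z x * g⁻¹⁻¹ ∈ cen (bar z x) := by
    have e' : g⁻¹ * bar z x * g = r' := by rw [← e]; group
    rw [inv_inv, e']
    exact hR'x hr'
  have hgn : g ∈ normalizer (zpowers (bar z x) : Set (Qt z)) := by
    simpa using inv_mem (mem_normalizer_zpowers (weak g⁻¹ hgx))
  intro r hr
  obtain ⟨s, hs, rfl⟩ := hconj r hr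
  have hsx : Commute s (bar z x) := mem_cen.1 (hR'x hs)
  obtain ⟨k, hk⟩ := mem_zpowers_iff.1
    ((mem_normalizer_iff.1 (inv_mem hgn) _).1 (mem_zpowers (bar z x)))
  rw [inv_inv] at hk
  refine mem_cen.2 ?_
  have hk' : g * bar z x ^ k * g⁻¹ = bar z x := by rw [hk]; group
  calc g * s * g⁻¹ * bar z x = g * s * g⁻¹ * (g * bar z x ^ k * g⁻¹) := by rw [hk']
    _ = g * (s * bar z x ^ k) * g⁻¹ := by group
    _ = g * (bar z x ^ k * s) * g⁻¹ := by rw [(hsx.zpow_right k).eq]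
    _ = g * bar z x ^ k * g⁻¹ * (g * s * g⁻¹) := by group
    _ = _ := by rw [hk']

theorem weak_bar (a : Qt z) (ha : a * bar z x * a⁻¹ ∈ cen (bar z x)) :
    a * bar z x * a⁻¹ ∈ zpowers (bar z x) := by
  obtain ⟨g, hg, rfl⟩ := bar_surj a
  rw [← bar_conj hg h.xH] at ha ⊢
  set x' := g * x * g⁻¹ with hx'
  have x'3 : x' ^ 3 = 1 := by rw [hx', conj_pow, h.toCov.x3, mul_one, mul_inv_cancel]
  have hx'H : x' ∈ cen z := mul_mem (mul_mem hg h.xH) (inv_mem hg)
  obtain ⟨c, hc, c3, hce⟩ := h.lift_three ha (by rw [← bar_pow hx'H, x'3, bar_one])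
  by_contra hn
  have cn : c ∉ zpowers x := fun hm => hn (hce ▸ h.bar_zpowers hm)
  have hm : x' * c⁻¹ ∈ twoCoreOfCentralizer z := by
    rw [← bar_eq_one (mul_mem hx'H (inv_mem (h.toCov.cen_le hc))),
      bar_mul hx'H (inv_mem (h.toCov.cen_le hc)), bar_inv (h.toCov.cen_le hc), hce, mul_inv_cancel]
  have e := h.card_inf_congr hc c3 cn hc c3 x'3 hm fun e => cn (e ▸ one_mem _)
  rw [(h.card_core_inf hc c3 cn).1, hx', card_inf_conj _ fun r hr => h.core_conj hg hr,
    h.core_inf_x, Nat.card_zpowers, h.hz] at e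
  norm_num at e

theorem small_bar (v : Qt z) (hv : v ∈ cen (bar z x)) (v3 : v ^ 3 = 1)
    (vn : v ∉ zpowers (bar z x)) : cen v ≤ normalizer (zpowers (bar z x) : Set (Qt z)) := by
  intro q hq
  obtain ⟨c, hc, c3, rfl⟩ := h.lift_three hv v3
  have cn : c ∉ zpowers x := fun hm => vn (h.bar_zpowers hm)
  have hcH := h.toCov.cen_le hc
  obtain ⟨g, hg, rfl⟩ := bar_surj q
  obtain ⟨e, he, hge⟩ := h.exists_lift hg hcH c3 (mem_cen.1 hq)
  have hgeH : g * e ∈ cen z := mul_mem hg (h.core_le he)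
  obtain ⟨w, hw, i, hwi⟩ := h.x_conj_mod hc c3 cn (c := g * e) ⟨hgeH, hge⟩
  have := congrArg (bar z) hwi
  rw [bar_conj hgeH h.xH, bar_mul hg (h.core_le he), (bar_eq_one (h.core_le he)).2 he, mul_one,
    bar_mul (h.core_le hw) (pow_mem h.xH i), (bar_eq_one (h.core_le hw)).2 hw, one_mul,
    bar_pow h.xH] at this
  exact mem_normalizer_zpowers (this ▸ pow_mem (mem_zpowers _) i)

/-- the projection of the image of the cover onto M22 -/
noncomputable def piBar : ↥(cen (bar z x)) →* G22 :=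
  MonoidHom.mk' (fun q => h.pr (h.cen_bar q.2).choose) fun a b => by
    show h.pr (h.cen_bar (a * b).2).choose = h.pr (h.cen_bar a.2).choose * h.pr (h.cen_bar b.2).choose
    obtain ⟨ha, hae⟩ := (h.cen_bar a.2).choose_spec
    obtain ⟨hb, hbe⟩ := (h.cen_bar b.2).choose_spec
    obtain ⟨hab, habe⟩ := (h.cen_bar (a * b).2).choose_spec
    rw [← h.pr_mul ha hb]
    refine h.pr_congr hab (mul_mem ha hb) ?_
    rw [habe, bar_mul (h.toCov.cen_le ha) (h.toCov.cen_le hb), hae, hbe]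
    rfl

theorem piBar_apply {c : G} (hc : c ∈ cen x) : h.piBar ⟨bar z c, h.bar_mem hc⟩ = h.pr c := by
  obtain ⟨hs, hse⟩ := (h.cen_bar (h.bar_mem hc)).choose_spec
  exact h.pr_congr hs hc hse

/-- The local situation in the quotient. -/
noncomputable def loc : Loc (bar z x) where
  hx := h.orderOf_bar_x
  pi := h.piBar
  surj a := by
    obtain ⟨c, hc, rfl⟩ := h.toCov.pr_surj a
    exact ⟨⟨_, h.bar_mem hc⟩, h.piBar_apply hc⟩
  ker q := by
    obtain ⟨q, hq⟩ := q
    obtain ⟨c, hc, rfl⟩ := h.cen_bar hq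
    rw [h.piBar_apply hc]
    constructor
    · intro h1
      obtain ⟨i, j, rfl⟩ := (h.toCov.pr_eq_one hc).1 h1
      show bar z (z ^ i * x ^ j) ∈ zpowers (bar z x)
      have hzH : z ∈ cen z := mem_cen.2 rfl
      rw [bar_mul (pow_mem hzH i) (pow_mem h.xH j), bar_pow hzH, (bar_eq_one hzH).2 h.z_mem_core,
        one_pow, one_mul, bar_pow h.xH]
      exact pow_mem (mem_zpowers _) j
    · intro hm
      obtain ⟨k, hk⟩ : ∃ k : ℕ, bar z x ^ k = bar z c := mem_powers_iff_mem_zpowers.2 hm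
      rw [h.pr_congr hc (h.toCov.x_pow_mem k) (by rw [bar_pow h.xH, hk]), h.pr_pow h.toCov.x_mem,
        h.toCov.pr_x, one_pow]
  perf := h.cen_bar_perfect
  weak := h.weak_bar
  small := h.small_bar
  twist v hv v3 vn := by
    obtain ⟨c, hc, c3, rfl⟩ := h.lift_three hv v3
    obtain ⟨s, hs, hse⟩ := h.toCov.exists_twist hc c3 fun hm => vn (h.bar_zpowers hm)
    refine ⟨bar z s, h.bar_mem hs, ?_⟩
    rw [← bar_conj (h.toCov.cen_le hs) (h.toCov.cen_le hc), hse, bar_mul (h.toCov.cen_le hc) h.xH]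
  big R hR hxR h27 := h.big_bar R hR hxR h27 h.weak_bar
  inverting := by
    obtain ⟨g, hg⟩ := h.exists_inverting
    have hgz : g * z * g⁻¹ = z := h.toCov.norm_fix_z (by rw [hg]; exact inv_mem (mem_zpowers x))
    have hgH : g ∈ cen z := mem_cen.2 (mul_inv_eq_iff_eq_mul.1 hgz)
    exact ⟨bar z g, by rw [← bar_conj hgH h.xH, hg, bar_inv h.xH]⟩

end Hyp

end H54.Jan3
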