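import Cfsg.Agent.H54.Jan3.CoreOrder
import Cfsg.Agent.H31.Basic
import Cfsg.Agent.H76.Basic
import Cfsg.Agent.H6.Basic

/-!
`E` is extraspecial, given that M22 has no elementary abelian subgroup of order 32.
-/

set_option autoImplicit false

open Cfsg Subgroup
open scoped commutatorElement

namespace H54.Jan3

open H25.M22 (G22)

variable {G : Type*} [Group G]

theorem comm_central {t u p q : G} (c1 : Commute t p) (c2 : Commute u p) (c3 : Commute t q)
    (c4 : Commute u q) (c5 : Commute p q) : ⁅t * p, u * q⁆ = ⁅t, u⁆ := by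
  rw [commutatorElement_def, commutatorElement_def, mul_inv_rev, mul_inv_rev]
  calc t * p * (u * q) * (p⁻¹ * t⁻¹) * (q⁻¹ * u⁻¹)
      = t * (p * (u * q)) * p⁻¹ * t⁻¹ * q⁻¹ * u⁻¹ := by group
    _ = t * ((u * q) * p) * p⁻¹ * t⁻¹ * q⁻¹ * u⁻¹ := by rw [(c2.mul_left c5.symm).eq]
    _ = t * u * (q * (t⁻¹ * q⁻¹)) * u⁻¹ := by group
    _ = t * u * t⁻¹ * u⁻¹ := by
        rw [← mul_assoc q, (c3.inv_left).symm.eq, mul_inv_cancel_right]

namespace Hyp

variable {x z : G} (h : Hyp x z)
include h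

variable [Finite G]

local notation "E₀" => twoCoreOfCentralizer z

theorem card_core : Nat.card E₀ = 2 ^ 13 := by
  obtain ⟨y, hy, y3, yn⟩ := h.exists_noncentral
  exact (h.card_core_inf hy y3 yn).2

/-- A small subgroup of `E` normalised by the centraliser of `x` lies in `zpowers z`. -/
theorem le_of_small {R : Subgroup G} (hR : R ≤ E₀) (hn : ∀ c ∈ cen x, ∀ r ∈ R, c * r * c⁻¹ ∈ R)
    {n : ℕ} (hc : Nat.card R = 2 ^ n) (hn9 : n ≤ 9) : R ≤ zpowers z := by
  obtain ⟨r, hr, hro⟩ := h.exists_eleven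
  have hm := card_fix_modEq (p := 11) (by norm_num) R
    (by rw [← hro]; exact pow_orderOf_eq_one r) fun a ha => hn r hr a ha
  obtain ⟨k, hk⟩ := IsPGroup.iff_card.1 (h.core_p.to_le ((inf_le_left : R ⊓ cen r ≤ R).trans hR))
  have hkn : k ≤ n := (Nat.pow_le_pow_iff_right (a := 2) (by norm_num)).1
    (by rw [← hk, ← hc]; exact card_le_of_le inf_le_left)
  rw [hk, hc] at hm
  have e := two_pow_mod_eleven hkn hn9 hm
  have heq : R ⊓ cen r = R := eq_of_le_of_card_ge inf_le_left (by rw [hk, hc, e])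
  -- the elements of the cover centralising R form a normal subgroup, so all do
  let T : Subgroup G := cen x ⊓ centralizer (R : Set G)
  have hrT : r ∈ T := ⟨hr, mem_centralizer_iff.2 fun a ha => mem_cen.1 (heq.ge ha).2⟩
  let M : Subgroup G22 := (T.subgroupOf (cen x)).map h.pi
  have hTn : ∀ c ∈ cen x, ∀ t ∈ T, c * t * c⁻¹ ∈ T := by
    rintro c hc t ⟨ht1, ht2⟩
    refine mem_inf.2 ⟨mul_mem (mul_mem hc ht1) (inv_mem hc), mem_centralizer_iff.2 fun a ha => ?_⟩
    have ha' : c⁻¹ * a * c ∈ R := by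
      have := hn c⁻¹ (inv_mem hc) a ha
      rwa [inv_inv] at this
    have e := mem_centralizer_iff.1 ht2 _ ha'
    calc a * (c * t * c⁻¹) = c * ((c⁻¹ * a * c) * t) * c⁻¹ := by group
      _ = c * t * c⁻¹ * a := by rw [e]; group
  have hMn : M.Normal := by
    refine ⟨fun a ha b => ?_⟩
    obtain ⟨t, ht, rfl⟩ := ha
    obtain ⟨c, rfl⟩ := h.toCov.surj b
    exact ⟨c * t * c⁻¹, hTn _ c.2 _ ht, by simp⟩
  haveI := H42.J4.simple22
  have hMtop : M = ⊤ := by
    refine (hMn.eq_bot_or_eq_top).resolve_left fun e => ?_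
    have h1 : h.pr r = 1 := by
      rw [h.pr_def hr]; exact mem_bot.1 (e ▸ ⟨⟨r, hr⟩, hrT, rfl⟩)
    obtain ⟨i, j, hij⟩ := (h.toCov.pr_eq_one hr).1 h1
    have h6 : r ^ 6 = 1 := by
      rw [hij, h.toCov.ker_pow, mul_comm i, mul_comm j, pow_mul, pow_mul,
        show z ^ 6 = 1 from by rw [show (6 : ℕ) = 2 * 3 from rfl, pow_mul, h.toCov.z2, one_pow],
        show x ^ 6 = 1 from by rw [show (6 : ℕ) = 3 * 2 from rfl, pow_mul, h.x3, one_pow],
        one_pow, one_pow, one_mul]
    have := orderOf_dvd_of_pow_eq_one h6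
    rw [hro] at this
    norm_num at this
  -- every commutator of the cover centralises R
  have hCT : cen x ≤ centralizer (R : Set G) := by
    have split : ∀ a ∈ cen x, ∃ t ∈ T, ∃ i j : ℕ, a = t * (z ^ i * x ^ j) := by
      intro a ha
      obtain ⟨⟨t, htc⟩, ht, hta⟩ : h.pr a ∈ M := hMtop ▸ mem_top _
      have hp : h.pr (t⁻¹ * a) = 1 := by
        rw [h.pr_mul (inv_mem htc) ha, h.pr_inv htc, h.pr_def htc, hta, inv_mul_cancel]
      obtain ⟨i, j, hij⟩ := (h.toCov.pr_eq_one (mul_mem (inv_mem htc) ha)).1 hp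
      exact ⟨t, ht, i, j, by rw [← hij, mul_inv_cancel_left]⟩
    have key : ⁅cen x, cen x⁆ ≤ T := by
      rw [commutator_le]
      intro a ha b hb
      obtain ⟨t, ht, i, j, rfl⟩ := split a ha
      obtain ⟨u, hu, k, l, rfl⟩ := split b hb
      have hcen : ∀ c ∈ cen x, ∀ i j : ℕ, Commute c (z ^ i * x ^ j) := fun c hc i j =>
        ((show Commute c z from h.zcomm c hc).pow_right i).mul_right
          ((show Commute c x from mem_cen.1 hc).pow_right j)
      have hk1 := (mul_mem (pow_mem h.zC i) (h.toCov.x_pow_mem j))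
      have : ⁅t * (z ^ i * x ^ j), u * (z ^ k * x ^ l)⁆ = ⁅t, u⁆ := by
        exact comm_central (hcen t ht.1 i j) (hcen u hu.1 i j) (hcen t ht.1 k l) (hcen u hu.1 k l)
          (hcen _ hk1 k l)
      rw [this, commutatorElement_def]
      exact mul_mem (mul_mem (mul_mem ht hu) (inv_mem ht)) (inv_mem hu)
    intro c hc
    exact (key (h.perf.symm ▸ hc)).2
  intro a ha
  exact h.core_inf_x.le ⟨hR ha, mem_cen.2 (mem_centralizer_iff.1 (hCT h.x_mem) a ha)⟩

/-- The only subgroups of `E` containing `z` normalised by the centraliser of `x`. -/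
theorem eq_or_eq {R : Subgroup G} (hR : R ≤ E₀) (hzR : z ∈ R)
    (hn : ∀ c ∈ cen x, ∀ r ∈ R, c * r * c⁻¹ ∈ R) : R = zpowers z ∨ R = E₀ := by
  obtain ⟨y, hy, y3, yn⟩ := h.exists_noncentral
  obtain ⟨hy5, hE13⟩ := h.card_core_inf hy y3 yn
  have he := h.order_equation_sub hy y3 yn hR hzR hn
  obtain ⟨j, hj⟩ := IsPGroup.iff_card.1 (h.core_p.to_le ((inf_le_left : R ⊓ cen y ≤ R).trans hR))
  obtain ⟨n, hn'⟩ := IsPGroup.iff_card.1 (h.core_p.to_le hR)
  have hj5 : j ≤ 5 := (Nat.pow_le_pow_iff_right (a := 2) (by norm_num)).1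
    (by rw [← hj, ← hy5]; exact card_le_of_le (inf_le_inf_right _ hR))
  have hm := card_fix_modEq (p := 3) Nat.prime_three (R ⊓ cen y) h.x3 fun a ha =>
    mem_inf.2 ⟨hn x h.x_mem a ha.1,
      mul_mem (mul_mem (cen_symm hy) ha.2) (inv_mem (cen_symm hy))⟩
  have hfix : (R ⊓ cen y) ⊓ cen x = zpowers z := le_antisymm
    (fun a ha => h.core_inf_x.le ⟨hR ha.1.1, ha.2⟩)
    (zpowers_le.2 ⟨⟨hzR, cen_symm (h.toCov.cen_le hy)⟩, h.zC⟩)
  rw [hfix, Nat.card_zpowers, h.hz, hj] at hm
  rw [hn', hj, ← pow_mul, ← pow_add, show (4 : ℕ) = 2 ^ 2 from rfl, ← pow_add] at he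
  have hnj := Nat.pow_right_injective le_rfl he
  interval_cases j <;> (try (exact absurd hm (by decide)))
  · left
    refine (eq_of_le_of_card_ge (zpowers_le.2 hzR) ?_).symm
    rw [hn', Nat.card_zpowers, h.hz, show n = 1 by omega]; norm_num
  · left
    exact le_antisymm (h.le_of_small hR hn hn' (by omega)) (zpowers_le.2 hzR)
  · right
    exact eq_of_le_of_card_ge hR (by rw [hn', hE13, show n = 13 by omega])

theorem z_central_core {e : G} (he : e ∈ E₀) : e * z = z * e := mem_cen.1 (h.core_le he)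

omit [Finite G] in
theorem z_or {k : G} (hk : k ∈ zpowers z) : k = 1 ∨ k = z := by
  obtain ⟨m, rfl⟩ := mem_zpowers_iff.1 hk
  rcases Int.even_or_odd' m with ⟨q, rfl | rfl⟩
  · left; rw [zpow_mul, zpow_two, ← pow_two, h.toCov.z2, one_zpow]
  · right; rw [zpow_add, zpow_mul, zpow_two, ← pow_two, h.toCov.z2, one_zpow, one_mul, zpow_one]

/-- Commutators and squares in `E` lie in `zpowers z`. -/
theorem core_mod_z : (∀ a ∈ E₀, ∀ b ∈ E₀, a * b * a⁻¹ * b⁻¹ ∈ zpowers z) ∧
    ∀ a ∈ E₀, a * a ∈ zpowers z := by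
  haveI : Fact (Nat.Prime 2) := ⟨Nat.prime_two⟩
  have hcomm : ∀ a ∈ E₀, ∀ b ∈ E₀, a * b * a⁻¹ * b⁻¹ ∈ zpowers z := by
    set D := ⁅E₀, E₀⁆ ⊔ zpowers z with hD
    have hDle : D ≤ E₀ := sup_le (commutator_le.2 fun a ha b hb => by
      rw [commutatorElement_def]
      exact mul_mem (mul_mem (mul_mem ha hb) (inv_mem ha)) (inv_mem hb))
      (zpowers_le.2 h.z_mem_core)
    have hDn : ∀ c ∈ cen x, ∀ r ∈ D, c * r * c⁻¹ ∈ D := by
      intro c hc r hr
      have hle : D.map (MulAut.conj c).toMonoidHom ≤ D := by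
        rw [hD, Subgroup.map_sup, Subgroup.map_commutator]
        refine sup_le_sup (commutator_mono ?_ ?_) ?_
        · rintro _ ⟨e, he, rfl⟩; exact h.core_conj (h.toCov.cen_le hc) he
        · rintro _ ⟨e, he, rfl⟩; exact h.core_conj (h.toCov.cen_le hc) he
        · rw [MonoidHom.map_zpowers, zpowers_le]
          show c * z * c⁻¹ ∈ zpowers z
          rw [h.zcomm c hc, mul_inv_cancel_right]; exact mem_zpowers z
      exact hle ⟨r, hr, rfl⟩
    intro a ha b hb
    rcases h.eq_or_eq hDle (mem_sup_right (mem_zpowers z)) hDn with e | e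
    · rw [← e, ← commutatorElement_def]
      exact mem_sup_left (commutator_mem_commutator ha hb)
    · -- the derived group with the centre would be everything in a nilpotent group
      exfalso
      have hfr : ∀ v : E₀, v ∈ frattini E₀ ⊔ zpowers (⟨z, h.z_mem_core⟩ : E₀) := by
        intro v
        have hv : (v : G) ∈ D := e.ge v.2
        have hle : D ≤ (frattini E₀ ⊔ zpowers (⟨z, h.z_mem_core⟩ : E₀)).map (Subgroup.subtype E₀) := by
          rw [hD, Subgroup.map_sup]
          refine sup_le_sup ?_ (by rw [MonoidHom.map_zpowers]; rfl)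
          refine le_trans ?_ (Subgroup.map_mono (H6.commutator_le_frattini (p := 2) h.core_p))
          rw [_root_.commutator_def, Subgroup.map_commutator, ← MonoidHom.range_eq_map, range_subtype]
        obtain ⟨w, hw, hwv⟩ := hle hv
        exact Subtype.ext hwv ▸ hw
      have hz : zpowers (⟨z, h.z_mem_core⟩ : E₀) = ⊤ :=
        frattini_nongenerating (by rw [eq_top_iff]; exact fun v _ => by rw [sup_comm]; exact hfr v)
      have h13 := congrArg (fun H : Subgroup E₀ => Nat.card H) hz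
      simp only [Nat.card_zpowers, card_top, h.card_core] at h13
      rw [← Subgroup.orderOf_coe] at h13
      rw [h.hz] at h13
      norm_num at h13
  refine ⟨hcomm, ?_⟩
  -- elements with square in the centre form a subgroup
  let Sq : Subgroup G :=
    { carrier := {a | a ∈ E₀ ∧ a * a ∈ zpowers z}
      one_mem' := ⟨one_mem _, by rw [one_mul]; exact one_mem _⟩
      mul_mem' := by
        rintro a b ⟨ha, ha2⟩ ⟨hb, hb2⟩
        refine ⟨mul_mem ha hb, ?_⟩
        have hbb : Commute a (b * b) := by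
          rcases h.z_or hb2 with e | e <;> rw [e]
          · exact Commute.one_right _
          · exact h.z_central_core ha
        have hk : Commute a (b * a * b⁻¹ * a⁻¹) := by
          rcases h.z_or (hcomm b hb a ha) with e | e <;> rw [e]
          · exact Commute.one_right _
          · exact h.z_central_core ha
        have : a * b * (a * b) = (a * a) * (b * a * b⁻¹ * a⁻¹)⁻¹⁻¹ * (b * b) := by
          rw [inv_inv]
          calc a * b * (a * b) = a * (b * a * b⁻¹ * a⁻¹) * a * (b * b) := by group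
            _ = (b * a * b⁻¹ * a⁻¹) * a * a * (b * b) := by rw [hk.eq]
            _ = _ := by
              rw [mul_assoc (b * a * b⁻¹ * a⁻¹) a a, ((hk.mul_left hk).symm).eq]
        rw [this, inv_inv]
        exact mul_mem (mul_mem ha2 (hcomm b hb a ha)) hb2
      inv_mem' := by
        rintro a ⟨ha, ha2⟩
        exact ⟨inv_mem ha, by rw [← mul_inv_rev]; exact inv_mem ha2⟩ }
  have hSn : ∀ c ∈ cen x, ∀ r ∈ Sq, c * r * c⁻¹ ∈ Sq := by
    rintro c hc r ⟨hr, hr2⟩
    refine ⟨h.core_conj (h.toCov.cen_le hc) hr, ?_⟩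
    rw [show c * r * c⁻¹ * (c * r * c⁻¹) = c * (r * r) * c⁻¹ by group]
    rcases h.z_or hr2 with e | e <;> rw [e]
    · simp
    · rw [h.zcomm c hc, mul_inv_cancel_right]; exact mem_zpowers z
  intro a ha
  rcases h.eq_or_eq (R := Sq) (fun b hb => hb.1)
    ⟨h.z_mem_core, by rw [← pow_two, h.toCov.z2]; exact one_mem _⟩ hSn with e | e
  · exfalso
    have hsmall : ∀ (k : ℕ) (b : G), b ∈ E₀ → b ^ 2 ^ k = 1 → b ∈ zpowers z := by
      intro k
      induction k with
      | zero => intro b _ hb; rw [pow_zero, pow_one] at hb; rw [hb]; exact one_mem _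
      | succ k ih =>
        intro b hb hb2
        have hbb : b * b ∈ zpowers z := ih _ (mul_mem hb hb) (by
          rw [← pow_two, ← pow_mul, ← pow_succ', hb2])
        exact e.le ⟨hb, hbb⟩
    have hle : E₀ ≤ zpowers z := fun b hb => by
      obtain ⟨k, hk⟩ := h.core_p ⟨b, hb⟩
      exact hsmall k b hb (by simpa using congrArg (fun u : E₀ => (u : G)) hk)
    have := card_le_of_le hle
    rw [h.card_core, Nat.card_zpowers, h.hz] at this
    norm_num at this
  · exact (e.ge ha).2

/-- Conjugating the fixed points of `y` back into the cover is injective into M22. -/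
theorem not_elementary (hM : ∀ A : Subgroup G22, (∀ a ∈ A, a * a = 1) → Nat.card A ≠ 32) :
    ¬ ((∀ a ∈ E₀, ∀ b ∈ E₀, a * b = b * a) ∧ ∀ a ∈ E₀, a * a = 1) := by
  rintro ⟨-, hsq⟩
  obtain ⟨y, hy, y3, yn⟩ := h.exists_noncentral
  obtain ⟨hy5, -⟩ := h.card_core_inf hy y3 yn
  obtain ⟨g, hg⟩ := h.conj_x hy y3 yn
  set R := E₀ ⊓ cen y with hR
  have back : ∀ a ∈ R, g⁻¹ * a * g ∈ cen x := fun a ha => by
    have := conj_mem_cen g⁻¹ ha.2
    rwa [inv_inv, ← hg, show g⁻¹ * (g * x * g⁻¹) * g = x by group] at this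
  let f : R →* G22 :=
    { toFun := fun a => h.pr (g⁻¹ * a * g)
      map_one' := by
        show h.pr (g⁻¹ * ((1 : R) : G) * g) = 1
        rw [OneMemClass.coe_one, mul_one, inv_mul_cancel, h.pr_one]
      map_mul' := fun a b => by
        show h.pr (g⁻¹ * ((a : G) * b) * g) = _
        rw [← h.pr_mul (back _ a.2) (back _ b.2)]
        congr 1; group }
  have hf : Function.Injective f := by
    rw [injective_iff_map_eq_one]
    intro a ha
    have h2 : (g⁻¹ * (a : G) * g) ^ 2 ^ 1 = 1 := by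
      rw [pow_one, pow_two, show g⁻¹ * (a : G) * g * (g⁻¹ * a * g) = g⁻¹ * ((a : G) * a) * g by group,
        hsq _ a.2.1, mul_one, inv_mul_cancel]
    rcases h.toCov.ker_two (back _ a.2) ha h2 with e | e
    · refine Subtype.ext ?_
      calc (a : G) = g * (g⁻¹ * a * g) * g⁻¹ := by group
        _ = 1 := by rw [e]; group
    · exfalso
      have e' : g * z * g⁻¹ = (a : G) := by rw [← e]; group
      have hsC : g * z * g⁻¹ ∈ cen x := by
        have hxg : g⁻¹ * x * g ∈ cen x := by
          have := conj_mem_cen g⁻¹ (cen_symm hy)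
          rwa [inv_inv, ← hg, show g⁻¹ * (g * x * g⁻¹) * g = x by group] at this
        have := conj_mem_cen g (cen_symm (h.toCov.cen_le hxg))
        rwa [show g * (g⁻¹ * x * g) * g⁻¹ = x by group] at this
      rw [e'] at hsC
      rcases h.z_or (h.core_inf_x.le ⟨a.2.1, hsC⟩) with e1 | e1
      · exact h.toCov.z_ne (conj_eq_one_iff.1 (e'.trans e1))
      · exact h.z_moved hy y3 yn hg (e'.trans e1)
  refine hM f.range ?_ ?_
  · rintro _ ⟨a, rfl⟩
    rw [← map_mul, show a * a = 1 from Subtype.ext (hsq _ a.2.1), map_one]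
  · rw [← Nat.card_congr (MonoidHom.ofInjective hf).toEquiv, hR, hy5]; norm_num

theorem not_abelian (hM : ∀ A : Subgroup G22, (∀ a ∈ A, a * a = 1) → Nat.card A ≠ 32) :
    ¬ (∀ a ∈ E₀, ∀ b ∈ E₀, a * b = b * a) := by
  intro hc
  obtain ⟨-, hsq⟩ := h.core_mod_z
  let J : Subgroup G :=
    { carrier := {a | a ∈ E₀ ∧ a * a = 1}
      one_mem' := ⟨one_mem _, mul_one _⟩
      mul_mem' := by
        rintro a b ⟨ha, ha2⟩ ⟨hb, hb2⟩
        refine ⟨mul_mem ha hb, ?_⟩
        rw [mul_assoc, ← mul_assoc b, ← hc a ha b hb, ← mul_assoc, ← mul_assoc, ha2, one_mul, hb2]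
      inv_mem' := by
        rintro a ⟨ha, ha2⟩
        exact ⟨inv_mem ha, by rw [← mul_inv_rev, ha2, inv_one]⟩ }
  rcases h.eq_or_eq (R := J) (fun b hb => hb.1) ⟨h.z_mem_core, by rw [← pow_two, h.toCov.z2]⟩
    (fun c hc r hr => ⟨h.core_conj (h.toCov.cen_le hc) hr.1,
      by rw [show c * r * c⁻¹ * (c * r * c⁻¹) = c * (r * r) * c⁻¹ by group, hr.2]; simp⟩) with e | e
  · -- squaring maps E onto a group of order two with this kernel
    let f : E₀ →* G :=
      { toFun := fun a => (a : G) * a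
        map_one' := mul_one _
        map_mul' := fun a b => by
          show (a : G) * b * (a * b) = (a : G) * a * (b * b)
          rw [mul_assoc, ← mul_assoc (b : G), ← hc _ a.2 _ b.2, mul_assoc, mul_assoc] }
    have hk : Nat.card f.ker ≤ 2 := by
      have hinj : Function.Injective (fun a : f.ker => (⟨((a : E₀) : G),
          e.le ⟨(a : E₀).2, a.2⟩⟩ : zpowers z)) :=
        fun a b hab => Subtype.ext (Subtype.ext (congrArg (fun u : zpowers z => (u : G)) hab))
      have := Nat.card_le_card_of_injective _ hinj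
      rwa [Nat.card_zpowers, h.hz] at this
    have hr : Nat.card f.range ≤ 2 := by
      have hle : f.range ≤ zpowers z := by rintro _ ⟨a, rfl⟩; exact hsq _ a.2
      have := card_le_of_le hle
      rwa [Nat.card_zpowers, h.hz] at this
    have := card_mul_index f.ker
    rw [index_ker, h.card_core] at this
    nlinarith
  · exact h.not_elementary hM ⟨hc, fun a ha => (e.ge ha).2⟩

/-- The two-core is extraspecial. -/
theorem extraspecial (hM : ∀ A : Subgroup G22, (∀ a ∈ A, a * a = 1) → Nat.card A ≠ 32) :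
    IsExtraspecial 2 E₀ := by
  haveI : Fact (Nat.Prime 2) := ⟨Nat.prime_two⟩
  obtain ⟨hcomm, hsq⟩ := h.core_mod_z
  let zE : E₀ := ⟨z, h.z_mem_core⟩
  have hcen : center E₀ = zpowers zE := by
    let R : Subgroup G := (center E₀).map (Subgroup.subtype E₀)
    have hzR : z ∈ R := ⟨zE, mem_center_iff.2 fun a => Subtype.ext (h.z_central_core a.2), rfl⟩
    have hn : ∀ c ∈ cen x, ∀ r ∈ R, c * r * c⁻¹ ∈ R := by
      rintro c hc _ ⟨r, hr, rfl⟩
      refine ⟨⟨c * r * c⁻¹, h.core_conj (h.toCov.cen_le hc) r.2⟩, mem_center_iff.2 fun a => ?_, rfl⟩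
      have ha : c⁻¹ * (a : G) * c ∈ E₀ := by
        have := h.core_conj (inv_mem (h.toCov.cen_le hc)) a.2
        rwa [inv_inv] at this
      have e : c⁻¹ * (a : G) * c * r = r * (c⁻¹ * (a : G) * c) :=
        congrArg Subtype.val (mem_center_iff.1 hr ⟨_, ha⟩)
      refine Subtype.ext ?_
      show (a : G) * (c * r * c⁻¹) = c * r * c⁻¹ * a
      calc (a : G) * (c * r * c⁻¹) = c * (c⁻¹ * (a : G) * c * r) * c⁻¹ := by group
        _ = _ := by rw [e]; group
    rcases h.eq_or_eq (R := R) (map_subtype_le _) hzR hn with e | e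
    · apply Subgroup.map_injective (Subgroup.subtype_injective E₀)
      show R = _
      rw [e, MonoidHom.map_zpowers]; rfl
    · exfalso
      refine h.not_abelian hM fun a ha b hb => ?_
      obtain ⟨w, hw, hwb⟩ := e.ge hb
      have := congrArg Subtype.val (mem_center_iff.1 hw ⟨a, ha⟩)
      rw [← hwb]; exact this
  have hzc : Nat.card (center E₀) = 2 := by
    rw [hcen, Nat.card_zpowers, ← Subgroup.orderOf_coe]; exact h.hz
  have hz2 : zpowers zE = center E₀ := hcen.symm
  have hmem : ∀ a : E₀, (a : G) ∈ zpowers z → a ∈ center E₀ := fun a ha => by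
    rw [hcen]
    obtain ⟨k, hk⟩ := mem_zpowers_iff.1 ha
    exact mem_zpowers_iff.2 ⟨k, Subtype.ext (by rw [SubgroupClass.coe_zpow]; exact hk)⟩
  have hder : commutator E₀ ≤ center E₀ := by
    rw [_root_.commutator_def, commutator_le]
    intro a _ b _
    exact hmem _ (by rw [commutatorElement_def]; exact hcomm _ a.2 _ b.2)
  have hne : commutator E₀ ≠ ⊥ := fun e => h.not_abelian hM fun a ha b hb => by
    have : ⁅(⟨a, ha⟩ : E₀), ⟨b, hb⟩⁆ ∈ commutator E₀ := by
      rw [_root_.commutator_def]; exact commutator_mem_commutator (mem_top _) (mem_top _)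
    rw [e, mem_bot, commutatorElement_eq_one_iff_mul_comm] at this
    exact congrArg Subtype.val this
  have hd : commutator E₀ = center E₀ := by
    refine eq_of_le_of_card_ge hder ?_
    rw [hzc]
    exact (Subgroup.one_lt_card_iff_ne_bot _).2 hne
  have hfr : frattini E₀ = center E₀ := by
    refine le_antisymm (H31.frattini_le_of_pow_mem Nat.prime_two _ hder fun a => hmem _ ?_) ?_
    · rw [pow_two]; exact hsq _ a.2
    · rw [← hd]; exact H6.commutator_le_frattini (p := 2) h.core_p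
  exact ⟨⟨h.core_p, hfr, hd⟩, hzc⟩

end Hyp

end H54.Jan3
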