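import Cfsg.Agent.H54.Jan3.Fusion
import Cfsg.Agent.H54.Jan3.M22Local
import Cfsg.Agent.H79.CoprimeGen
import Cfsg.Agent.H1.Cores

/-!
The largest normal 2-subgroup `E` of the centraliser of `z` has order 2^13 and the centraliser in it
of a noncentral element of order three has order 2^5.
-/

set_option autoImplicit false

open Cfsg Subgroup
open scoped commutatorElement

namespace H54.Jan3

open H25.M22 (G22)

variable {G : Type*} [Group G]

/-- conjugation transports centralisers -/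
theorem conj_mem_cen {a b : G} (g : G) (h : a ∈ cen b) : g * a * g⁻¹ ∈ cen (g * b * g⁻¹) := by
  refine mem_cen.2 ?_
  calc g * a * g⁻¹ * (g * b * g⁻¹) = g * (a * b) * g⁻¹ := by group
    _ = _ := by rw [mem_cen.1 h]; group

theorem cen_symm {a b : G} (h : a ∈ cen b) : b ∈ cen a := mem_cen.2 (mem_cen.1 h).symm

theorem card_inf_conj [Finite G] (R : Subgroup G) {g v : G} (hR : ∀ r ∈ R, g * r * g⁻¹ ∈ R) :
    Nat.card (R ⊓ cen (g * v * g⁻¹) : Subgroup G) = Nat.card (R ⊓ cen v : Subgroup G) := by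
  have hmap : R.map (MulAut.conj g).toMonoidHom = R :=
    eq_of_le_of_card_ge (by rintro _ ⟨r, hr, rfl⟩; exact hR r hr)
      (by rw [Nat.card_congr (R.equivMapOfInjective (MulAut.conj g).toMonoidHom
        (MulAut.conj g).injective).toEquiv])
  have hc : (cen v).map (MulAut.conj g).toMonoidHom = cen (g * v * g⁻¹) := by
    ext a
    constructor
    · rintro ⟨b, hb, rfl⟩; exact conj_mem_cen g hb
    · intro ha
      refine ⟨g⁻¹ * a * g, ?_, show g * (g⁻¹ * a * g) * g⁻¹ = a by group⟩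
      have := conj_mem_cen g⁻¹ ha
      rwa [inv_inv, show g⁻¹ * (g * v * g⁻¹) * g = v by group] at this
  rw [← hc]
  conv_lhs => rw [← hmap]
  rw [← Subgroup.map_inf _ _ _ (MulAut.conj g).injective,
    Subgroup.card_map_of_injective (MulAut.conj g).injective]

namespace Cov

variable {x z : G} (d : Cov x z)
include d

theorem cen_le : cen x ≤ cen z := fun c hc => mem_cen.2 (d.zcomm c hc)

theorem two_normal [Finite G] {R : Subgroup G} (hRC : R ≤ cen x) (hR : IsPGroup 2 R)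
    (hn : ∀ c ∈ cen x, ∀ r ∈ R, c * r * c⁻¹ ∈ R) : R ≤ zpowers z := by
  let M : Subgroup G22 := (R.subgroupOf (cen x)).map d.pi
  have hMn : M.Normal := by
    refine ⟨fun a ha b => ?_⟩
    obtain ⟨r, hr, rfl⟩ := ha
    obtain ⟨c, rfl⟩ := d.surj b
    exact ⟨c * r * c⁻¹, hn _ c.2 _ hr, by simp⟩
  have hM2 : IsPGroup 2 M := (hR.comap_of_injective _ (cen x).subtype_injective).map _
  haveI := H42.J4.simple22
  have hbot : M = ⊥ := by
    rcases hMn.eq_bot_or_eq_top with e | e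
    · exact e
    · exfalso
      obtain ⟨k, hk⟩ := (IsPGroup.iff_card (p := 2)).1 hM2
      rw [e, card_top, H25.M22.card22] at hk
      have : 3 ∣ 2 ^ k := hk ▸ (by norm_num)
      exact absurd (Nat.prime_three.dvd_of_dvd_pow this) (by norm_num)
  intro r hr
  obtain ⟨n, hn'⟩ := hR ⟨r, hr⟩
  have hr1 : r ^ 2 ^ n = 1 := by simpa using congrArg (fun u : R => (u : G)) hn'
  have hpr : d.pr r = 1 := by
    rw [d.pr_def (hRC hr)]
    exact mem_bot.1 (hbot ▸ ⟨⟨r, hRC hr⟩, hr, rfl⟩)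
  rcases d.ker_two (hRC hr) hpr hr1 with h | h
  · rw [h]; exact one_mem _
  · rw [h]; exact mem_zpowers z

section Pair

variable [Finite G] {y : G} (hy : y ∈ cen x) (y3 : y ^ 3 = 1) (yn : y ∉ zpowers x)
include hy y3 yn

theorem mem_pair {w : G} : w ∈ zpowers x ⊔ zpowers y ↔ ∃ i < 3, ∃ j < 3, w = x ^ i * y ^ j := by
  have hc : Commute x y := (mem_cen.1 hy).symm
  constructor
  · intro h
    have hn : zpowers y ≤ normalizer (zpowers x : Set G) := zpowers_le.2 <| by
      refine mem_normalizer_iff.2 fun a => ?_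
      constructor
      · intro ha
        obtain ⟨k, rfl⟩ := mem_zpowers_iff.1 ha
        rw [((hc.symm).zpow_right k).eq, mul_inv_cancel_right]; exact zpow_mem (mem_zpowers x) k
      · intro ha
        obtain ⟨k, hk⟩ := mem_zpowers_iff.1 ha
        have : a = x ^ k := by
          calc a = y⁻¹ * (y * a * y⁻¹) * y := by group
            _ = y⁻¹ * (x ^ k * y) := by rw [← hk, mul_assoc]
            _ = _ := by rw [(hc.zpow_left k).eq, inv_mul_cancel_left]
        rw [this]; exact zpow_mem (mem_zpowers x) k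
    rw [← SetLike.mem_coe, Subgroup.coe_mul_of_right_le_normalizer_left _ _ hn] at h
    obtain ⟨a, ha, b, hb, rfl⟩ := h
    obtain ⟨i, rfl⟩ : ∃ i : ℕ, x ^ i = a := mem_powers_iff_mem_zpowers.2 ha
    obtain ⟨j, rfl⟩ : ∃ j : ℕ, y ^ j = b := mem_powers_iff_mem_zpowers.2 hb
    exact ⟨i % 3, Nat.mod_lt _ (by norm_num), j % 3, Nat.mod_lt _ (by norm_num), by
      rw [← pow_eq_pow_mod i d.x3, ← pow_eq_pow_mod j y3]⟩
  · rintro ⟨i, -, j, -, rfl⟩
    exact mul_mem (mem_sup_left (pow_mem (mem_zpowers x) i)) (mem_sup_right (pow_mem (mem_zpowers y) j))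

theorem pair_comm : IsMulCommutative ↥(zpowers x ⊔ zpowers y) := by
  refine ⟨⟨fun a b => Subtype.ext ?_⟩⟩
  obtain ⟨i, -, j, -, ha⟩ := (d.mem_pair hy y3 yn).1 a.2
  obtain ⟨k, -, l, -, hb⟩ := (d.mem_pair hy y3 yn).1 b.2
  have hc : Commute x y := (mem_cen.1 hy).symm
  show (a : G) * b = b * a
  rw [ha, hb]
  exact ((((Commute.refl x).pow_pow i k).mul_left (hc.symm.pow_pow j k)).mul_right
    (((hc.pow_pow i l)).mul_left ((Commute.refl y).pow_pow j l))).eq

theorem pair_pow {w : G} (hw : w ∈ zpowers x ⊔ zpowers y) : w ^ 3 = 1 := by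
  obtain ⟨i, -, j, -, rfl⟩ := (d.mem_pair hy y3 yn).1 hw
  rw [((show Commute x y from (mem_cen.1 hy).symm).pow_pow i j).mul_pow, ← pow_mul, ← pow_mul,
    mul_comm i, mul_comm j, pow_mul, pow_mul, d.x3, y3, one_pow, one_pow, one_mul]

theorem pair_le : zpowers x ⊔ zpowers y ≤ cen x :=
  sup_le (zpowers_le.2 d.x_mem) (zpowers_le.2 hy)

theorem card_pair : Nat.card ↥(zpowers x ⊔ zpowers y) = 9 := by
  have hy1 : y ≠ 1 := fun e => yn (e ▸ one_mem _)
  haveI : Fact (Nat.Prime 3) := ⟨Nat.prime_three⟩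
  have hn : zpowers x ≤ normalizer (zpowers y : Set G) :=
    le_trans (zpowers_le.2 (show x ∈ centralizer (zpowers y : Set G) from mem_centralizer_iff.2
      fun a ha => by
        obtain ⟨k, rfl⟩ := mem_zpowers_iff.1 ha
        exact ((show Commute y x from mem_cen.1 hy).zpow_left k).eq)) (centralizer_le_normalizer _)
  have hd : zpowers x ⊓ zpowers y = ⊥ := by
    rw [eq_bot_iff]
    rintro a ⟨hax, hay⟩
    rw [mem_bot]
    by_contra ha1
    have hxc : Nat.card (zpowers x) = 3 := by rw [Nat.card_zpowers, d.hx]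
    have hyc : Nat.card (zpowers y) = 3 := by rw [Nat.card_zpowers, orderOf_eq_prime y3 hy1]
    have e1 := Subgroup.eq_of_le_of_card_ge (zpowers_le.2 hax : zpowers a ≤ zpowers x)
    have ha3 : Nat.card (zpowers a) = 3 := by
      rcases (Nat.dvd_prime Nat.prime_three).1 (hxc ▸ card_dvd_of_le (zpowers_le.2 hax : zpowers a ≤ _))
        with h | h
      · exact absurd (zpowers_eq_bot.1 (Subgroup.eq_bot_of_card_eq _ h)) ha1
      · exact h
    have e2 := eq_of_le_of_card_ge (zpowers_le.2 hay : zpowers a ≤ zpowers y) (by rw [hyc, ha3])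
    exact yn (by rw [← e1 (by rw [hxc, ha3]), e2]; exact mem_zpowers y)
  have h := card_mul_sup hn
  rw [hd, Subgroup.card_bot, mul_one, Nat.card_zpowers, Nat.card_zpowers, d.hx,
    orderOf_eq_prime y3 hy1] at h
  exact h

theorem not_cyclic_pair : ¬ IsCyclic ↥(zpowers x ⊔ zpowers y) := by
  intro h
  obtain ⟨g, hg⟩ := h.exists_generator
  have h9 := orderOf_eq_card_of_forall_mem_zpowers hg
  rw [d.card_pair hy y3 yn] at h9
  have h3 : g ^ 3 = 1 := Subtype.ext (by simpa using d.pair_pow hy y3 yn g.2)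
  have := orderOf_dvd_of_pow_eq_one h3
  rw [h9] at this
  norm_num at this

theorem notMem_mul (j : ℕ) : y * x ^ j ∉ zpowers x := fun h => yn (by
  simpa using mul_mem h (inv_mem (pow_mem (mem_zpowers x) j)))

theorem twisted (j : ℕ) : y * x ^ j ∈ cen x ∧ (y * x ^ j) ^ 3 = 1 :=
  ⟨mul_mem hy (d.x_pow_mem j), d.pair_pow hy y3 yn
    (mul_mem (mem_sup_right (mem_zpowers y)) (mem_sup_left (pow_mem (mem_zpowers x) j)))⟩

theorem notMem_of_mem {i j : ℕ} (hj : j = 1 ∨ j = 2) : x ^ i * y ^ j ∉ zpowers x := fun hm => yn (by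
  have : y ^ j ∈ zpowers x := by simpa using mul_mem (inv_mem (pow_mem (mem_zpowers x) i)) hm
  rcases hj with rfl | rfl
  · simpa using this
  · have h2 : y = (y ^ 2) ^ 2 := by rw [← pow_mul, show (2 * 2 : ℕ) = 3 + 1 from rfl, pow_succ, y3, one_mul]
    rw [h2]; exact pow_mem this 2)

end Pair

end Cov

namespace Hyp

variable {x z : G} (h : Hyp x z)
include h

theorem core_le : twoCoreOfCentralizer z ≤ cen z := map_subtype_le _

theorem core_conj {g e : G} (hg : g ∈ cen z) (he : e ∈ twoCoreOfCentralizer z) :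
    g * e * g⁻¹ ∈ twoCoreOfCentralizer z := by
  obtain ⟨a, ha, rfl⟩ := he
  exact ⟨(⟨g, hg⟩ : cen z) * a * (⟨g, hg⟩ : cen z)⁻¹,
    (H1.pCore_normal' 2 ↥(cen z)).conj_mem a ha _, rfl⟩

theorem core_p : IsPGroup 2 (twoCoreOfCentralizer z) :=
  (H1.isPGroup_pCore 2 _).map _

theorem le_core {R : Subgroup G} (hR : IsPGroup 2 R) (hle : R ≤ cen z)
    (hn : ∀ g ∈ cen z, ∀ r ∈ R, g * r * g⁻¹ ∈ R) : R ≤ twoCoreOfCentralizer z := fun r hr => by
  haveI : (R.subgroupOf (cen z)).Normal := ⟨fun a ha g => hn g g.2 a ha⟩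
  exact ⟨⟨r, hle hr⟩, H1.le_pCore (N := R.subgroupOf (cen z)) (hR.comap_of_injective _ (cen z).subtype_injective) hr, rfl⟩

theorem z_mem_core : z ∈ twoCoreOfCentralizer z := by
  refine h.le_core (IsPGroup.of_card (n := 1) (by rw [Nat.card_zpowers, h.hz, pow_one]))
    (zpowers_le.2 (mem_cen.2 rfl)) (fun g hg r hr => ?_) (mem_zpowers z)
  obtain ⟨k, rfl⟩ := mem_zpowers_iff.1 hr
  rw [((show Commute g z from mem_cen.1 hg).zpow_right k).eq, mul_inv_cancel_right]
  exact zpow_mem (mem_zpowers z) k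

theorem odd_core [Finite G] {g : G} {n : ℕ} (hg : g ∈ twoCoreOfCentralizer z) (hn : g ^ n = 1)
    (hodd : Odd n) : g = 1 := by
  obtain ⟨k, hk⟩ := IsPGroup.iff_card.1 h.core_p
  have hd : orderOf g ∣ 2 ^ k := hk ▸ (twoCoreOfCentralizer z).orderOf_dvd_natCard hg
  exact orderOf_eq_one_iff.1 (Nat.eq_one_of_dvd_coprimes
    ((Nat.coprime_two_left.2 hodd).pow_left k) hd (orderOf_dvd_of_pow_eq_one hn))

variable [Finite G]

theorem core_inf_x : twoCoreOfCentralizer z ⊓ cen x = zpowers z := by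
  refine le_antisymm (h.toCov.two_normal inf_le_right (h.core_p.to_le inf_le_left) ?_)
    (zpowers_le.2 ⟨h.z_mem_core, h.zC⟩)
  rintro c hc r ⟨hr1, hr2⟩
  exact mem_inf.2 ⟨h.core_conj (h.toCov.cen_le hc) hr1, mul_mem (mul_mem hc hr2) (inv_mem hc)⟩

theorem not_dvd_core : ¬ 3 ∣ Nat.card (twoCoreOfCentralizer z) := fun hd => by
  obtain ⟨k, hk⟩ := IsPGroup.iff_card.1 h.core_p
  rw [hk] at hd
  exact absurd (Nat.prime_three.dvd_of_dvd_pow hd) (by norm_num)

theorem core_ne : twoCoreOfCentralizer z ≠ zpowers z := fun e => by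
  have hx : x ∈ cen z ⊓ centralizer (twoCoreOfCentralizer z : Set G) :=
    ⟨h.toCov.cen_le h.x_mem, mem_centralizer_iff.2 fun a ha => by
      rw [SetLike.mem_coe, e] at ha
      obtain ⟨k, rfl⟩ := mem_zpowers_iff.1 ha
      exact ((show Commute z x from h.zx).zpow_left k).eq⟩
  exact h.toCov.x_ne (h.odd_core (h.self hx) h.x3 ⟨1, rfl⟩)

section Noncentral

variable {y : G} (hy : y ∈ cen x) (y3 : y ^ 3 = 1) (yn : y ∉ zpowers x)
include hy y3 yn

theorem pair_norm_core :
    zpowers x ⊔ zpowers y ≤ normalizer (twoCoreOfCentralizer z : Set G) :=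
  H8.le_normalizer_of_conj_mem fun _ ha _ he =>
    h.core_conj (h.toCov.cen_le (h.toCov.pair_le hy y3 yn ha)) he

/-- The central involution of the centraliser of a noncentral element of order three is not `z`. -/
theorem z_moved {g : G} (hg : g * x * g⁻¹ = y) : g * z * g⁻¹ ≠ z := by
  intro hgz
  have hgH : g ∈ cen z := mem_cen.2 (mul_inv_eq_iff_eq_mul.1 hgz)
  have small : ∀ b : G, b ∈ cen x → b ^ 3 = 1 → b ∉ zpowers x →
      twoCoreOfCentralizer z ⊓ cen b ≤ zpowers z := by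
    intro b hb b3 bn
    obtain ⟨c, hc, hcb⟩ := h.toCov.three_conj hy y3 yn hb b3 bn
    have hkH : c * g ∈ cen z := mul_mem (h.toCov.cen_le hc) hgH
    have hk : c * g * x * (c * g)⁻¹ = b := by rw [← hcb, ← hg]; group
    have hcard := card_inf_conj (twoCoreOfCentralizer z) (g := c * g) (v := x)
      fun r hr => h.core_conj hkH hr
    rw [hk, h.core_inf_x] at hcard
    exact (eq_of_le_of_card_ge (zpowers_le.2 <| mem_inf.2 ⟨h.z_mem_core,
      cen_symm (h.toCov.cen_le hb)⟩) hcard.le).ge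
  haveI : Fact (Nat.Prime 3) := ⟨Nat.prime_three⟩
  haveI := h.toCov.pair_comm hy y3 yn
  refine h.core_ne (le_antisymm ?_ (zpowers_le.2 h.z_mem_core))
  refine H79.le_of_centralizers_le (fun a ha => h.toCov.pair_pow hy y3 yn ha)
    (h.toCov.not_cyclic_pair hy y3 yn) (h.pair_norm_core hy y3 yn)
    ((Nat.prime_three.coprime_iff_not_dvd.2 h.not_dvd_core).symm) fun a ha ha1 => ?_
  by_cases hax : a ∈ zpowers x
  · rintro e ⟨he1, he2⟩
    obtain ⟨k, hk⟩ := mem_powers_iff_mem_zpowers.2 hax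
    have hk' : ¬ 3 ∣ k := fun ⟨j, hj⟩ => ha1 (by
      rw [← hk]; show x ^ k = 1; rw [hj, pow_mul, h.x3, one_pow])
    obtain ⟨l, hl⟩ : ∃ l, (x ^ k) ^ l = x := exists_pow_eq_self_of_coprime
      (by rw [h.hx]; exact (Nat.prime_three.coprime_iff_not_dvd.2 hk').symm)
    have he : Commute e (x ^ k) := by
      rw [show x ^ k = a from hk]; exact mem_cen.1 he2
    have : e ∈ cen x := mem_cen.2 (hl ▸ (he.pow_right l).eq)
    exact h.core_inf_x.le ⟨he1, this⟩
  · exact small a (h.toCov.pair_le hy y3 yn ha) (h.toCov.pair_pow hy y3 yn ha) hax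

/-- Size of the fixed points and the normality of `x` modulo them. -/
theorem core_inf_bound :
    (∃ j, j ≤ 2 ∧ Nat.card (twoCoreOfCentralizer z ⊓ cen y : Subgroup G) = 2 ^ (2 * j + 1)) ∧
      (Nat.card (twoCoreOfCentralizer z ⊓ cen y : Subgroup G) = 2 ^ 5 →
        ∀ g : G, g * x * g⁻¹ = y → ∀ c ∈ cen z ⊓ cen y, ∃ w ∈ twoCoreOfCentralizer z,
          ∃ i a b : ℕ, c * x * c⁻¹ = w * x ^ i * (g * z * g⁻¹) ^ a * y ^ b) := by
  obtain ⟨g, hg⟩ := h.conj_x hy y3 yn
  set E := twoCoreOfCentralizer z with hE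
  set t := g⁻¹ * z * g with ht
  set u := g⁻¹ * x * g with hu
  have back : ∀ a : G, a ∈ cen y → g⁻¹ * a * g ∈ cen x := fun a ha => by
    have := conj_mem_cen g⁻¹ ha
    rwa [inv_inv, ← hg, show g⁻¹ * (g * x * g⁻¹) * g = x by group] at this
  have htC : t ∈ cen x := back z (cen_symm (h.toCov.cen_le hy))
  have huC : u ∈ cen x := back x (cen_symm hy)
  have ho : ∀ a : G, orderOf (g⁻¹ * a * g) = orderOf a := fun a => by
    rw [show g⁻¹ * a * g = MulAut.conj g⁻¹ a by simp]; exact MulEquiv.orderOf_eq _ a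
  have t2 : t ^ 2 = 1 := by rw [← h.hz, ← ho z]; exact pow_orderOf_eq_one t
  have u3 : u ^ 3 = 1 := by rw [← h.hx, ← ho x]; exact pow_orderOf_eq_one u
  have un : u ∉ zpowers x := fun hm => by
    obtain ⟨k, hk⟩ : ∃ k : ℕ, x ^ k = u := mem_powers_iff_mem_zpowers.2 hm
    have hk3 : k % 3 = 1 ∨ k % 3 = 2 := by
      rcases (show k % 3 = 0 ∨ k % 3 = 1 ∨ k % 3 = 2 by omega) with e | e
      · exfalso
        rw [pow_eq_pow_mod k h.x3, e, pow_zero] at hk
        have := ho x
        rw [← hu, ← hk, orderOf_one, h.hx] at this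
        omega
      · exact e
    have e1 : y ^ k = x := by
      rw [← hg, conj_pow, hk, hu]; group
    apply yn
    rcases hk3 with e | e <;> rw [pow_eq_pow_mod k y3, e] at e1
    · rw [pow_one] at e1; rw [e1]; exact mem_zpowers x
    · have : y = x ^ 2 := by
        rw [← e1, ← pow_mul, show (2 * 2 : ℕ) = 3 + 1 from rfl, pow_succ, y3, one_mul]
      rw [this]; exact pow_mem (mem_zpowers x) 2
  have hgz : g * z * g⁻¹ ≠ z := h.z_moved hy y3 yn hg
  have tne : ¬ (t = 1 ∨ t = z) := by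
    rintro (e | e)
    · have := ho z; rw [← ht, e, orderOf_one, h.hz] at this; omega
    · refine hgz ?_
      calc g * z * g⁻¹ = g * t * g⁻¹ := by rw [e]
        _ = z := by rw [ht]; group
  have htu : t * u = u * t := by
    have hc := (mem_cen.1 (h.toCov.cen_le h.x_mem)).symm
    calc t * u = g⁻¹ * (z * x) * g := by rw [ht, hu]; group
      _ = _ := by rw [hc, ht, hu]; group
  set W : Subgroup G := (E ⊓ cen y).map (MulAut.conj g⁻¹).toMonoidHom with hW
  have hWcard : Nat.card W = Nat.card (E ⊓ cen y : Subgroup G) :=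
    Subgroup.card_map_of_injective (MulAut.conj g⁻¹).injective
  have hWmem : ∀ w, w ∈ W ↔ g * w * g⁻¹ ∈ E ⊓ cen y := fun w => by
    rw [hW, Subgroup.mem_map_equiv]
    simp [MulAut.conj_symm_apply]
  have hWC : W ≤ cen x := fun w hw => by
    have := back _ ((hWmem w).1 hw).2
    rwa [show g⁻¹ * (g * w * g⁻¹) * g = w by group] at this
  have hWp : IsPGroup 2 W := (h.core_p.to_le inf_le_left).map _
  have hWtwo : ∀ w ∈ W, ∃ n, w ^ 2 ^ n = 1 := fun w hw => by
    obtain ⟨n, hn⟩ := hWp ⟨w, hw⟩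
    exact ⟨n, by simpa using congrArg (fun u : W => (u : G)) hn⟩
  have hWu : ∀ w ∈ W, w * u = u * w → w ∈ zpowers t := by
    intro w hw hwu
    have hc : g * w * g⁻¹ ∈ E ⊓ cen x := ⟨((hWmem w).1 hw).1, mem_cen.2 (by
      calc g * w * g⁻¹ * x = g * (w * u) * g⁻¹ := by rw [hu]; group
        _ = _ := by rw [hwu, hu]; group)⟩
    rw [h.core_inf_x] at hc
    obtain ⟨k, hk⟩ := mem_zpowers_iff.1 hc
    refine mem_zpowers_iff.2 ⟨k, ?_⟩
    rw [ht, show g⁻¹ * z * g = g⁻¹ * z * g⁻¹⁻¹ by rw [inv_inv], conj_zpow, hk, inv_inv]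
    group
  have tW : t ∈ W := (hWmem t).2 (by
    rw [show g * t * g⁻¹ = z by rw [ht]; group]
    exact ⟨h.z_mem_core, cen_symm (h.toCov.cen_le hy)⟩)
  have zW : z ∉ W := fun hzW => tne (by
    have := hWu z hzW (h.zcomm u huC).symm
    obtain ⟨k, hk⟩ : ∃ k : ℕ, t ^ k = z := mem_powers_iff_mem_zpowers.2 this
    rcases Nat.mod_two_eq_zero_or_one k with e | e <;> rw [pow_eq_pow_mod k t2, e] at hk
    · exact absurd (hk.symm.trans (pow_zero t)) h.toCov.z_ne
    · exact Or.inr (by rwa [pow_one] at hk))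
  have inj1 : ∀ w ∈ W, h.pr w = 1 → w = 1 := fun w hw hw1 => by
    obtain ⟨n, hn⟩ := hWtwo w hw
    rcases h.toCov.ker_two (hWC hw) hw1 hn with e | e
    · exact e
    · exact absurd (e ▸ hw) zW
  -- the images in M22
  set K : Subgroup G22 := ((cen t ⊓ cen x).subgroupOf (cen x)).map h.pi with hKdef
  set Wb : Subgroup G22 := (W.subgroupOf (cen x)).map h.pi with hWbdef
  have memK : ∀ c, c ∈ cen t → c ∈ cen x → h.pr c ∈ K := fun c hct hcx => by
    rw [h.pr_def hcx]; exact ⟨⟨c, hcx⟩, ⟨hct, hcx⟩, rfl⟩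
  have hWt : W ≤ cen t := fun w hw => by
    have := conj_mem_cen g⁻¹ (h.core_le ((hWmem w).1 hw).1)
    rwa [inv_inv, show g⁻¹ * (g * w * g⁻¹) * g = w by group] at this
  have tb2 : orderOf (h.pr t) = 2 := orderOf_eq_prime (by rw [← h.pr_pow htC, t2, h.pr_one])
    fun e => tne (h.toCov.ker_two htC e (n := 1) (by rwa [pow_one]))
  have ub3 : orderOf (h.pr u) = 3 := h.toCov.orderOf_pr huC u3 un
  have hKt : K ≤ centralizer ({h.pr t} : Set G22) := by
    rintro _ ⟨⟨c, hc⟩, ⟨hct, -⟩, rfl⟩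
    refine mem_centralizer_singleton_iff.2 ?_
    rw [← h.pr_def hc, ← h.pr_mul hc htC, ← h.pr_mul htC hc]
    exact congrArg _ (mem_cen.1 hct)
  have hKidx : Nat.card (centralizer ({h.pr t} : Set G22)) ≤ 2 * Nat.card K := by
    set T := centralizer ({h.pr t} : Set G22) with hTdef
    have key : ∀ k ∈ T, k ∈ K ∨ ∃ c, c ∈ cen x ∧ h.pr c = k ∧ c * t * c⁻¹ = t * z := by
      intro k hk
      obtain ⟨c, hc, rfl⟩ := h.toCov.pr_surj k
      have hpr : h.pr (t⁻¹ * (c * t * c⁻¹)) = 1 := by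
        rw [h.pr_mul (inv_mem htC) (mul_mem (mul_mem hc htC) (inv_mem hc)), h.pr_inv htC,
          h.pr_conj hc htC, mem_centralizer_singleton_iff.1 hk]
        group
      obtain ⟨i, j, hij⟩ := (h.toCov.pr_eq_one (mul_mem (inv_mem htC)
        (mul_mem (mul_mem hc htC) (inv_mem hc)))).1 hpr
      have hct : c * t * c⁻¹ = t * (z ^ i * x ^ j) := by rw [← hij]; group
      have hcm : Commute t (z ^ i * x ^ j) :=
        ((show Commute t z from h.zcomm t htC).pow_right i).mul_right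
          ((show Commute t x from mem_cen.1 htC).pow_right j)
      have hsq : (z ^ i * x ^ j) ^ (2 ^ 1) = 1 := by
        have e : (c * t * c⁻¹) ^ 2 = 1 := by rw [conj_pow, t2, mul_one, mul_inv_cancel]
        rw [hct, hcm.mul_pow, t2, one_mul] at e
        rwa [pow_one]
      rcases h.toCov.ker_two (mul_mem (pow_mem h.zC i) (h.toCov.x_pow_mem j))
        ((h.toCov.pr_eq_one (mul_mem (pow_mem h.zC i) (h.toCov.x_pow_mem j))).2 ⟨i, j, rfl⟩) hsq
        with e | e
      · left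
        rw [e, mul_one, mul_inv_eq_iff_eq_mul] at hct
        exact memK c (mem_cen.2 hct) hc
      · right; exact ⟨c, hc, rfl, by rw [hct, e]⟩
    by_cases hall : ∀ k ∈ T, k ∈ K
    · exact le_trans (card_le_of_le hall) (Nat.le_mul_of_pos_left _ (by norm_num))
    · push Not at hall
      obtain ⟨k₀, hk₀, hk₀n⟩ := hall
      obtain ⟨c₀, hc₀, hc₀k, hc₀t⟩ := (key k₀ hk₀).resolve_left hk₀n
      have hcover : ∀ k : T, (k : G22) ∈ K ∨ k₀⁻¹ * (k : G22) ∈ K := fun k => by
        rcases key k k.2 with e | ⟨c, hc, hck, hct⟩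
        · exact Or.inl e
        · right
          rw [← hc₀k, ← hck, ← h.pr_inv hc₀, ← h.pr_mul (inv_mem hc₀) hc]
          refine memK _ (mem_cen.2 (mul_inv_eq_iff_eq_mul.1 ?_)) (mul_mem (inv_mem hc₀) hc)
          calc c₀⁻¹ * c * t * (c₀⁻¹ * c)⁻¹ = c₀⁻¹ * (c * t * c⁻¹) * c₀ := by group
            _ = t := by rw [hct, ← hc₀t]; group
      classical
      let f : T → K ⊕ K := fun k => if hk : (k : G22) ∈ K then Sum.inl ⟨k, hk⟩
        else Sum.inr ⟨k₀⁻¹ * k, (hcover k).resolve_left hk⟩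
      have hf : Function.Injective f := by
        intro a b hab
        simp only [f] at hab
        split_ifs at hab with ha hb hb
        · have e := Sum.inl.inj hab
          exact Subtype.ext (Subtype.mk.inj e)
        · have e := Sum.inr.inj hab
          exact Subtype.ext (mul_left_cancel (Subtype.mk.inj e))
      have := Nat.card_le_card_of_injective f hf
      rw [Nat.card_sum] at this
      omega
  have hWbK : Wb ≤ K := by
    rintro _ ⟨⟨w, hw⟩, hwW, rfl⟩
    exact ⟨⟨w, hw⟩, ⟨hWt hwW, hw⟩, rfl⟩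
  have hKW : K ≤ normalizer (Wb : Set G22) := by
    refine H8.le_normalizer_of_conj_mem ?_
    rintro _ ⟨c, ⟨hct, -⟩, rfl⟩ _ ⟨w, hwW, rfl⟩
    refine ⟨c * w * c⁻¹, ?_, by simp⟩
    show (c : G) * w * (c : G)⁻¹ ∈ W
    rw [hWmem]
    have hcy : g * (c : G) * g⁻¹ ∈ cen y := hg ▸ conj_mem_cen g c.2
    have hcz : g * (c : G) * g⁻¹ ∈ cen z := by
      have := conj_mem_cen g hct
      rwa [show g * t * g⁻¹ = z by rw [ht]; group] at this
    have hwE := (hWmem (w : G)).1 hwW
    rw [show g * ((c : G) * w * (c : G)⁻¹) * g⁻¹ =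
      (g * (c : G) * g⁻¹) * (g * w * g⁻¹) * (g * (c : G) * g⁻¹)⁻¹ by group]
    exact mem_inf.2 ⟨h.core_conj hcz hwE.1, mul_mem (mul_mem hcy hwE.2) (inv_mem hcy)⟩
  have huW : ∀ w ∈ W, u * w * u⁻¹ ∈ W := fun w hw => by
    rw [hWmem, show g * (u * w * u⁻¹) * g⁻¹ = x * (g * w * g⁻¹) * x⁻¹ by rw [hu]; group]
    exact mem_inf.2 ⟨h.core_conj (h.toCov.cen_le h.x_mem) ((hWmem w).1 hw).1,
      mul_mem (mul_mem (cen_symm hy) ((hWmem w).1 hw).2) (inv_mem (cen_symm hy))⟩
  have hWbu : Wb ⊓ centralizer ({h.pr u} : Set G22) ≤ zpowers (h.pr t) := by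
    rintro _ ⟨⟨w, hwW, rfl⟩, hc⟩
    have hwu := mem_centralizer_singleton_iff.1 hc
    rw [← h.pr_def w.2] at hwu ⊢
    have hq : (w : G) * (u * (w : G)⁻¹ * u⁻¹) ∈ W :=
      mul_mem hwW (huW _ (inv_mem hwW))
    have hq1 : h.pr ((w : G) * (u * (w : G)⁻¹ * u⁻¹)) = 1 := by
      rw [h.pr_mul w.2 (mul_mem (mul_mem huC (inv_mem w.2)) (inv_mem huC)),
        h.pr_conj huC (inv_mem w.2), h.pr_inv w.2, ← mul_assoc, ← mul_assoc, hwu]
      group
    have hcom : (w : G) * u = u * w := by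
      have := inj1 _ hq hq1
      calc (w : G) * u = (w : G) * (u * (w : G)⁻¹ * u⁻¹) * (u * w) := by group
        _ = u * w := by rw [this, one_mul]
    obtain ⟨k, hk⟩ : ∃ k : ℕ, t ^ k = (w : G) := mem_powers_iff_mem_zpowers.2 (hWu w hwW hcom)
    rw [← hk, h.pr_pow htC]
    exact pow_mem (mem_zpowers _) k
  have htWb : h.pr t ∈ Wb := by rw [h.pr_def htC]; exact ⟨⟨t, htC⟩, tW, rfl⟩
  have hWb2 : IsPGroup 2 Wb := (hWp.comap_of_injective _ (cen x).subtype_injective).map _
  have hWbcard : Nat.card Wb = Nat.card W := by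
    rw [← Nat.card_congr (subgroupOfEquivOfLe hWC).toEquiv]
    refine (Nat.card_congr ((Equiv.ofBijective
      (fun a : W.subgroupOf (cen x) => (⟨h.pi a, ⟨a, a.2, rfl⟩⟩ : Wb)) ⟨?_, ?_⟩))).symm
    · intro a b hab
      have e : h.pi a = h.pi b := congrArg Subtype.val hab
      have e2 : h.pr ((a : cen x) * (b : cen x)⁻¹ : cen x) = 1 := by
        rw [h.pr_def (SetLike.coe_mem _)]
        show h.pi ((a : cen x) * (b : cen x)⁻¹) = 1
        rw [map_mul, map_inv, e, mul_inv_cancel]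
      have := inj1 _ (mul_mem a.2 (inv_mem b.2)) e2
      exact Subtype.ext (mul_inv_eq_one.1 (Subtype.ext this))
    · rintro ⟨_, a, ha, rfl⟩; exact ⟨⟨a, ha⟩, rfl⟩
  obtain ⟨h7, h7', h5⟩ := invol_local tb2 ub3
    (by rw [← h.pr_mul htC huC, ← h.pr_mul huC htC, htu]) hKt hKidx
    (memK u (mem_cen.2 htu.symm) huC) hWb2 hWbK hKW hWbu htWb
  -- parity of the exponent
  have hmod : Nat.card W % 3 = 2 := by
    haveI : Fact (Nat.Prime 3) := ⟨Nat.prime_three⟩
    have hcop : ¬ 3 ∣ Nat.card (E ⊓ cen y : Subgroup G) := fun hd =>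
      h.not_dvd_core (hd.trans (card_dvd_of_le inf_le_left))
    -- the group generated by `x` acts on the fixed points with `zpowers z` as fixed points
    let A := E ⊓ cen y
    let act : zpowers x →* Equiv.Perm A :=
    { toFun := fun a =>
        { toFun := fun w => ⟨(a : G) * w * (a : G)⁻¹, by
            have ha : (a : G) ∈ cen y ∧ (a : G) ∈ cen z :=
              ⟨(zpowers_le.2 (cen_symm hy)) a.2, (zpowers_le.2 (h.toCov.cen_le h.x_mem)) a.2⟩
            exact mem_inf.2 ⟨h.core_conj ha.2 w.2.1, mul_mem (mul_mem ha.1 w.2.2) (inv_mem ha.1)⟩⟩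
          invFun := fun w => ⟨(a : G)⁻¹ * w * (a : G), by
            have ha : (a : G)⁻¹ ∈ cen y ∧ (a : G)⁻¹ ∈ cen z :=
              ⟨inv_mem ((zpowers_le.2 (cen_symm hy)) a.2),
                inv_mem ((zpowers_le.2 (h.toCov.cen_le h.x_mem)) a.2)⟩
            have := And.intro (h.core_conj ha.2 w.2.1) (mul_mem (mul_mem ha.1 w.2.2) (inv_mem ha.1))
            rwa [inv_inv] at this⟩
          left_inv := fun w => Subtype.ext (by group)
          right_inv := fun w => Subtype.ext (by group) }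
      map_one' := Equiv.ext fun w => Subtype.ext (by simp)
      map_mul' := fun a b => Equiv.ext fun w => Subtype.ext (by simp [mul_assoc]) }
    letI : MulAction (zpowers x) A := MulAction.ofEndHom
      { toFun := fun a => (act a : A → A), map_one' := by rw [map_one]; rfl,
        map_mul' := fun a b => by rw [map_mul]; rfl }
    have hp : IsPGroup 3 (zpowers x) := IsPGroup.of_card (n := 1) (by rw [Nat.card_zpowers, h.hx, pow_one])
    have hm := hp.card_modEq_card_fixedPoints A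
    have hfix : Nat.card (MulAction.fixedPoints (zpowers x) A) = 2 := by
      rw [← h.hz, ← Nat.card_zpowers]
      refine Nat.card_congr
        { toFun := fun w => ⟨((w : A) : G), by
            rw [← h.core_inf_x]
            refine ⟨(w : A).2.1, mem_cen.2 ?_⟩
            have := congrArg Subtype.val (w.2 ⟨x, mem_zpowers x⟩)
            exact (mul_inv_eq_iff_eq_mul.1 (show x * ((w : A) : G) * x⁻¹ = (w : A) from this)).symm⟩
          invFun := fun w => ⟨⟨w, by
              have := h.core_inf_x.ge w.2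
              exact ⟨this.1, mem_cen.2 (by
                obtain ⟨k, hk⟩ := mem_zpowers_iff.1 w.2
                rw [← hk]
                exact ((show Commute z y from mem_cen.1 (cen_symm (h.toCov.cen_le hy))).zpow_left k).eq)⟩⟩,
            fun a => Subtype.ext (by
              obtain ⟨k, hk⟩ := mem_zpowers_iff.1 w.2
              have hc : Commute (a : G) (w : G) := by
                rw [← hk]
                exact (show Commute (a : G) z from
                  mem_cen.1 ((zpowers_le.2 (h.toCov.cen_le h.x_mem)) a.2)).zpow_right k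
              show (a : G) * (w : G) * (a : G)⁻¹ = w
              rw [hc.eq, mul_inv_cancel_right])⟩
          left_inv := fun w => rfl
          right_inv := fun w => rfl }
    rw [hWcard]
    have : Nat.card A % 3 = 2 % 3 := hfix ▸ hm
    exact this
  obtain ⟨j, hj⟩ := IsPGroup.iff_card.1 hWp
  refine ⟨?_, fun hc5 g' hg' c hc => ?_⟩
  · rw [← hWcard]
    have hj7 : j ≤ 7 := (Nat.pow_le_pow_iff_right (a := 2) (by norm_num)).1 (by rw [← hj, ← hWbcard]; exact h7)
    rw [hWbcard, hj] at h7'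
    rw [hj] at hmod ⊢
    refine ⟨(j - 1) / 2, ?_⟩
    interval_cases j <;> (try norm_num at hmod) <;> (try norm_num at h7') <;> norm_num
  · -- the chosen conjugating element may differ from `g`
    have hzz : g' * z * g'⁻¹ = g * z * g⁻¹ := by
      have e : g⁻¹ * g' * x * (g⁻¹ * g')⁻¹ = x := by
        calc g⁻¹ * g' * x * (g⁻¹ * g')⁻¹ = g⁻¹ * (g' * x * g'⁻¹) * g := by group
          _ = x := by rw [hg', ← hg]; group
      have := h.toCov.norm_fix_z (g := g⁻¹ * g') (by rw [e]; exact mem_zpowers x)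
      calc g' * z * g'⁻¹ = g * (g⁻¹ * g' * z * (g⁻¹ * g')⁻¹) * g⁻¹ := by group
        _ = _ := by rw [this]
    have hcC : g⁻¹ * c * g ∈ cen x := back c hc.2
    have hct : g⁻¹ * c * g ∈ cen t := by
      have := conj_mem_cen g⁻¹ hc.1
      rwa [inv_inv] at this
    have hk := h5 (by rw [hWbcard, hWcard, hc5]) _ (memK _ hct hcC)
    set c' := g⁻¹ * c * g with hc'
    have hun : zpowers (h.pr u) ≤ normalizer (Wb : Set G22) :=
      (zpowers_le.2 (memK u (mem_cen.2 htu.symm) huC)).trans hKW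
    rw [← SetLike.mem_coe, Subgroup.coe_mul_of_left_le_normalizer_right _ _ hun] at hk
    obtain ⟨ui, hui, wb, hwb, he⟩ := hk
    obtain ⟨i, rfl⟩ : ∃ i : ℕ, h.pr u ^ i = ui := mem_powers_iff_mem_zpowers.2 hui
    obtain ⟨w, hwW, rfl⟩ := hwb
    have he' : h.pr c' * h.pr u * (h.pr c')⁻¹ = h.pr u ^ i * h.pr (w : G) := by
      rw [h.pr_def w.2]; exact he.symm
    set w₁ := u ^ i * (w : G) * (u ^ i)⁻¹ with hw₁
    have hwW' : (w : G) ∈ W := hwW
    have hw₁W : w₁ ∈ W := by
      rw [hw₁]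
      clear hw₁ w₁ hui he he'
      induction i with
      | zero => simpa using hwW'
      | succ i ih =>
        rw [show u ^ (i + 1) * (w : G) * (u ^ (i + 1))⁻¹ = u * (u ^ i * (w : G) * (u ^ i)⁻¹) * u⁻¹ by
          rw [pow_succ']; group]
        exact huW _ ih
    have hrC : (w₁ * u ^ i)⁻¹ * (c' * u * c'⁻¹) ∈ cen x := mul_mem (inv_mem (mul_mem (hWC hw₁W) (pow_mem huC i)))
      (mul_mem (mul_mem hcC huC) (inv_mem hcC))
    have hr : h.pr ((w₁ * u ^ i)⁻¹ * (c' * u * c'⁻¹)) = 1 := by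
      rw [show w₁ * u ^ i = u ^ i * (w : G) by rw [hw₁]; group,
        h.pr_mul (inv_mem (mul_mem (pow_mem huC i) w.2)) (mul_mem (mul_mem hcC huC) (inv_mem hcC)),
        h.pr_inv (mul_mem (pow_mem huC i) w.2), h.pr_mul (pow_mem huC i) w.2, h.pr_pow huC,
        h.pr_conj hcC huC, he', inv_mul_cancel]
    obtain ⟨a, b, hab⟩ := (h.toCov.pr_eq_one hrC).1 hr
    refine ⟨g * w₁ * g⁻¹, ((hWmem w₁).1 hw₁W).1, i, a, b, ?_⟩
    rw [hzz]
    have hxg : ∀ n : ℕ, g * u ^ n * g⁻¹ = x ^ n := fun n => by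
      rw [← conj_pow, hu]; congr 1; group
    calc c * x * c⁻¹ = g * (c' * u * c'⁻¹) * g⁻¹ := by rw [hc', hu]; group
      _ = g * (w₁ * u ^ i * (z ^ a * x ^ b)) * g⁻¹ := by rw [← hab, mul_inv_cancel_left]
      _ = (g * w₁ * g⁻¹) * (g * u ^ i * g⁻¹) * (g * z ^ a * g⁻¹) * (g * x ^ b * g⁻¹) := by group
      _ = _ := by rw [hxg, ← conj_pow, ← conj_pow, hg]

end Noncentral

/-- A noncentral element of order three and its two twists. -/
theorem exists_noncentral : ∃ y ∈ cen x, y ^ 3 = 1 ∧ y ∉ zpowers x := by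
  obtain ⟨y, hy, y3, yn, -⟩ := h.fused
  exact ⟨y, hy, y3, yn⟩

end Hyp

end H54.Jan3
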